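/-
Burnside's theorem: a group containing a regular cyclic subgroup of composite prime power order is
imprimitive or doubly transitive.
-/
import Mathlib

set_option autoImplicit false
set_option linter.all false

open Equiv

namespace Cfsg.Agent.FG75.CyclicRegular

variable {n : ℕ} [NeZero n] (G : Subgroup (Perm (ZMod n)))

/-- The group contains the translations. -/
def HasShifts : Prop := ∀ a : ZMod n, Equiv.addRight a ∈ G

/-- A function fixed by the stabiliser of `0`. -/
def Inv {R : Type*} (f : ZMod n → R) : Prop := ∀ σ ∈ G, σ 0 = 0 → ∀ x, f (σ x) = f x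

/-- A set fixed by the stabiliser of `0`. -/
def InvSet (T : Set (ZMod n)) : Prop := ∀ σ ∈ G, σ 0 = 0 → ∀ x, σ x ∈ T ↔ x ∈ T

/-- The orbit of the stabiliser of `0`. -/
def orb (x : ZMod n) : Set (ZMod n) := {y | ∃ σ ∈ G, σ 0 = 0 ∧ σ x = y}

theorem mem_orb_self (x : ZMod n) : x ∈ orb G x := ⟨1, one_mem G, rfl, rfl⟩

theorem invSet_orb (x : ZMod n) : InvSet G (orb G x) := by
  intro σ hσ h0 y
  constructor
  · rintro ⟨τ, hτ, hτ0, hτx⟩
    refine ⟨σ⁻¹ * τ, mul_mem (inv_mem hσ) hτ, ?_, ?_⟩
    · rw [Perm.mul_apply, hτ0, Perm.inv_eq_iff_eq, h0]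
    · rw [Perm.mul_apply, hτx, Perm.inv_eq_iff_eq]
  · rintro ⟨τ, hτ, hτ0, rfl⟩
    exact ⟨σ * τ, mul_mem hσ hτ, by rw [Perm.mul_apply, hτ0, h0], rfl⟩

variable {G}

theorem orb_subset {T : Set (ZMod n)} (hT : InvSet G T) {x : ZMod n} (hx : x ∈ T) : orb G x ⊆ T := by
  rintro _ ⟨σ, hσ, h0, rfl⟩
  exact (hT σ hσ h0 x).2 hx

theorem orb_eq {x y : ZMod n} (h : y ∈ orb G x) : orb G y = orb G x := by
  refine Set.Subset.antisymm (orb_subset (invSet_orb G x) h) (orb_subset (invSet_orb G y) ?_)
  obtain ⟨σ, hσ, h0, rfl⟩ := h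
  exact ⟨σ⁻¹, inv_mem hσ, by rw [Perm.inv_eq_iff_eq, h0], by rw [Perm.inv_eq_iff_eq]⟩

theorem zero_not_mem_orb {x : ZMod n} (hx : x ≠ 0) : (0 : ZMod n) ∉ orb G x := by
  rintro ⟨σ, hσ, h0, hs⟩
  exact hx (σ.injective (hs.trans h0.symm))

/-- Invariant functions are functions of the difference. -/
theorem Inv.map_sub (hS : HasShifts G) {R : Type*} {f : ZMod n → R} (hf : Inv G f) {σ : Perm (ZMod n)}
    (hσ : σ ∈ G) (x y : ZMod n) : f (σ y - σ x) = f (y - x) := by
  have h := hf (Equiv.addRight (-(σ x)) * σ * Equiv.addRight x)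
    (mul_mem (mul_mem (hS _) hσ) (hS _)) (by simp) (y - x)
  simpa [sub_eq_add_neg] using h

theorem InvSet.map_sub (hS : HasShifts G) {T : Set (ZMod n)} (hT : InvSet G T) {σ : Perm (ZMod n)}
    (hσ : σ ∈ G) (x y : ZMod n) : σ y - σ x ∈ T ↔ y - x ∈ T := by
  have h : Inv G (fun z => z ∈ T) := fun τ hτ h0 z => propext (hT τ hτ h0 z)
  exact iff_of_eq (h.map_sub hS hσ x y)

/-- The number of representations as a difference in `T` is invariant. -/
theorem inv_diffCount (hS : HasShifts G) {T : Set (ZMod n)} (hT : InvSet G T) :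
    Inv G (fun z => {y : ZMod n | y ∈ T ∧ y - z ∈ T}.ncard) := by
  intro σ hσ h0 z
  have himg : {y : ZMod n | y ∈ T ∧ y - σ z ∈ T} = σ '' {y : ZMod n | y ∈ T ∧ y - z ∈ T} := by
    ext y
    obtain ⟨w, rfl⟩ := σ.surjective y
    rw [σ.injective.mem_set_image, Set.mem_ofPred_eq, Set.mem_ofPred_eq, hT σ hσ h0 w,
      hT.map_sub hS hσ z w]
  show Set.ncard _ = Set.ncard _
  rw [himg, Set.ncard_image_of_injective _ σ.injective]

section Power

variable {q : ℕ} [hq : Fact q.Prime]

theorem inv_mul (hS : HasShifts G) {a b : AddMonoidAlgebra (ZMod q) (ZMod n)}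
    (ha : Inv G (fun z => a.coeff z)) (hb : Inv G (fun z => b.coeff z)) :
    Inv G (fun z => (a * b).coeff z) := by
  intro σ hσ h0 z
  simp only [AddMonoidAlgebra.coeff_mul_apply_left]
  rw [Finsupp.sum_fintype _ _ (fun i => by simp), Finsupp.sum_fintype _ _ (fun i => by simp)]
  refine (Fintype.sum_equiv σ _ _ fun w => ?_).symm
  have h1 := ha σ hσ h0 w
  have h2 := hb.map_sub hS hσ w z
  simp only at h1 h2
  rw [h1, neg_add_eq_sub, neg_add_eq_sub, h2]

theorem inv_pow (hS : HasShifts G) {a : AddMonoidAlgebra (ZMod q) (ZMod n)}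
    (ha : Inv G (fun z => a.coeff z)) : ∀ k : ℕ, Inv G (fun z => (a ^ (k + 1)).coeff z) := by
  intro k
  induction k with
  | zero => simpa using ha
  | succ k ih => rw [pow_succ]; exact inv_mul hS ih ha

/-- Schur: the multiplicities of `q • T`, read modulo the prime `q`, are invariant. -/
theorem inv_primeMul (hS : HasShifts G) {T : Set (ZMod n)} (hT : InvSet G T) :
    Inv G (fun z => (({x : ZMod n | x ∈ T ∧ q • x = z}.ncard : ℕ) : ZMod q)) := by
  classical
  haveI : CharP (AddMonoidAlgebra (ZMod q) (ZMod n)) q :=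
    charP_of_injective_ringHom (f := AddMonoidAlgebra.singleZeroRingHom)
      (fun a b h => AddMonoidAlgebra.single_right_injective h) q
  set a : AddMonoidAlgebra (ZMod q) (ZMod n) :=
    ∑ x ∈ T.toFinset, AddMonoidAlgebra.single x 1 with ha
  have hcoe : ∀ z, a.coeff z = if z ∈ T then 1 else 0 := by
    intro z
    rw [ha, AddMonoidAlgebra.coeff_sum, Finsupp.finsetSum_apply]
    simp only [AddMonoidAlgebra.coeff_single, Finsupp.single_apply, Finset.sum_ite_eq',
      Set.mem_toFinset]
  have hinv : Inv G (fun z => a.coeff z) := fun σ hσ h0 z => by simp only [hcoe, hT σ hσ h0 z]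
  have h := inv_pow hS hinv (q - 1)
  rw [Nat.sub_add_cancel hq.out.one_le, ha, sum_pow_char q] at h
  simp only [AddMonoidAlgebra.single_pow, one_pow] at h
  intro σ hσ h0 z
  have h' := h σ hσ h0 z
  have key : ∀ w, (∑ x ∈ T.toFinset, AddMonoidAlgebra.single (q • x) (1 : ZMod q)).coeff w
      = (({x : ZMod n | x ∈ T ∧ q • x = w}.ncard : ℕ) : ZMod q) := by
    intro w
    rw [AddMonoidAlgebra.coeff_sum, Finsupp.finsetSum_apply]
    simp only [AddMonoidAlgebra.coeff_single, Finsupp.single_apply, Finset.sum_boole]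
    congr 1
    rw [Set.ncard_eq_toFinset_card']
    congr 1
    ext x
    simp
  simpa only [key] using h'

end Power

/-- Multiplication by a number prime to `n` permutes the invariant sets. -/
theorem invSet_mul (hS : HasShifts G) {T : Set (ZMod n)} (hT : InvSet G T) {t : ℕ}
    (ht : t.Coprime n) : InvSet G ((fun x => (t : ZMod n) * x) '' T) := by
  induction t using induction_on_primes generalizing T with
  | zero =>
    rw [Nat.coprime_zero_left] at ht
    subst ht
    intro σ _ _ x
    rw [Subsingleton.elim (σ x) x]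
  | one =>
    simpa using hT
  | prime_mul q t hq ih =>
    haveI := Fact.mk hq
    have hq' : q.Coprime n := ht.coprime_mul_right
    have hinj : Function.Injective (fun x : ZMod n => (q : ZMod n) * x) :=
      ((ZMod.isUnit_iff_coprime _ _).2 hq').mul_right_injective
    have hT' : InvSet G ((fun x => (q : ZMod n) * x) '' T) := by
      have key : ∀ z, (({x : ZMod n | x ∈ T ∧ q • x = z}.ncard : ℕ) : ZMod q) ≠ 0 ↔
          z ∈ (fun x => (q : ZMod n) * x) '' T := by
        intro z
        by_cases hz : z ∈ (fun x => (q : ZMod n) * x) '' T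
        · obtain ⟨x, hx, rfl⟩ := hz
          rw [show {y : ZMod n | y ∈ T ∧ q • y = (q : ZMod n) * x} = {x} by
            ext y
            simp only [Set.mem_ofPred_eq, Set.mem_singleton_iff, nsmul_eq_mul]
            exact ⟨fun h => hinj h.2, fun h => by subst h; exact ⟨hx, rfl⟩⟩]
          simp [Set.mem_image_of_mem _ hx]
        · rw [show {y : ZMod n | y ∈ T ∧ q • y = z} = ∅ by
            ext y
            simp only [Set.mem_ofPred_eq, Set.mem_empty_iff_false, iff_false, nsmul_eq_mul]
            exact fun h => hz ⟨y, h.1, h.2⟩]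
          simp [hz]
      intro σ hσ h0 z
      rw [← key, ← key]
      exact not_congr (Eq.congr_left (inv_primeMul (q := q) hS hT σ hσ h0 z))
    have h := ih hT' ht.coprime_mul_left
    rw [Set.image_image] at h
    have heq : (fun x : ZMod n => ((q * t : ℕ) : ZMod n) * x) = fun x => (t : ZMod n) * ((q : ZMod n) * x) := by
      funext x
      push_cast
      ring
    rw [heq]
    exact h

theorem image_orb (hS : HasShifts G) {t : ZMod n} (ht : IsUnit t) (x : ZMod n) :
    (fun y => t * y) '' orb G x = orb G (t * x) := by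
  have key : ∀ (t : ZMod n), IsUnit t → ∀ x, orb G (t * x) ⊆ (fun y => t * y) '' orb G x := by
    intro t ht x
    refine orb_subset ?_ ⟨x, mem_orb_self G x, rfl⟩
    have := invSet_mul hS (invSet_orb G x) (t := t.val)
      ((ZMod.isUnit_iff_coprime t.val n).1 (by rwa [ZMod.natCast_zmod_val]))
    rwa [ZMod.natCast_zmod_val] at this
  refine Set.Subset.antisymm ?_ (key t ht x)
  obtain ⟨u, rfl⟩ := ht
  rintro _ ⟨y, hy, rfl⟩
  have h2 := key (↑u⁻¹ : ZMod n) (Units.isUnit _) ((u : ZMod n) * x)
  rw [Units.inv_mul_cancel_left] at h2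
  obtain ⟨z, hz, rfl⟩ := h2 hy
  simpa using hz

/-- An invariant set of nonzero elements inside a proper subgroup gives an invariant subgroup. -/
theorem exists_of_invSet (hS : HasShifts G) {U : Set (ZMod n)} (hU : InvSet G U)
    {B : AddSubgroup (ZMod n)} (hUB : U ⊆ B) (hB : B ≠ ⊤) (hne : ∃ x ∈ U, x ≠ 0) :
    ∃ K : AddSubgroup (ZMod n), K ≠ ⊥ ∧ K ≠ ⊤ ∧ ∀ σ ∈ G, ∀ x y, y - x ∈ K → σ y - σ x ∈ K := by
  refine ⟨AddSubgroup.closure U, fun h => ?_, fun h => ?_, ?_⟩
  · obtain ⟨x, hx, hx0⟩ := hne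
    have := AddSubgroup.subset_closure hx
    rw [h] at this
    exact hx0 (AddSubgroup.mem_bot.1 this)
  · exact hB (top_le_iff.1 (h ▸ (AddSubgroup.closure_le B).2 hUB))
  · let L : AddSubgroup (ZMod n) :=
      { carrier := {d | ∀ σ ∈ G, ∀ x, σ (x + d) - σ x ∈ AddSubgroup.closure U}
        zero_mem' := fun σ _ x => by simp
        add_mem' := fun {a b} ha hb σ hσ x => by
          have := add_mem (hb σ hσ (x + a)) (ha σ hσ x)
          rwa [sub_add_sub_cancel, add_assoc] at this
        neg_mem' := fun {a} ha σ hσ x => by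
          have := neg_mem (ha σ hσ (x + -a))
          rwa [neg_sub, neg_add_cancel_right] at this }
    have hL : AddSubgroup.closure U ≤ L := (AddSubgroup.closure_le L).2 fun u hu σ hσ x =>
      AddSubgroup.subset_closure ((hU.map_sub hS hσ x (x + u)).2 (by rwa [add_sub_cancel_left]))
    intro σ hσ x y h
    have := hL h σ hσ x
    rwa [add_sub_cancel] at this

/-- Burnside's theorem on regular cyclic subgroups of order `p^m`, in normalised form. -/
theorem exists_invariant_subgroup (p m : ℕ) [hp : Fact p.Prime] (hm : 2 ≤ m) (hn : n = p ^ m)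
    (hS : HasShifts G) (hnt : ¬ ∀ x y : ZMod n, x ≠ 0 → y ≠ 0 → y ∈ orb G x) :
    ∃ K : AddSubgroup (ZMod n), K ≠ ⊥ ∧ K ≠ ⊤ ∧ ∀ σ ∈ G, ∀ x y, y - x ∈ K → σ y - σ x ∈ K := by
  classical
  by_contra hcon
  have hpn : p ∣ n := hn ▸ dvd_pow_self p (by omega)
  let π := ZMod.castHom hpn (ZMod p)
  set E := p ^ (m - 1) with hE
  have hnE : n = p * E := by rw [hn, hE, ← pow_succ']; congr 1; omega
  have hE1 : 1 < E := Nat.one_lt_pow (by omega) hp.out.one_lt
  set e : ZMod n := ((E : ℕ) : ZMod n) with he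
  -- multiples of `p`
  let B : AddSubgroup (ZMod n) := π.toAddMonoidHom.ker
  have hB : B ≠ ⊤ := fun h => by
    have : π 1 = 0 := (h ▸ AddSubgroup.mem_top _ : (1 : ZMod n) ∈ B)
    rw [map_one] at this
    exact one_ne_zero this
  have hpdiv : ∀ x : ZMod n, π x = 0 → ∃ w : ZMod n, x = (p : ZMod n) * w := by
    intro x hx
    rw [ZMod.castHom_apply, ZMod.cast_eq_val, ZMod.natCast_eq_zero_iff] at hx
    obtain ⟨c, hc⟩ := hx
    exact ⟨c, by rw [← ZMod.natCast_zmod_val x, hc, Nat.cast_mul]⟩
  have hπp : ∀ w : ZMod n, π ((p : ZMod n) * w) = 0 := fun w => by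
    rw [map_mul, map_natCast, ZMod.natCast_self, zero_mul]
  have hpe : (p : ZMod n) * e = 0 := by rw [he, ← Nat.cast_mul, ← hnE, ZMod.natCast_self]
  -- `e` sees only the residue mod `p`
  have heπ : ∀ x : ZMod n, x * e = ((π x).val : ZMod n) * e := by
    intro x
    have h0 : π (x - ((π x).val : ZMod n)) = 0 := by
      rw [map_sub, map_natCast, ZMod.natCast_zmod_val, sub_self]
    obtain ⟨w, hw⟩ := hpdiv _ h0
    have : (x - ((π x).val : ZMod n)) * e = 0 := by rw [hw, mul_right_comm, hpe, zero_mul]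
    linear_combination this
  have hπe : π e = 0 := by
    rw [he, map_natCast, ZMod.natCast_eq_zero_iff]
    exact dvd_pow_self p (by omega)
  have he0 : ∀ a : ZMod p, a ≠ 0 → (a.val : ZMod n) * e ≠ 0 := by
    intro a ha h
    rw [he, ← Nat.cast_mul, ZMod.natCast_eq_zero_iff, hnE] at h
    have h1 := Nat.dvd_of_mul_dvd_mul_right (by omega : 0 < E) h
    have h2 := Nat.le_of_dvd (Nat.pos_of_ne_zero fun h0 => ha ((ZMod.val_eq_zero a).1 h0)) h1
    have := ZMod.val_lt a
    omega
  -- the kernel of multiplication by `p`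
  have hker : ∀ x : ZMod n, (p : ZMod n) * x = 0 ↔ ∃ a : ZMod p, x = (a.val : ZMod n) * e := by
    intro x
    constructor
    · intro h
      rw [← ZMod.natCast_zmod_val x, ← Nat.cast_mul, ZMod.natCast_eq_zero_iff] at h
      obtain ⟨c, hc⟩ := Nat.dvd_of_mul_dvd_mul_left hp.out.pos ((dvd_of_eq hnE.symm).trans h)
      refine ⟨(c : ZMod p), ?_⟩
      have hc' := heπ (c : ZMod n)
      rw [map_natCast] at hc'
      rw [← hc', he, ← Nat.cast_mul, mul_comm c E, ← hc, ZMod.natCast_zmod_val]
    · rintro ⟨a, rfl⟩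
      rw [mul_left_comm, hpe, mul_zero]
  -- step A: periodicity outside the subgroup of order `p`
  have hper : ∀ T : Set (ZMod n), InvSet G T → ∀ y ∈ T, (p : ZMod n) * y ≠ 0 →
      ∀ a : ZMod p, y + (a.val : ZMod n) * e ∈ T := by
    intro T hT y hy hy0
    set N : ZMod n → ZMod p := fun z => (({x : ZMod n | x ∈ T ∧ p • x = z}.ncard : ℕ) : ZMod p)
    by_cases hall : ∀ z, z ≠ 0 → N z = 0
    · have h1 := hall _ hy0
      simp only [N] at h1
      rw [ZMod.natCast_eq_zero_iff] at h1
      set F := {x : ZMod n | x ∈ T ∧ p • x = (p : ZMod n) * y}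
      set I := Set.range (fun a : ZMod p => y + (a.val : ZMod n) * e)
      have hsub : F ⊆ I := by
        rintro x ⟨-, hx⟩
        rw [nsmul_eq_mul] at hx
        obtain ⟨a, ha⟩ := (hker (x - y)).1 (by rw [mul_sub, hx, sub_self])
        exact ⟨a, by show y + _ = x; rw [← ha]; ring⟩
      have hI : I.ncard ≤ p := by
        refine le_trans ?_ (le_of_eq (Nat.card_zmod p))
        rw [← Nat.card_coe_set_eq]
        exact Finite.card_range_le _
      have hpos : 0 < F.ncard := (Set.ncard_pos (Set.toFinite _)).2 ⟨y, hy, by rw [nsmul_eq_mul]⟩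
      have hIF : F = I := Set.eq_of_subset_of_ncard_le hsub
        (hI.trans (Nat.le_of_dvd hpos h1)) (Set.toFinite _)
      intro a
      have : y + (a.val : ZMod n) * e ∈ F := hIF ▸ ⟨a, rfl⟩
      exact this.1
    · exfalso
      push Not at hall
      obtain ⟨z, hz0, hz⟩ := hall
      refine hcon (exists_of_invSet hS (U := {w | N w ≠ 0 ∧ w ≠ 0}) (B := B) ?_ ?_ hB
        ⟨z, ⟨hz, hz0⟩, hz0⟩)
      · intro σ hσ h0 w
        have h1 : N (σ w) = N w := inv_primeMul (q := p) hS hT σ hσ h0 w
        simp only [Set.mem_ofPred_eq, h1]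
        refine and_congr Iff.rfl (not_congr ?_)
        rw [← h0, σ.injective.eq_iff, h0]
      · rintro w ⟨hw, -⟩
        obtain ⟨x, -, hx⟩ : ∃ x, x ∈ T ∧ p • x = w := by
          by_contra hno
          push Not at hno
          apply hw
          simp only [N]
          rw [show {x : ZMod n | x ∈ T ∧ p • x = w} = ∅ by
            ext x; simpa using fun h => hno x h]
          simp
        show π w = 0
        rw [← hx, nsmul_eq_mul, hπp]
  -- step B: every orbit meets the subgroup of order `p`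
  have hmeet : ∀ x : ZMod n, x ≠ 0 → ∃ a : ZMod p, a ≠ 0 ∧ (a.val : ZMod n) * e ∈ orb G x := by
    intro x hx
    by_contra hno
    push Not at hno
    set T := orb G x with hT
    have h0T : (0 : ZMod n) ∉ T := zero_not_mem_orb hx
    have hTp : ∀ y ∈ T, (p : ZMod n) * y ≠ 0 := fun y hy h => by
      obtain ⟨a, rfl⟩ := (hker y).1 h
      refine hno a ?_ hy
      rintro rfl
      simp at hy
      exact h0T hy
    have hcnt := inv_diffCount hS (invSet_orb G x)
    set S : Set (ZMod n) := {c | {y : ZMod n | y ∈ T ∧ y - c ∈ T}.ncard = T.ncard}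
    have hSmem : ∀ c, c ∈ S ↔ ∀ y ∈ T, y - c ∈ T := by
      intro c
      constructor
      · intro h y hy
        have heq : {y : ZMod n | y ∈ T ∧ y - c ∈ T} = T :=
          Set.eq_of_subset_of_ncard_le (fun w hw => hw.1) (le_of_eq h.symm) (Set.toFinite _)
        exact (heq.symm ▸ hy : y ∈ {y : ZMod n | y ∈ T ∧ y - c ∈ T}).2
      · intro h
        show Set.ncard _ = T.ncard
        congr 1
        ext y
        exact ⟨fun hy => hy.1, fun hy => ⟨hy, h y hy⟩⟩
    let Ksub : AddSubmonoid (ZMod n) :=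
      { carrier := S
        zero_mem' := (hSmem 0).2 fun y hy => by rwa [sub_zero]
        add_mem' := fun {c d} hc hd => (hSmem (c + d)).2 fun y hy => by
          rw [← sub_sub]; exact (hSmem d).1 hd _ ((hSmem c).1 hc y hy) }
    let K : AddSubgroup (ZMod n) :=
      { Ksub with
        neg_mem' := fun {c} hc => by
          show -c ∈ Ksub
          rw [show -c = (n - 1) • c by
            rw [nsmul_eq_mul, Nat.cast_sub (NeZero.one_le), ZMod.natCast_self, Nat.cast_one,
              zero_sub, neg_one_mul]]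
          exact nsmul_mem (show c ∈ Ksub from hc) _ }
    refine hcon ⟨K, fun h => ?_, fun h => ?_, fun σ hσ a b hab => ?_⟩
    · have : ((1 : ZMod p).val : ZMod n) * e ∈ K := (hSmem _).2 fun y hy => by
        have := hper T (invSet_orb G x) y hy (hTp y hy) (-1)
        have hneg : (((-1 : ZMod p)).val : ZMod n) * e = -(((1 : ZMod p).val : ZMod n) * e) := by
          have h1 := heπ (-1 : ZMod n)
          have h2 := heπ (1 : ZMod n)
          rw [map_neg, map_one] at h1
          rw [map_one] at h2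
          linear_combination -h1 - h2
        rwa [hneg, ← sub_eq_add_neg] at this
      rw [h, AddSubgroup.mem_bot] at this
      exact he0 1 one_ne_zero this
    · have : x ∈ K := h ▸ AddSubgroup.mem_top x
      have := (hSmem x).1 this x (mem_orb_self G x)
      rw [sub_self] at this
      exact h0T this
    · show {y : ZMod n | y ∈ T ∧ y - (σ b - σ a) ∈ T}.ncard = T.ncard
      rw [hcnt.map_sub hS hσ a b]
      exact hab
  -- step C
  set T := orb G e with hTdef
  have hTinv := invSet_orb G e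
  have he1 : ((1 : ZMod p).val : ZMod n) * e = e := by rw [ZMod.val_one, Nat.cast_one, one_mul]
  have hene : e ≠ 0 := he1 ▸ he0 1 one_ne_zero
  have h0T : (0 : ZMod n) ∉ T := zero_not_mem_orb hene
  let H : Finset (ZMod p) := Finset.univ.filter fun a => (a.val : ZMod n) * e ∈ T
  have hHmem : ∀ a : ZMod p, a ∈ H ↔ (a.val : ZMod n) * e ∈ T := fun a => by simp [H]
  have h1H : (1 : ZMod p) ∈ H := (hHmem 1).2 (he1.symm ▸ mem_orb_self G e)
  have h0H : (0 : ZMod p) ∉ H := fun h => h0T (by simpa using (hHmem 0).1 h)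
  have hunit : ∀ t : ZMod n, π t ≠ 0 → IsUnit t := by
    intro t ht
    rw [← ZMod.natCast_zmod_val t, ZMod.isUnit_iff_coprime]
    refine Nat.Coprime.coprime_dvd_right (dvd_of_eq hn) ?_
    refine Nat.Coprime.pow_right _ ((hp.out.coprime_iff_not_dvd.2 fun h => ht ?_).symm)
    rw [← ZMod.natCast_zmod_val t, map_natCast, ZMod.natCast_eq_zero_iff]
    exact h
  have horbH : ∀ t : ZMod n, π t ≠ 0 → ((fun y => t * y) '' T = T ↔ π t ∈ H) := by
    intro t ht
    rw [hTdef, image_orb hS (hunit t ht), hHmem, ← heπ]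
    exact ⟨fun h => by show t * e ∈ orb G e; rw [← h]; exact mem_orb_self G _, fun h => orb_eq h⟩
  -- every nonzero orbit is a multiple of `T`
  have hall : ∀ z : ZMod n, z ≠ 0 → ∃ t : ZMod n, π t ≠ 0 ∧ (fun y => t * y) '' T = orb G z := by
    intro z hz
    obtain ⟨a, ha, ha'⟩ := hmeet z hz
    refine ⟨(a.val : ZMod n), ?_, ?_⟩
    · rw [map_natCast, ZMod.natCast_zmod_val]; exact ha
    · rw [hTdef, image_orb hS (hunit _ (by rw [map_natCast, ZMod.natCast_zmod_val]; exact ha))]
      exact orb_eq ha'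
  have hHne : ∃ a : ZMod p, a ≠ 0 ∧ a ∉ H := by
    by_contra hh
    push Not at hh
    apply hnt
    intro x y hx hy
    have : ∀ z : ZMod n, z ≠ 0 → orb G z = T := fun z hz => by
      obtain ⟨a, ha, ha'⟩ := hmeet z hz
      rw [← orb_eq ha', hTdef]
      exact orb_eq ((hHmem a).1 (hh a ha))
    rw [this x hx, ← this y hy]
    exact mem_orb_self G y
  have hmulmem : ∀ t y : ZMod n, π t ≠ 0 → y ∈ T → (t * y ∈ T ↔ π t ∈ H) := by
    intro t y ht hy
    have h1 : t * y ∈ (fun w => t * w) '' T := ⟨y, hy, rfl⟩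
    constructor
    · intro h
      refine (horbH t ht).1 ?_
      rw [hTdef, image_orb hS (hunit t ht)] at h1 ⊢
      rw [← orb_eq h1]
      exact orb_eq h
    · intro h
      rw [(horbH t ht).2 h] at h1
      exact h1
  -- a generator in `T`
  obtain ⟨u, huT, hu⟩ : ∃ u ∈ T, π u ≠ 0 := by
    obtain ⟨t, ht, htT⟩ := hall 1 (by
      intro h
      have := congrArg π h
      rw [map_one, map_zero] at this
      exact one_ne_zero this)
    obtain ⟨u, hu, hu1⟩ : (1 : ZMod n) ∈ (fun y => t * y) '' T := htT ▸ mem_orb_self G 1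
    refine ⟨u, hu, fun h => ?_⟩
    have := congrArg π hu1
    simp only [map_mul, h, mul_zero, map_one] at this
    exact zero_ne_one this
  have hgens : ∀ y : ZMod n, π y ≠ 0 → (y ∈ T ↔ π y * (π u)⁻¹ ∈ H) := by
    intro y hy
    obtain ⟨v, hv⟩ := hunit u hu
    have hπv : π ((↑v⁻¹ : ZMod n)) = (π u)⁻¹ := by
      refine eq_inv_of_mul_eq_one_left ?_
      rw [← map_mul, ← hv, Units.inv_mul, map_one]
    have h := hmulmem (y * (↑v⁻¹ : ZMod n)) u (by
      rw [map_mul, hπv]; exact mul_ne_zero hy (inv_ne_zero hu)) huT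
    rw [map_mul, hπv, ← hv, Units.inv_mul_cancel_right] at h
    rw [← hv] at *
    exact h
  -- the counts
  set k := H.card
  set L := {y : ZMod n | y ∈ T ∧ π y = 0}.ncard
  have hfibre : ∀ a : ZMod p, {y : ZMod n | π y = a}.ncard = E := by
    intro a
    have hsurj : ∀ b : ZMod p, ∃ y, π y = b := ZMod.castHom_surjective hpn
    have hsame : ∀ b : ZMod p, {y : ZMod n | π y = b}.ncard = {y : ZMod n | π y = 0}.ncard := by
      intro b
      obtain ⟨y₀, hy₀⟩ := hsurj b
      rw [← Set.ncard_image_of_injective {y : ZMod n | π y = 0} (add_right_injective y₀)]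
      congr 1
      ext y
      constructor
      · intro hy
        exact ⟨y - y₀, by show π (y - y₀) = 0; rw [map_sub, hy, hy₀, sub_self], by ring⟩
      · rintro ⟨w, hw, rfl⟩
        show π (y₀ + w) = b
        rw [map_add, hy₀, show π w = 0 from hw, add_zero]
    have htot := Finset.card_eq_sum_card_fiberwise (f := fun y : ZMod n => π y)
      (s := Finset.univ) (t := Finset.univ) (fun y _ => Finset.mem_univ _)
    have hfc : ∀ b : ZMod p, (Finset.univ.filter fun y : ZMod n => π y = b).card
        = {y : ZMod n | π y = b}.ncard := fun b => by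
      rw [Set.ncard_eq_toFinset_card']; congr 1; ext; simp
    simp only [hfc] at htot
    rw [Finset.sum_congr rfl fun b _ => hsame b, Finset.sum_const, Finset.card_univ,
      Finset.card_univ, ZMod.card, ZMod.card, smul_eq_mul] at htot
    rw [hsame a]
    exact (Nat.eq_of_mul_eq_mul_left hp.out.pos (hnE.symm.trans htot)).symm
  have hpart : ∀ (Q : ZMod n → Prop) (A : Finset (ZMod p)), (0 : ZMod p) ∉ A →
      (∀ y, π y ≠ 0 → (Q y ↔ π y * (π u)⁻¹ ∈ A)) →
      {y : ZMod n | Q y ∧ π y ≠ 0}.ncard = A.card * E := by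
    intro Q A hA hQ
    have hset : {y : ZMod n | Q y ∧ π y ≠ 0} = ↑(A.biUnion fun a =>
        Finset.univ.filter fun y : ZMod n => π y = a * π u) := by
      ext y
      simp only [Set.mem_ofPred_eq, Finset.coe_biUnion, Finset.mem_coe, Set.mem_iUnion,
        Finset.coe_filter, Finset.mem_univ, true_and, exists_prop]
      constructor
      · rintro ⟨h1, h2⟩
        exact ⟨_, (hQ y h2).1 h1, by rw [inv_mul_cancel_right₀ hu]⟩
      · rintro ⟨a, ha, hay⟩
        have ha0 : a ≠ 0 := fun h => hA (h ▸ ha)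
        have hy0 : π y ≠ 0 := by rw [hay]; exact mul_ne_zero ha0 hu
        refine ⟨(hQ y hy0).2 ?_, hy0⟩
        rw [hay, mul_inv_cancel_right₀ hu]; exact ha
    rw [hset, Set.ncard_coe_finset, Finset.card_biUnion]
    · rw [Finset.sum_congr rfl (g := fun _ => E), Finset.sum_const, smul_eq_mul]
      intro a _
      rw [← hfibre (a * π u), Set.ncard_eq_toFinset_card']
      congr 1; ext; simp
    · intro a _ b _ hab
      show Disjoint _ _
      rw [Finset.disjoint_left]
      intro y hy hy'
      simp only [Finset.mem_filter, Finset.mem_univ, true_and] at hy hy'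
      exact hab (mul_right_cancel₀ hu (hy.symm.trans hy'))
  have hTcard : T.ncard = L + k * E := by
    rw [← hpart (· ∈ T) H h0H hgens, ← Set.ncard_inter_add_ncard_sdiff_eq_ncard T {y | π y = 0}]
    rfl
  -- evaluate the count at `e`
  have hTP : {y : ZMod n | y ∈ T ∧ (p : ZMod n) * y = 0} = (fun a : ZMod p => (a.val : ZMod n) * e) '' ↑H := by
    ext y
    constructor
    · rintro ⟨hy, hpy⟩
      obtain ⟨a, rfl⟩ := (hker y).1 hpy
      exact ⟨a, (hHmem a).2 hy, rfl⟩
    · rintro ⟨a, ha, rfl⟩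
      exact ⟨(hHmem a).1 ha, (hker _).2 ⟨a, rfl⟩⟩
  have hιinj : Function.Injective (fun a : ZMod p => (a.val : ZMod n) * e) := by
    intro a b hab
    by_contra hne
    refine he0 (a - b) (sub_ne_zero.2 hne) ?_
    have h1 := heπ ((a.val : ZMod n) - (b.val : ZMod n))
    rw [map_sub, map_natCast, map_natCast, ZMod.natCast_zmod_val, ZMod.natCast_zmod_val] at h1
    rw [← h1, sub_mul, sub_eq_zero]
    exact hab
  let H0 := H.filter fun a => a - 1 ∈ H
  set f := fun z : ZMod n => {y : ZMod n | y ∈ T ∧ y - z ∈ T}.ncard with hf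
  have hfe : f e + k = T.ncard + H0.card := by
    have hsplit : {y : ZMod n | y ∈ T ∧ y - e ∈ T} =
        (T \ {y : ZMod n | y ∈ T ∧ (p : ZMod n) * y = 0}) ∪
          ((fun a : ZMod p => (a.val : ZMod n) * e) '' ↑H0) := by
      ext y
      have hcomb : ∀ a : ZMod p, (a.val : ZMod n) * e - e = ((a - 1).val : ZMod n) * e := by
        intro a
        have h1 := heπ ((a.val : ZMod n) - 1)
        rw [map_sub, map_natCast, ZMod.natCast_zmod_val, map_one] at h1
        rw [← h1]; ring
      constructor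
      · rintro ⟨hy, hye⟩
        by_cases hpy : (p : ZMod n) * y = 0
        · right
          obtain ⟨a, rfl⟩ := (hker y).1 hpy
          refine ⟨a, Finset.mem_filter.2 ⟨(hHmem a).2 hy, (hHmem _).2 ?_⟩, rfl⟩
          rwa [← hcomb]
        · exact Or.inl ⟨hy, fun h => hpy h.2⟩
      · rintro (⟨hy, hy'⟩ | ⟨a, ha, rfl⟩)
        · refine ⟨hy, ?_⟩
          have := hper T hTinv y hy (fun h => hy' ⟨hy, h⟩) (-1)
          have hneg : (((-1 : ZMod p)).val : ZMod n) * e = -e := by
            have h1 := heπ (-1 : ZMod n)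
            rw [map_neg, map_one] at h1
            linear_combination -h1
          rwa [hneg, ← sub_eq_add_neg] at this
        · obtain ⟨ha1, ha2⟩ := Finset.mem_filter.1 ha
          refine ⟨(hHmem a).1 ha1, ?_⟩
          rw [hcomb]
          exact (hHmem _).1 ha2
    show Set.ncard _ + k = _
    rw [hsplit, Set.ncard_union_eq (by
        rw [Set.disjoint_left]
        rintro y ⟨-, hy'⟩ ⟨a, ha, rfl⟩
        exact hy' ⟨(hHmem a).1 (Finset.mem_filter.1 ha).1, (hker _).2 ⟨a, rfl⟩⟩)
      (Set.toFinite _) (Set.toFinite _), Set.ncard_image_of_injective _ hιinj,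
      Set.ncard_coe_finset]
    have h2 := Set.ncard_sdiff_add_ncard_of_subset
      (show {y : ZMod n | y ∈ T ∧ (p : ZMod n) * y = 0} ⊆ T from fun y hy => hy.1) (Set.toFinite _)
    rw [hTP, Set.ncard_image_of_injective _ hιinj, Set.ncard_coe_finset, ← hTP] at h2
    omega
  -- evaluate at `u`
  have hfu : f u = H0.card * E + L + (if (-1 : ZMod p) ∈ H then L else 0) := by
    have hsplit : {y : ZMod n | y ∈ T ∧ y - u ∈ T} =
        {y : ZMod n | (y ∈ T ∧ y - u ∈ T ∧ π y ≠ π u) ∧ π y ≠ 0} ∪
        ((fun d => d + u) '' {d : ZMod n | d ∈ T ∧ π d = 0}) ∪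
        {y : ZMod n | (y ∈ T ∧ π y = 0) ∧ (-1 : ZMod p) ∈ H} := by
      ext y
      simp only [Set.mem_union, Set.mem_ofPred_eq, Set.mem_image]
      constructor
      · rintro ⟨hy, hyu⟩
        by_cases hy0 : π y = 0
        · refine Or.inr ⟨⟨hy, hy0⟩, ?_⟩
          have h1 := (hgens (y - u) (by rw [map_sub, hy0, zero_sub, neg_ne_zero]; exact hu)).1 hyu
          rwa [map_sub, hy0, zero_sub, neg_mul, mul_inv_cancel₀ hu] at h1
        · by_cases hyu' : π y = π u
          · exact Or.inl (Or.inr ⟨y - u, ⟨hyu, by rw [map_sub, hyu', sub_self]⟩, by ring⟩)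
          · exact Or.inl (Or.inl ⟨⟨hy, hyu, hyu'⟩, hy0⟩)
      · rintro ((⟨⟨hy, hyu, -⟩, -⟩ | ⟨d, ⟨hd, hd0⟩, rfl⟩) | ⟨⟨hy, hy0⟩, hneg⟩)
        · exact ⟨hy, hyu⟩
        · refine ⟨(hgens _ (by rw [map_add, hd0, zero_add]; exact hu)).2 ?_, by simpa using hd⟩
          rw [map_add, hd0, zero_add, mul_inv_cancel₀ hu]; exact h1H
        · refine ⟨hy, (hgens _ (by rw [map_sub, hy0, zero_sub, neg_ne_zero]; exact hu)).2 ?_⟩
          rw [map_sub, hy0, zero_sub, neg_mul, mul_inv_cancel₀ hu]; exact hneg
    show Set.ncard _ = _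
    rw [hsplit, Set.ncard_union_eq ?d1 (Set.toFinite _) (Set.toFinite _),
      Set.ncard_union_eq ?d2 (Set.toFinite _) (Set.toFinite _),
      hpart (fun y => y ∈ T ∧ y - u ∈ T ∧ π y ≠ π u) H0 ?hA ?hQ,
      Set.ncard_image_of_injective _ (add_left_injective u)]
    case d1 =>
      rw [Set.disjoint_left]
      rintro y (⟨-, hy0⟩ | ⟨d, ⟨-, hd0⟩, rfl⟩) ⟨⟨-, hy0'⟩, -⟩
      · exact hy0 hy0'
      · rw [map_add, hd0, zero_add] at hy0'; exact hu hy0'
    case d2 =>
      rw [Set.disjoint_left]
      rintro y ⟨⟨-, -, hne⟩, -⟩ ⟨d, ⟨-, hd0⟩, rfl⟩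
      exact hne (by rw [map_add, hd0, zero_add])
    case hA => exact fun h => h0H (Finset.mem_filter.1 h).1
    case hQ =>
      intro y hy
      constructor
      · rintro ⟨h1, h2, h3⟩
        refine Finset.mem_filter.2 ⟨(hgens y hy).1 h1, ?_⟩
        have := (hgens (y - u) (by rw [map_sub]; exact sub_ne_zero.2 h3)).1 h2
        rwa [map_sub, sub_mul, mul_inv_cancel₀ hu] at this
      · intro h
        obtain ⟨h1, h2⟩ := Finset.mem_filter.1 h
        have h3 : π y ≠ π u := fun h' => h0H (by rwa [h', mul_inv_cancel₀ hu, sub_self] at h2)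
        refine ⟨(hgens y hy).2 h1, (hgens _ (by rw [map_sub]; exact sub_ne_zero.2 h3)).2 ?_, h3⟩
        rwa [map_sub, sub_mul, mul_inv_cancel₀ hu]
    split_ifs with hneg
    · simp only [hneg, and_true]; rfl
    · simp [hneg]; rfl
  have hfeq : f u = f e := by
    obtain ⟨σ, hσ, h0, rfl⟩ := huT
    exact inv_diffCount hS hTinv σ hσ h0 e
  -- double counting of the translates of `T` inside the multiples of `p`
  have hdouble : (p - 1) * L + k = k * E := by
    set P0 := Finset.univ.filter fun z : ZMod n => π z = 0 ∧ z ≠ 0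
    set U := Finset.univ.filter fun a : ZMod p => a ≠ 0
    have hUc : U.card = p - 1 := by
      rw [show U = Finset.univ.erase 0 by ext; simp [U], Finset.card_erase_of_mem (Finset.mem_univ _),
        Finset.card_univ, ZMod.card]
    have hPc : P0.card + 1 = E := by
      rw [show P0 = (Finset.univ.filter fun z : ZMod n => π z = 0).erase 0 by
        ext; simp [P0, and_comm], Finset.card_erase_add_one (by simp)]
      rw [← hfibre 0, Set.ncard_eq_toFinset_card']
      congr 1; ext; simp
    have hrow : ∀ a ∈ U, (Finset.bipartiteAbove (fun (a : ZMod p) z => z ∈ (fun y => (a.val : ZMod n) * y) '' T) P0 a).card = L := by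
      intro a ha
      have ha0 : a ≠ 0 := by simpa [U] using ha
      have hπa : π (a.val : ZMod n) = a := by rw [map_natCast, ZMod.natCast_zmod_val]
      have hau : IsUnit (a.val : ZMod n) := hunit _ (hπa.symm ▸ ha0)
      rw [← Set.ncard_coe_finset]
      show _ = {y : ZMod n | y ∈ T ∧ π y = 0}.ncard
      rw [← Set.ncard_image_of_injective {y : ZMod n | y ∈ T ∧ π y = 0} hau.mul_right_injective]
      congr 1
      ext z
      simp only [Finset.coe_filter, Finset.bipartiteAbove, P0, Finset.mem_filter, Finset.mem_univ,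
        true_and, Set.mem_ofPred_eq, Set.mem_image]
      constructor
      · rintro ⟨⟨hz, -⟩, y, hy, rfl⟩
        refine ⟨y, ⟨hy, ?_⟩, rfl⟩
        rw [map_mul, hπa] at hz
        exact (mul_eq_zero.1 hz).resolve_left ha0
      · rintro ⟨y, ⟨hy, hy0⟩, rfl⟩
        refine ⟨⟨by rw [map_mul, hy0, mul_zero], fun h => h0T ?_⟩, y, hy, rfl⟩
        rwa [← hau.mul_right_injective (by simpa using h : (a.val : ZMod n) * y = (a.val : ZMod n) * 0)]
    have hcol : ∀ z ∈ P0, (Finset.bipartiteBelow (fun (a : ZMod p) z => z ∈ (fun y => (a.val : ZMod n) * y) '' T) U z).card = k := by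
      intro z hz
      simp only [P0, Finset.mem_filter, Finset.mem_univ, true_and] at hz
      obtain ⟨t, ht, htT⟩ := hall z hz.2
      obtain ⟨y₀, hy₀, hzy⟩ : z ∈ (fun y => t * y) '' T := htT ▸ mem_orb_self G z
      refine (Finset.card_nbij' (fun a => a * π t) (fun a => a * (π t)⁻¹) ?_ ?_ ?_ ?_).symm
      · intro a ha
        have ha0 : a ≠ 0 := fun h => h0H (h ▸ ha)
        simp only [Finset.mem_coe] at ha ⊢
        simp only [Finset.bipartiteBelow, Finset.mem_filter, U, Finset.mem_univ, true_and]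
        set b := a * π t
        have hb : π (b.val : ZMod n) = b := by rw [map_natCast, ZMod.natCast_zmod_val]
        have hb0 : b ≠ 0 := mul_ne_zero ha0 ht
        refine ⟨hb0, ?_⟩
        obtain ⟨v, hv⟩ := hunit _ (hb.symm ▸ hb0 : π (b.val : ZMod n) ≠ 0)
        have hπv : π (↑v⁻¹ : ZMod n) = b⁻¹ := by
          refine eq_inv_of_mul_eq_one_left ?_
          rw [← hb, ← hv, ← map_mul, Units.inv_mul, map_one]
        refine ⟨(↑v⁻¹ * t) * y₀, ?_, ?_⟩
        · refine (hmulmem _ y₀ ?_ hy₀).2 ?_
          · rw [map_mul, hπv]; exact mul_ne_zero (inv_ne_zero hb0) ht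
          · have hinv : ∀ c : ZMod p, c ∈ H → c⁻¹ ∈ H := by
              intro c hc
              have hc0 : c ≠ 0 := fun h => h0H (h ▸ hc)
              have hπc : π (c.val : ZMod n) = c := by rw [map_natCast, ZMod.natCast_zmod_val]
              have h1 := (horbH _ (hπc.symm ▸ hc0)).2 (hπc.symm ▸ hc)
              obtain ⟨w, hw, hwe⟩ : e ∈ (fun y => (c.val : ZMod n) * y) '' T := h1.symm ▸ mem_orb_self G e
              obtain ⟨v', hv'⟩ := hunit _ (hπc.symm ▸ hc0 : π (c.val : ZMod n) ≠ 0)
              have hπv' : π (↑v'⁻¹ : ZMod n) = c⁻¹ := by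
                refine eq_inv_of_mul_eq_one_left ?_
                rw [← hπc, ← hv', ← map_mul, Units.inv_mul, map_one]
              rw [← hπv']
              refine (hmulmem _ e ?_ (mem_orb_self G e)).1 ?_
              · rw [hπv']; exact inv_ne_zero hc0
              · rw [← hwe, ← hv', Units.inv_mul_cancel_left]; exact hw
            rw [map_mul, hπv, show b⁻¹ * π t = a⁻¹ by simp only [b]; field_simp]
            exact hinv a ha
        · show (b.val : ZMod n) * (↑v⁻¹ * t * y₀) = z
          rw [← hv, mul_assoc (↑v⁻¹ : ZMod n), Units.mul_inv_cancel_left]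
          exact hzy
      · intro a ha
        simp only [Finset.mem_coe, Finset.bipartiteBelow, Finset.mem_filter, U, Finset.mem_univ,
          true_and] at ha ⊢
        obtain ⟨ha0, w, hw, hwz⟩ := ha
        have hπa : π (a.val : ZMod n) = a := by rw [map_natCast, ZMod.natCast_zmod_val]
        obtain ⟨v, hv⟩ := hunit t ht
        have hπv : π (↑v⁻¹ : ZMod n) = (π t)⁻¹ := by
          refine eq_inv_of_mul_eq_one_left ?_
          rw [← hv, ← map_mul, Units.inv_mul, map_one]
        have h1 := (hmulmem ((↑v⁻¹ : ZMod n) * (a.val : ZMod n)) w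
          (by rw [map_mul, hπv, hπa]; exact mul_ne_zero (inv_ne_zero ht) ha0) hw).1 (by
            rw [mul_assoc, show (a.val : ZMod n) * w = t * y₀ from hwz.trans hzy.symm, ← hv,
              Units.inv_mul_cancel_left]
            exact hy₀)
        rw [map_mul, hπv, hπa, mul_comm] at h1
        exact h1
      · intro a _; exact mul_inv_cancel_right₀ ht a
      · intro a _; exact inv_mul_cancel_right₀ ht a
    have := Finset.card_mul_eq_card_mul (fun (a : ZMod p) z => z ∈ (fun y => (a.val : ZMod n) * y) '' T)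
      hrow hcol
    rw [hUc] at this
    rw [this, ← hPc]
    ring
  -- the contradiction
  have hH0 : H0.card < k := by
    refine Finset.card_lt_card ((Finset.ssubset_iff_of_subset (Finset.filter_subset _ _)).2
      ⟨1, h1H, fun h => ?_⟩)
    have := (Finset.mem_filter.1 h).2
    rw [sub_self] at this
    exact h0H this
  have hkp : k + 1 ≤ p - 1 := by
    obtain ⟨a, ha0, haH⟩ := hHne
    have hsub : insert a H ⊆ Finset.univ.erase (0 : ZMod p) := by
      intro x hx
      rcases Finset.mem_insert.1 hx with rfl | hx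
      · simpa using ha0
      · simpa using fun h : x = 0 => h0H (h ▸ hx)
    have := Finset.card_le_card hsub
    rw [Finset.card_insert_of_notMem haH, Finset.card_erase_of_mem (Finset.mem_univ _),
      Finset.card_univ, ZMod.card] at this
    exact this
  have hkey : (L + k * E) + H0.card = (H0.card * E + L + (if (-1 : ZMod p) ∈ H then L else 0)) + k := by
    rw [← hfu, hfeq, hfe, hTcard]
  split_ifs at hkey with hneg
  · obtain ⟨d, hd⟩ : ∃ d, k = H0.card + d := ⟨k - H0.card, by omega⟩
    have hd1 : 1 ≤ d := by omega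
    have hL : L + d = d * E := by
      rw [hd, add_mul] at hkey
      omega
    have : (p - 1) * d * (E - 1) = k * (E - 1) := by
      have e1 : d * (E - 1) = L := by rw [Nat.mul_sub, mul_one]; omega
      have e2 : k * (E - 1) = (p - 1) * L := by rw [Nat.mul_sub, mul_one]; omega
      rw [mul_assoc, e1, e2]
    have h3 := Nat.eq_of_mul_eq_mul_right (by omega : 0 < E - 1) this
    have : p - 1 ≤ (p - 1) * d := Nat.le_mul_of_pos_right _ hd1
    omega
  · obtain ⟨d, hd⟩ : ∃ d, k = H0.card + d := ⟨k - H0.card, by omega⟩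
    rw [hd, add_mul] at hkey
    have : 2 * d ≤ d * E := by rw [mul_comm]; exact Nat.mul_le_mul_left d hE1
    omega

end Cfsg.Agent.FG75.CyclicRegular
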