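import Cfsg.Agent.FG75.AnisoPerfect
import Cfsg.Agent.Fus93.Critical
import Cfsg.Agent.T51.CriticalAut

/-!
Automorphisms of a `2`-group with commuting involutions which fix all involutions form a solvable
group, given the odd order theorem.
-/

set_option autoImplicit false
set_option linter.style.haveILetI false

namespace Cfsg.Agent.FG75.Aniso

open Cfsg

universe u v

variable {H : Type u} [Group H]

/-- A perfect group moving points by fixed commuting elements is trivial. -/
theorem trivial_of_stab_mul (hH : commutator H = ⊤) {P : Type v} [Group P]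
    (φ : H →* MulAut P) (Z : Subgroup P) (hZc : ∀ a ∈ Z, ∀ b ∈ Z, a * b = b * a)
    (hZfix : ∀ h, ∀ z ∈ Z, φ h z = z) (hmove : ∀ h x, x⁻¹ * φ h x ∈ Z) : ∀ h x, φ h x = x := by
  intro h x
  letI : CommGroup Z :=
    { (inferInstance : Group Z) with mul_comm := fun a b => Subtype.ext (hZc a a.2 b b.2) }
  let f : H →* Z :=
    { toFun := fun h => ⟨x⁻¹ * φ h x, hmove h x⟩
      map_one' := Subtype.ext (by
        show x⁻¹ * φ 1 x = 1
        rw [map_one, MulAut.one_apply, inv_mul_cancel])
      map_mul' := fun g k => Subtype.ext (by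
        show x⁻¹ * φ (g * k) x = x⁻¹ * φ g x * (x⁻¹ * φ k x)
        rw [map_mul, MulAut.mul_apply]
        have h1 := hZfix g _ (hmove k x)
        rw [map_mul, map_inv, inv_mul_eq_iff_eq_mul] at h1
        rw [h1]; group) }
  have h1 : x⁻¹ * φ h x = 1 := congrArg Subtype.val (eq_one_of_perfect hH f h)
  exact (inv_mul_eq_one.1 h1).symm

variable [Finite H]

/-- The case of central involutions. -/
theorem trivial_of_central (hFT : OddOrderGlue.FeitThompson.{u}) (hH : commutator H = ⊤) {P : Type v}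
    [Group P] [Finite P] (hP : IsPGroup 2 P) (hc : ∀ e : P, e ^ 2 = 1 → ∀ x : P, e * x = x * e)
    (φ : H →* MulAut P) (hfix : ∀ h e, e ^ 2 = 1 → φ h e = e) : ∀ h x, φ h x = x := by
  classical
  haveI : Fact (Nat.Prime 2) := ⟨Nat.prime_two⟩
  haveI : Finite (MulAut P) := Finite.of_injective _ DFunLike.coe_injective
  obtain ⟨C, hCchar, hCC, hsq, hcomm⟩ := Fus93.exists_critical hP
  haveI := hCchar
  have hCinv : ∀ h, ∀ x ∈ C, φ h x ∈ C := fun h x hx =>
    Subgroup.characteristic_iff_le_comap.1 hCchar (φ h) hx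
  have hi : ∀ e : P, e ^ 2 = 1 → e⁻¹ = e := fun e he => inv_eq_of_mul_eq_one_right (by rwa [← sq])
  -- commutators inside the small elements
  let cm : P → P → P := fun y x => x⁻¹ * (y * x * y⁻¹)
  have hyx : ∀ x y, y * x = x * cm y x * y := fun x y => by simp only [cm]; group
  have hcm : ∀ x ∈ C, ∀ y ∈ C, (x ^ 2) ^ 2 = 1 →
      cm y x ^ 2 = 1 ∧ (∀ z ∈ C, cm y x * z = z * cm y x) := by
    intro x hx y hy hx4
    have hcc : ∀ z ∈ C, cm y x * z = z * cm y x := fun z hz =>
      (Subgroup.mem_centralizer_iff.1 (hcomm x hx y) z hz).symm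
    refine ⟨?_, hcc⟩
    have h1 : (y * x * y⁻¹) ^ 2 = x ^ 2 := by
      rw [conj_pow, ← hc _ hx4 y, mul_inv_cancel_right]
    have h2 : y * x * y⁻¹ = x * cm y x := by simp only [cm]; group
    rw [h2, (show Commute x (cm y x) from (hcc x hx).symm).mul_pow] at h1
    exact mul_eq_left.1 h1
  let Θ : Subgroup P :=
    { carrier := {x | x ∈ C ∧ (x ^ 2) ^ 2 = 1}
      one_mem' := ⟨one_mem _, by simp⟩
      mul_mem' := fun {x y} hx hy => by
        refine ⟨mul_mem hx.1 hy.1, ?_⟩
        obtain ⟨hc2, -⟩ := hcm x hx.1 y hy.1 hx.2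
        have e : (x * y) ^ 2 = x ^ 2 * cm y x * y ^ 2 := by
          rw [sq, sq, sq, show x * y * (x * y) = x * (y * x) * y by group, hyx x y]
          group
        rw [e, (show Commute (x ^ 2 * cm y x) (y ^ 2) from (hc _ hy.2 _).symm).mul_pow,
          (show Commute (x ^ 2) (cm y x) from hc _ hx.2 _).mul_pow, hx.2, hy.2, hc2, one_mul, one_mul]
      inv_mem' := fun {x} hx => ⟨inv_mem hx.1, by rw [inv_pow, inv_pow, hx.2, inv_one]⟩ }
  have hΘinv : ∀ h, ∀ x ∈ Θ, φ h x ∈ Θ := fun h x hx =>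
    ⟨hCinv h x hx.1, by rw [← map_pow, ← map_pow, hx.2, map_one]⟩
  let EP : Subgroup P :=
    { carrier := {e | e ^ 2 = 1}
      one_mem' := one_pow _
      mul_mem' := fun {a b} ha hb => by
        show (a * b) ^ 2 = 1
        rw [(show Commute a b from hc a ha b).mul_pow, ha, hb, one_mul]
      inv_mem' := fun {a} ha => by show a⁻¹ ^ 2 = 1; rw [inv_pow, ha, inv_one] }
  let E := EP.subgroupOf Θ
  haveI : E.Normal := ⟨fun e he g => by
    show ((g : P) * e * (g : P)⁻¹) ^ 2 = 1
    rw [← hc (e : P) he, mul_inv_cancel_right]; exact he⟩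
  letI : CommGroup EP :=
    { (inferInstance : Group EP) with mul_comm := fun a b => Subtype.ext (hc a a.2 b) }
  letI : CommGroup (Θ ⧸ E) :=
    { (inferInstance : Group (Θ ⧸ E)) with
      mul_comm := fun a b => by
        obtain ⟨x, rfl⟩ := QuotientGroup.mk_surjective a
        obtain ⟨y, rfl⟩ := QuotientGroup.mk_surjective b
        rw [← QuotientGroup.mk_mul, ← QuotientGroup.mk_mul, QuotientGroup.eq]
        show (((x : P) * y)⁻¹ * ((y : P) * x)) ^ 2 = 1
        obtain ⟨hc2, hcc⟩ := hcm x x.2.1 y y.2.1 x.2.2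
        rw [hyx (x : P) y, mul_assoc (x : P), hcc y y.2.1, ← mul_assoc (x : P), inv_mul_cancel_left]
        exact hc2 }
  let sqf : Θ → EP := fun x => ⟨(x : P) ^ 2, x.2.2⟩
  have hsqf : ∀ (x : Θ) (e : Θ), e ∈ E → sqf (x * e) = sqf x := fun x e he => Subtype.ext (by
    show ((x : P) * e) ^ 2 = (x : P) ^ 2
    rw [(show Commute (x : P) e from (hc _ he _).symm).mul_pow, show (e : P) ^ 2 = 1 from he, mul_one])
  let q : Additive (Θ ⧸ E) → Additive EP := fun a => Additive.ofMul (sqf (Additive.toMul a).out)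
  have hq : ∀ x : Θ, q (Additive.ofMul ((x : Θ) : Θ ⧸ E)) = Additive.ofMul (sqf x) := by
    intro x
    obtain ⟨e, he⟩ := QuotientGroup.mk_out_eq_mul E x
    show Additive.ofMul (sqf ((x : Θ ⧸ E)).out) = _
    rw [he, hsqf x e e.2]
  let cd : Θ → Θ → EP := fun x y => ⟨cm (y : P) x, (hcm x x.2.1 y y.2.1 x.2.2).1⟩
  have hpol : ∀ x y : Θ, pol q (Additive.ofMul ((x : Θ) : Θ ⧸ E)) (Additive.ofMul ((y : Θ) : Θ ⧸ E)) =
      Additive.ofMul (cd x y) := by
    intro x y
    show q (Additive.ofMul ((x * y : Θ) : Θ ⧸ E)) + _ + _ = _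
    rw [hq, hq, hq, ← ofMul_mul, ← ofMul_mul]
    refine congrArg Additive.ofMul (Subtype.ext ?_)
    show ((x : P) * y) ^ 2 * (x : P) ^ 2 * (y : P) ^ 2 = cm (y : P) x
    obtain ⟨hc2, -⟩ := hcm x x.2.1 y y.2.1 x.2.2
    have e : ((x : P) * y) ^ 2 = (x : P) ^ 2 * cm (y : P) x * (y : P) ^ 2 := by
      rw [sq, sq, sq, show (x : P) * y * ((x : P) * y) = x * ((y : P) * x) * y by group, hyx (x : P) y]
      group
    rw [e, mul_assoc _ ((y : P) ^ 2), hc _ y.2.2 ((x : P) ^ 2), hc _ x.2.2 (cm (y : P) x)]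
    rw [show cm (y : P) x * (x : P) ^ 2 * ((x : P) ^ 2 * (y : P) ^ 2) * (y : P) ^ 2 =
      cm (y : P) x * (((x : P) ^ 2) ^ 2 * ((y : P) ^ 2) ^ 2) by simp only [sq]; group]
    rw [x.2.2, y.2.2, one_mul, mul_one]
  let ρ : H →* AddMonoid.End (Additive (Θ ⧸ E)) :=
    { toFun := fun h => MonoidHom.toAdditive (QuotientGroup.map E E
        (((φ h).toMonoidHom.comp Θ.subtype).codRestrict Θ fun x => hΘinv h x x.2)
        fun e he => by
          show ((φ h (e : P))) ^ 2 = 1
          rw [← map_pow, show (e : P) ^ 2 = 1 from he, map_one])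
      map_one' := AddMonoidHom.ext fun a => by
        obtain ⟨x, rfl⟩ : ∃ x : Θ, Additive.ofMul ((x : Θ) : Θ ⧸ E) = a :=
          ⟨(Additive.toMul a).out, congrArg Additive.ofMul (QuotientGroup.out_eq' _)⟩
        refine congrArg Additive.ofMul (congrArg (fun t : Θ => (t : Θ ⧸ E)) (Subtype.ext ?_))
        show φ 1 (x : P) = x
        rw [map_one]; rfl
      map_mul' := fun g k => AddMonoidHom.ext fun a => by
        obtain ⟨x, rfl⟩ : ∃ x : Θ, Additive.ofMul ((x : Θ) : Θ ⧸ E) = a :=
          ⟨(Additive.toMul a).out, congrArg Additive.ofMul (QuotientGroup.out_eq' _)⟩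
        refine congrArg Additive.ofMul (congrArg (fun t : Θ => (t : Θ ⧸ E)) (Subtype.ext ?_))
        show φ (g * k) (x : P) = φ g (φ k x)
        rw [map_mul]; rfl }
  have hrep : ∀ a : Additive (Θ ⧸ E), ∃ x : Θ, Additive.ofMul ((x : Θ) : Θ ⧸ E) = a := fun a =>
    ⟨(Additive.toMul a).out, congrArg Additive.ofMul (QuotientGroup.out_eq' _)⟩
  have hΘq := trivial_of_anisotropic hFT hH _ (Additive (Θ ⧸ E)) (Additive EP) rfl
    (fun a => by
      obtain ⟨x, rfl⟩ := hrep a
      rw [← ofMul_mul, ← QuotientGroup.mk_mul, ← ofMul_one]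
      refine congrArg Additive.ofMul ((QuotientGroup.eq_one_iff _).2 ?_)
      show ((x : P) * x) ^ 2 = 1
      rw [← sq]; exact x.2.2)
    (fun a => by
      obtain ⟨x, rfl⟩ := Additive.ofMul.surjective a
      rw [← ofMul_mul, ← ofMul_one]
      exact congrArg Additive.ofMul (Subtype.ext (by
        show (x : P) * x = 1
        rw [← sq]; exact x.2)))
    q (fun a b c => by
      obtain ⟨x, rfl⟩ := hrep a
      obtain ⟨y, rfl⟩ := hrep b
      obtain ⟨z, rfl⟩ := hrep c
      rw [← ofMul_mul, ← QuotientGroup.mk_mul, hpol, hpol, hpol, ← ofMul_mul]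
      refine congrArg Additive.ofMul (Subtype.ext ?_)
      show cm (z : P) ((x : P) * y) = cm (z : P) x * cm (z : P) y
      obtain ⟨-, hcc⟩ := hcm x x.2.1 z z.2.1 x.2.2
      have e : cm (z : P) ((x : P) * y) = (y : P)⁻¹ * cm (z : P) x * y * cm (z : P) y := by
        simp only [cm]; group
      rw [e, mul_assoc (y : P)⁻¹, hcc y y.2.1, inv_mul_cancel_left])
    (fun a ha => by
      obtain ⟨x, rfl⟩ := hrep a
      rw [hq, ← ofMul_one] at ha
      rw [← ofMul_one]
      refine congrArg Additive.ofMul ((QuotientGroup.eq_one_iff _).2 ?_)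
      exact congrArg Subtype.val (Additive.ofMul.injective ha))
    (by
      show q (Additive.ofMul ((1 : Θ) : Θ ⧸ E)) = 0
      rw [hq, ← ofMul_one]
      exact congrArg Additive.ofMul (Subtype.ext (one_pow 2)))
    ρ (fun h a => by
      obtain ⟨x, rfl⟩ := hrep a
      show q (Additive.ofMul ((⟨φ h x, hΘinv h x x.2⟩ : Θ) : Θ ⧸ E)) = _
      rw [hq, hq]
      refine congrArg Additive.ofMul (Subtype.ext ?_)
      show (φ h (x : P)) ^ 2 = (x : P) ^ 2
      rw [← map_pow, hfix h _ x.2.2])
  let φΘ : H →* MulAut Θ :=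
    { toFun := fun h =>
        { toFun := fun x => ⟨φ h x, hΘinv h x x.2⟩
          invFun := fun x => ⟨φ h⁻¹ x, hΘinv _ x x.2⟩
          left_inv := fun x => Subtype.ext (by
            show φ h⁻¹ (φ h x) = x
            rw [map_inv, MulAut.inv_apply_self])
          right_inv := fun x => Subtype.ext (by
            show φ h (φ h⁻¹ x) = x
            rw [map_inv, MulAut.apply_inv_self])
          map_mul' := fun x y => Subtype.ext (map_mul (φ h) (x : P) y) }
      map_one' := MulEquiv.ext fun x => Subtype.ext (by show φ 1 (x : P) = x; rw [map_one]; rfl)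
      map_mul' := fun g k => MulEquiv.ext fun x => Subtype.ext (by
        show φ (g * k) (x : P) = φ g (φ k x)
        rw [map_mul]; rfl) }
  have hΘfix : ∀ h, ∀ x ∈ Θ, φ h x = x := fun h x hx => by
    refine congrArg Subtype.val (trivial_of_stab_mul hH φΘ E
      (fun a ha b _ => Subtype.ext (hc (a : P) ha b)) (fun k e he => Subtype.ext (hfix k _ he))
      (fun k y => ?_) h ⟨x, hx⟩)
    have h1 := Additive.ofMul.injective (hΘq k (Additive.ofMul ((y : Θ) : Θ ⧸ E)))
    exact (QuotientGroup.eq).1 h1.symm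
  -- elements of odd prime order in the image are trivial
  have hodd : ∀ α ∈ φ.range, (orderOf α).Coprime 2 → α = 1 := by
    rintro α ⟨h, rfl⟩ hα
    have hfC : ∀ x ∈ C, φ h x = x := T51.fix_of_small hP hα C (hCinv h) fun e he hs => hΘfix h e
      ⟨he, by
        rcases hs with h2 | ⟨-, h4⟩
        · rw [h2, one_pow]
        · rw [← pow_mul]; exact h4⟩
    refine MulEquiv.ext fun x => T51.fix_of_fixed_move hP hα (hfC _ (hCC ?_))
    refine Subgroup.mem_centralizer_iff.2 fun y hy => ?_
    have h4 := hfC _ ((Subgroup.normal_of_characteristic C).conj_mem y hy x)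
    rw [map_mul, map_mul, map_inv, hfC y hy] at h4
    calc y * (x⁻¹ * φ h x) = x⁻¹ * (x * y * x⁻¹) * φ h x := by group
      _ = x⁻¹ * (φ h x * y * (φ h x)⁻¹) * φ h x := by rw [h4]
      _ = x⁻¹ * φ h x * y := by group
  have hr2 : IsPGroup 2 φ.range := by
    obtain ⟨a, m, hm, ho⟩ := Nat.exists_eq_pow_mul_and_not_dvd
      (Nat.card_pos (α := φ.range)).ne' 2 (by norm_num)
    refine IsPGroup.of_card (n := a) ?_
    by_contra hne
    obtain ⟨r, hr, hrd⟩ := Nat.exists_prime_and_dvd (n := m) (fun h => hne (by rw [ho, h, mul_one]))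
    haveI := Fact.mk hr
    obtain ⟨β, hβ⟩ := exists_prime_orderOf_dvd_card' (G := φ.range) r (ho ▸ dvd_mul_of_dvd_right hrd _)
    have h1 := hodd β β.2 (by
      rw [Subgroup.orderOf_coe, hβ]
      exact (Nat.coprime_primes hr Nat.prime_two).2 fun e => hm (e ▸ hrd))
    rw [(Subtype.ext h1 : β = 1), orderOf_one] at hβ
    exact hr.one_lt.ne hβ
  intro h x
  by_contra hne
  haveI : Nontrivial φ.range := ⟨φ.rangeRestrict h, 1, fun e => hne (by
    have := congrArg (fun t : φ.range => (t : MulAut P) x) e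
    exact this)⟩
  haveI : Group.IsNilpotent φ.range := hr2.isNilpotent
  refine (Group.IsSolvable.commutator_lt_top_of_nontrivial φ.range).ne (top_le_iff.1 ?_)
  have hm := Subgroup.map_commutator (⊤ : Subgroup H) ⊤ φ.rangeRestrict
  rw [Subgroup.map_top_of_surjective _ φ.rangeRestrict_surjective, ← commutator_def, ← commutator_def,
    hH, Subgroup.map_top_of_surjective _ φ.rangeRestrict_surjective] at hm
  exact hm.le

/-- Automorphisms fixing all involutions, when these commute. -/
theorem trivial_of_commuting (hFT : OddOrderGlue.FeitThompson.{u}) (hH : commutator H = ⊤)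
    {P : Type v} [Group P] [Finite P] (hP : IsPGroup 2 P)
    (hc : ∀ e f : P, e ^ 2 = 1 → f ^ 2 = 1 → e * f = f * e)
    (φ : H →* MulAut P) (hfix : ∀ h e, e ^ 2 = 1 → φ h e = e) : ∀ h x, φ h x = x := by
  let I : Set P := {e | e ^ 2 = 1}
  let D : Subgroup P := Subgroup.centralizer I
  have hID : ∀ e, e ^ 2 = 1 → e ∈ D := fun e he =>
    Subgroup.mem_centralizer_iff.2 fun f hf => hc f e hf he
  have hDinv : ∀ h, ∀ x ∈ D, φ h x ∈ D := fun h x hx => Subgroup.mem_centralizer_iff.2 fun f hf => by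
    rw [← hfix h f hf, ← map_mul, ← map_mul, Subgroup.mem_centralizer_iff.1 hx f hf]
  let φD : H →* MulAut D :=
    { toFun := fun h =>
        { toFun := fun x => ⟨φ h x, hDinv h x x.2⟩
          invFun := fun x => ⟨φ h⁻¹ x, hDinv _ x x.2⟩
          left_inv := fun x => Subtype.ext (by
            show φ h⁻¹ (φ h x) = x
            rw [map_inv, MulAut.inv_apply_self])
          right_inv := fun x => Subtype.ext (by
            show φ h (φ h⁻¹ x) = x
            rw [map_inv, MulAut.apply_inv_self])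
          map_mul' := fun x y => Subtype.ext (map_mul (φ h) (x : P) y) }
      map_one' := MulEquiv.ext fun x => Subtype.ext (by show φ 1 (x : P) = x; rw [map_one]; rfl)
      map_mul' := fun g k => MulEquiv.ext fun x => Subtype.ext (by
        show φ (g * k) (x : P) = φ g (φ k x)
        rw [map_mul]; rfl) }
  have hD : ∀ h, ∀ x ∈ D, φ h x = x := fun h x hx =>
    congrArg Subtype.val (trivial_of_central hFT hH (hP.to_subgroup D)
      (fun e he y => Subtype.ext ((Subgroup.mem_centralizer_iff.1 y.2 (e : P))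
        (congrArg Subtype.val he)))
      φD (fun k e he => Subtype.ext (hfix k _ (congrArg Subtype.val he))) h ⟨x, hx⟩)
  refine trivial_of_stab_mul hH φ (D ⊓ Subgroup.centralizer (D : Set P))
    (fun a ha b hb => (Subgroup.mem_centralizer_iff.1 hb.2 a ha.1))
    (fun k z hz => hD k z hz.1) fun k x => ?_
  have hcent : ∀ d ∈ D, d * (x⁻¹ * φ k x) = (x⁻¹ * φ k x) * d := by
    intro d hd
    have hxd : x * d * x⁻¹ ∈ D := by
      refine Subgroup.mem_centralizer_iff.2 fun f hf => ?_
      have hf' : (x⁻¹ * f * x⁻¹⁻¹) ^ 2 = 1 := by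
        rw [conj_pow, show f ^ 2 = 1 from hf, mul_one, mul_inv_cancel]
      have h1 := Subgroup.mem_centralizer_iff.1 hd _ hf'
      calc f * (x * d * x⁻¹) = x * (x⁻¹ * f * x⁻¹⁻¹ * d) * x⁻¹ := by group
        _ = x * (d * (x⁻¹ * f * x⁻¹⁻¹)) * x⁻¹ := by rw [h1]
        _ = _ := by group
    have h4 := hD k _ hxd
    rw [map_mul, map_mul, map_inv, hD k d hd] at h4
    calc d * (x⁻¹ * φ k x) = x⁻¹ * (x * d * x⁻¹) * φ k x := by group
      _ = x⁻¹ * (φ k x * d * (φ k x)⁻¹) * φ k x := by rw [h4]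
      _ = x⁻¹ * φ k x * d := by group
  refine ⟨Subgroup.mem_centralizer_iff.2 fun f hf => hcent f (hID f hf),
    Subgroup.mem_centralizer_iff.2 hcent⟩

omit [Finite H] in
/-- A finite group whose perfect subgroups are trivial is solvable. -/
theorem isSolvable_of_perfect_bot {X : Type*} [Group X] [Finite X]
    (h : ∀ K : Subgroup X, commutator K = ⊤ → K = ⊥) : Group.IsSolvable X := by
  classical
  obtain ⟨n, hn⟩ : ∃ n, derivedSeries X (n + 1) = derivedSeries X n := by
    by_contra hne
    push Not at hne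
    have hs : StrictAnti (derivedSeries X) := strictAnti_nat_of_succ_lt fun n =>
      lt_of_le_of_ne (derivedSeries_antitone X n.le_succ) (hne n)
    exact not_injective_infinite_finite _ hs.injective
  rw [derivedSeries_succ] at hn
  refine Group.isSolvable_def X |>.2 ⟨n, h _ ?_⟩
  apply Subgroup.map_injective (derivedSeries X n).subtype_injective
  rw [← MonoidHom.range_eq_map, Subgroup.range_subtype, commutator_def, Subgroup.map_commutator,
    ← MonoidHom.range_eq_map, Subgroup.range_subtype, hn]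

/-- Automorphisms fixing the (commuting) involutions form a solvable group. -/
theorem isSolvable_fixing (P : Type u) [Group P] [Finite P] (hFT : OddOrderGlue.FeitThompson.{u})
    (hP : IsPGroup 2 P) (hc : ∀ e f : P, e ^ 2 = 1 → f ^ 2 = 1 → e * f = f * e)
    (X : Subgroup (MulAut P)) (hX : ∀ a ∈ X, ∀ e : P, e ^ 2 = 1 → a e = e) :
    Group.IsSolvable X := by
  haveI : Finite (MulAut P) := Finite.of_injective _ DFunLike.coe_injective
  refine isSolvable_of_perfect_bot fun K hK => eq_bot_iff.2 fun k hk => ?_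
  have h := trivial_of_commuting hFT hK hP hc (X.subtype.comp K.subtype)
    (fun a e he => hX _ a.1.2 e he) ⟨k, hk⟩
  exact Subtype.ext (MulEquiv.ext h)

end Cfsg.Agent.FG75.Aniso
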