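import Mathlib
import Cfsg.Agent.Lib.OddOrderGlue.Basic
import Cfsg.Agent.TwoLenInv.Anisotropic

/-!
An irreducible perfect group preserving an anisotropic quadratic map over two elements is trivial,
given the odd order theorem.
-/

set_option autoImplicit false
set_option linter.style.haveILetI false

namespace Cfsg.Agent.FG75.Aniso

open Cfsg

universe u v w

/-- The polar of a map into a group of exponent two. -/
def pol {A B : Type*} [Add A] [Add B] (q : A → B) (x y : A) : B := q (x + y) + q x + q y

theorem pol_comm {A B : Type*} [AddCommGroup A] [AddCommGroup B] (q : A → B) (x y : A) :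
    pol q x y = pol q y x := by
  simp only [pol, add_comm x y, add_right_comm]

/-- A finite group with an involution and all `2`-subgroups through it of order at most two is not
perfect. -/
theorem not_perfect_of_small_two {G : Type*} [Group G] [Finite G] (hG : commutator G = ⊤) {t : G}
    (ht : orderOf t = 2)
    (h : ∀ Q : Subgroup G, IsPGroup 2 Q → t ∈ Q → ∀ x ∈ Q, x = 1 ∨ x = t) : False := by
  haveI : Fact (Nat.Prime 2) := ⟨Nat.prime_two⟩
  have hz : IsPGroup 2 (Subgroup.zpowers t) :=
    IsPGroup.of_card (n := 1) (by rw [Nat.card_zpowers, ht, pow_one])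
  obtain ⟨P, hP⟩ := hz.exists_le_sylow
  have hPe : (P : Subgroup G) = Subgroup.zpowers t := by
    refine le_antisymm (fun x hx => ?_) hP
    rcases h P P.2 (hP (Subgroup.mem_zpowers t)) x hx with rfl | rfl
    · exact one_mem _
    · exact Subgroup.mem_zpowers _
  have hcyc : IsCyclic (P : Subgroup G) := by rw [hPe]; exact Subgroup.isCyclic_zpowers t
  have hmin : (Nat.card G).minFac = 2 :=
    (Nat.minFac_eq_two_iff _).2 (ht ▸ orderOf_dvd_natCard t)
  let f := MonoidHom.transferSylow P (hcyc.normalizer_le_centralizer hmin)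
  have hc : Subgroup.IsComplement' f.ker (P : Subgroup G) := IsCyclic.isComplement' hmin hcyc
  have hker : f.ker = ⊤ := top_le_iff.1 <| hG ▸ (by
    rw [commutator_def, Subgroup.commutator_le]
    intro a _ b _
    rw [MonoidHom.mem_ker, map_commutatorElement, commutatorElement_eq_one_iff_mul_comm]
    letI := hcyc.commGroup
    exact mul_comm _ _)
  rw [hker] at hc
  have h1 : Subgroup.zpowers t = ⊥ := hPe ▸ Subgroup.isComplement'_top_left.1 hc
  rw [Subgroup.zpowers_eq_bot] at h1
  rw [h1, orderOf_one] at ht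
  omega

variable {H : Type u} [Group H] [Finite H] {A : Type v} {B : Type w} [AddCommGroup A]
  [AddCommGroup B] [Finite A] [Finite B]

set_option maxHeartbeats 400000 in
/-- The irreducible case. -/
theorem trivial_of_irreducible (hFT : OddOrderGlue.FeitThompson.{u}) (hH : commutator H = ⊤)
    (hA : ∀ x : A, x + x = 0) (hB : ∀ x : B, x + x = 0) (q : A → B)
    (hadd : ∀ x y z, pol q (x + y) z = pol q x z + pol q y z) (hq : ∀ x, q x = 0 → x = 0)
    (hq0 : q 0 = 0) (hspan : AddSubgroup.closure (Set.range q) = ⊤)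
    (ρ : H →* AddMonoid.End A) (hinv : ∀ h x, q (ρ h x) = q x)
    (hirr : ∀ W : AddSubgroup A, (∀ h, ∀ x ∈ W, ρ h x ∈ W) → W = ⊥ ∨ W = ⊤) :
    ∀ h x, ρ h x = x := by
  classical
  by_contra hnt
  push Not at hnt
  obtain ⟨h₁, x₁, hx₁⟩ := hnt
  haveI : Nontrivial A := ⟨_, _, hx₁⟩
  letI : Module (ZMod 2) A := AddCommGroup.zmodModule fun x => by rw [two_nsmul]; exact hA x
  letI : Module (ZMod 2) B := AddCommGroup.zmodModule fun x => by rw [two_nsmul]; exact hB x
  have hρinj : ∀ h, Function.Injective (ρ h) := fun h x y e => by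
    have := congrArg (ρ h⁻¹) e
    have e2 : ∀ z, ρ h⁻¹ (ρ h z) = z := fun z => by
      rw [show ρ h⁻¹ (ρ h z) = (ρ h⁻¹ * ρ h) z from rfl, ← map_mul, inv_mul_cancel, map_one]
      rfl
    rwa [e2, e2] at this
  have hpinv : ∀ h x y, pol q (ρ h x) (ρ h y) = pol q x y := fun h x y => by
    simp only [pol, ← map_add, hinv]
  have hadd' : ∀ x y z, pol q x (y + z) = pol q x y + pol q x z := fun x y z => by
    rw [pol_comm q, hadd, pol_comm q y, pol_comm q z]
  -- the centraliser field
  let K := Subring.centralizer (Set.range ρ)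
  have hKc : ∀ (c : K) h x, (c : AddMonoid.End A) (ρ h x) = ρ h ((c : AddMonoid.End A) x) :=
    fun c h x => (DFunLike.congr_fun (Subring.mem_centralizer_iff.1 c.2 _ ⟨h, rfl⟩) x).symm
  haveI : Finite (AddMonoid.End A) := Finite.of_injective _ DFunLike.coe_injective
  haveI : Finite K := inferInstance
  haveI : Nontrivial K := ⟨0, 1, fun h => hx₁ (by
    have h1 := fun z => DFunLike.congr_fun (congrArg Subtype.val h) z
    exact ((h1 (ρ h₁ x₁)).symm.trans rfl : _).trans (h1 x₁))⟩
  haveI : NoZeroDivisors K := ⟨fun {f g} hfg => by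
    rcases eq_or_ne g 0 with hg | hg
    · exact Or.inr hg
    refine Or.inl (Subtype.ext (AddMonoidHom.ext fun w => ?_))
    let W : AddSubgroup A := AddMonoidHom.range (g : AddMonoid.End A)
    have hW : ∀ h, ∀ x ∈ W, ρ h x ∈ W := by
      rintro h x ⟨u, rfl⟩
      exact ⟨ρ h u, hKc g h u⟩
    have hWt : W = ⊤ := (hirr W hW).resolve_left fun hb => hg (Subtype.ext
      (AddMonoidHom.ext fun u => (AddSubgroup.mem_bot.1 (hb ▸ ⟨u, rfl⟩ : _ ∈ (⊥ : AddSubgroup A)))))
    obtain ⟨u, hu⟩ : w ∈ W := hWt ▸ AddSubgroup.mem_top _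
    exact (congrArg _ hu.symm).trans (DFunLike.congr_fun (congrArg Subtype.val hfg) u)⟩
  haveI : IsDomain K := NoZeroDivisors.to_isDomain K
  letI : Field K := { (inferInstance : Ring K), (Finite.isDomain_to_isField K).toField with }
  have hsmul : ∀ (c : K) x, c • x = (c : AddMonoid.End A) x := fun _ _ => rfl
  have hKlin : ∀ h (c : K) x, ρ h (c • x) = c • ρ h x := fun h c x => (hKc c h x).symm
  -- invariant forms
  let form : (B →ₗ[ZMod 2] ZMod 2) → A →ₗ[ZMod 2] Module.Dual (ZMod 2) A := fun lam =>
    AddMonoidHom.toZModLinearMap 2 (AddMonoidHom.mk' (fun x => AddMonoidHom.toZModLinearMap 2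
      (AddMonoidHom.mk' (fun y => lam (pol q x y)) fun y z => by rw [hadd', map_add]))
      fun x y => LinearMap.ext fun z => by
        show lam (pol q (x + y) z) = lam (pol q x z) + lam (pol q y z)
        rw [hadd, map_add])
  have hform : ∀ lam x y, form lam x y = lam (pol q x y) := fun _ _ _ => rfl
  have hzero : ∀ lam, form lam = 0 → lam = 0 := by
    intro lam hl
    let m : A →+ ZMod 2 := AddMonoidHom.mk' (fun x => lam (q x)) fun x y => by
      have h := LinearMap.congr_fun (LinearMap.congr_fun hl x) y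
      rw [hform] at h
      simp only [pol, map_add, LinearMap.zero_apply] at h
      have h2 : ∀ a b c : ZMod 2, a + b + c = 0 → a = b + c := by decide
      exact h2 _ _ _ h
    rcases hirr m.ker (fun h x hx => by
      rw [AddMonoidHom.mem_ker] at hx ⊢
      show lam (q (ρ h x)) = 0
      rw [hinv]; exact hx) with hb | ht
    · have hinj : Function.Injective m := (AddMonoidHom.ker_eq_bot_iff m).1 hb
      refine absurd (hinj ?_) hx₁
      show lam (q (ρ h₁ x₁)) = lam (q x₁)
      rw [hinv]
    · have : AddSubgroup.closure (Set.range q) ≤ lam.toAddMonoidHom.ker := by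
        rw [AddSubgroup.closure_le]
        rintro _ ⟨x, rfl⟩
        exact (ht ▸ AddSubgroup.mem_top x : x ∈ m.ker)
      rw [hspan] at this
      exact LinearMap.ext fun z => this (AddSubgroup.mem_top z)
  have hsep : ∀ x y : B, (∀ lam : B →ₗ[ZMod 2] ZMod 2, lam x = lam y) → x = y := fun x y h => by
    rw [← sub_eq_zero]
    exact (Module.forall_dual_apply_eq_zero_iff (ZMod 2) _).1 fun lam => by rw [map_sub, h, sub_self]
  obtain ⟨z₀, hz₀⟩ := exists_ne (0 : A)
  haveI : Nontrivial B := ⟨q z₀, 0, fun h => hz₀ (hq _ h)⟩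
  obtain ⟨lam₀, hlam₀⟩ : ∃ lam : B →ₗ[ZMod 2] ZMod 2, lam ≠ 0 := by
    by_contra h
    push Not at h
    exact hz₀ (hq _ (hsep _ _ fun lam => by rw [h lam]; rfl))
  let b₀ := form lam₀
  have hb₀i : Function.Injective b₀ := by
    rw [injective_iff_map_eq_zero]
    intro x hx
    rcases hirr (LinearMap.ker b₀).toAddSubgroup (fun h y hy => by
      refine LinearMap.mem_ker.2 (LinearMap.ext fun z => ?_)
      obtain ⟨z', rfl⟩ : ∃ z', ρ h z' = z := Finite.surjective_of_injective (hρinj h) z
      rw [show b₀ = form lam₀ from rfl, hform, hpinv]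
      exact LinearMap.congr_fun (LinearMap.mem_ker.1 hy) z') with hb | ht
    · exact AddSubgroup.mem_bot.1 (hb ▸ (LinearMap.mem_ker.2 hx : x ∈ (LinearMap.ker b₀).toAddSubgroup))
    · exact absurd (hzero lam₀ (LinearMap.ext fun z => LinearMap.mem_ker.1
        (ht ▸ AddSubgroup.mem_top z : z ∈ (LinearMap.ker b₀).toAddSubgroup))) hlam₀
  have hb₀b : Function.Bijective b₀ :=
    ⟨hb₀i, (LinearMap.injective_iff_surjective_of_finrank_eq_finrank
      (Subspace.dual_finrank_eq).symm).1 hb₀i⟩
  let e₀ := LinearEquiv.ofBijective b₀ hb₀b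
  have he₀ : ∀ x, e₀ x = b₀ x := fun _ => rfl
  have hb₀inv : ∀ h x y, b₀ (ρ h x) (ρ h y) = b₀ x y := fun h x y => by
    show form lam₀ _ _ = form lam₀ _ _
    rw [hform, hform, hpinv]
  -- invariant forms give elements of `K`
  have htoK : ∀ b : A →ₗ[ZMod 2] Module.Dual (ZMod 2) A,
      (∀ h x y, b (ρ h x) (ρ h y) = b x y) → ∃ c : K, ∀ x, b x = b₀ (c • x) := by
    intro b hb
    let f : AddMonoid.End A := (e₀.symm.toLinearMap.comp b).toAddMonoidHom
    have hf : ∀ x, b₀ (f x) = b x := fun x => (he₀ _).symm.trans (e₀.apply_symm_apply (b x))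
    refine ⟨⟨f, Subring.mem_centralizer_iff.2 ?_⟩, fun x => (hf x).symm⟩
    rintro _ ⟨h, rfl⟩
    refine AddMonoidHom.ext fun x => hb₀i (LinearMap.ext fun z => ?_)
    obtain ⟨z', rfl⟩ : ∃ z', ρ h z' = z := Finite.surjective_of_injective (hρinj h) z
    show b₀ (ρ h (f x)) (ρ h z') = b₀ (f (ρ h x)) (ρ h z')
    rw [hb₀inv, hf, hf, hb]
  have hforminv : ∀ lam h x y, form lam (ρ h x) (ρ h y) = form lam x y := fun lam h x y => by
    rw [hform, hform, hpinv]
  choose toK htoK' using fun lam => htoK (form lam) (hforminv lam)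
  -- the target is small
  have hBK : Nat.card B ≤ Nat.card K := by
    have hinj : Function.Injective toK := by
      intro l l' e
      refine sub_eq_zero.1 (hzero _ (LinearMap.ext fun x => LinearMap.ext fun y => ?_))
      have h1 : form l x y = form l' x y :=
        (LinearMap.congr_fun (htoK' l x) y).trans
          ((by rw [e] : b₀ (toK l • x) y = b₀ (toK l' • x) y).trans
            (LinearMap.congr_fun (htoK' l' x) y).symm)
      rw [hform, LinearMap.sub_apply, ← hform, ← hform, h1, sub_self]
      rfl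
    refine le_trans (le_of_eq ?_) (Nat.card_le_card_of_injective toK hinj)
    exact Nat.card_congr (Module.finBasis (ZMod 2) B).toDualEquiv.toEquiv
  have hq3 : ∀ x y z, q (x + y + z) + q (x + y) + q (x + z) + q (y + z) + q x + q y + q z = 0 := by
    intro x y z
    have h := hadd x y z
    rw [← sub_eq_zero] at h
    simp only [pol] at h
    have hneg : ∀ a : B, -a = a := fun a => neg_eq_of_add_eq_zero_left (hB a)
    simp only [sub_eq_add_neg, hneg] at h
    calc q (x + y + z) + q (x + y) + q (x + z) + q (y + z) + q x + q y + q z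
        = q (x + y + z) + q (x + y) + q (x + z) + q (y + z) + q x + q y + q z + (q z + q z) := by
          rw [hB, add_zero]
      _ = _ := by rw [← h]; abel
  have hAB := TwoLenInv.finrank_le_of_anisotropic q hq0 hq3 hq
  have hAK : Nat.card A ≤ Nat.card K ^ 2 := by
    refine le_trans ?_ (Nat.pow_le_pow_left hBK 2)
    rw [Module.natCard_eq_pow_finrank (K := ZMod 2) (V := A),
      Module.natCard_eq_pow_finrank (K := ZMod 2) (V := B), Nat.card_zmod, ← pow_mul, mul_comm _ 2]
    exact Nat.pow_le_pow_right two_pos hAB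
  haveI : Module.Finite K A := Module.Finite.of_finite
  have hK1 : 1 < Nat.card K := Finite.one_lt_card
  have hm2 : Module.finrank K A ≤ 2 := by
    rw [Module.natCard_eq_pow_finrank (K := K) (V := A)] at hAK
    exact (Nat.pow_le_pow_iff_right hK1).1 hAK
  -- dimension at least two
  have hm : Module.finrank K A = 2 := by
    have h0 : 0 < Module.finrank K A := Module.finrank_pos
    by_contra hne
    have h1 : Module.finrank K A = 1 := by omega
    obtain ⟨v, -, hv⟩ := (finrank_eq_one_iff' (K := K) (V := A)).1 h1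
    choose co hco using hv
    have hcomm : ∀ g h x, ρ g (ρ h x) = ρ h (ρ g x) := by
      have e : ∀ g y, ρ g y = co (ρ g v) • y := fun g y => by
        have h1 : ρ g (co y • v) = co (ρ g v) • co y • v := by
          rw [hKlin, smul_comm, hco]
        rwa [hco] at h1
      intro g h x
      rw [e g (ρ h x), e h x, e h (ρ g x), e g x, smul_comm]
    let U : Subgroup H :=
      { carrier := {h | ∀ x, ρ h x = x}
        one_mem' := fun x => by rw [map_one]; rfl
        mul_mem' := fun {a b} ha hb x => by rw [map_mul]; exact (congrArg _ (hb x)).trans (ha x)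
        inv_mem' := fun {a} ha x => by
          conv_lhs => rw [← ha x]
          rw [show ρ a⁻¹ (ρ a x) = (ρ a⁻¹ * ρ a) x from rfl, ← map_mul, inv_mul_cancel, map_one]
          rfl }
    have hU : commutator H ≤ U := by
      rw [commutator_def, Subgroup.commutator_le]
      intro a _ b _ x
      simp only [commutatorElement_def, map_mul]
      show ρ a (ρ b (ρ a⁻¹ (ρ b⁻¹ x))) = x
      rw [hcomm b a⁻¹, show ρ a (ρ a⁻¹ (ρ b (ρ b⁻¹ x))) = (ρ a * ρ a⁻¹ * (ρ b * ρ b⁻¹)) x from rfl,
        ← map_mul, ← map_mul, mul_inv_cancel, mul_inv_cancel, map_one, mul_one]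
      rfl
    exact hx₁ ((hU (hH ▸ Subgroup.mem_top h₁)) x₁)
  -- the image contains an involution
  let X := H ⧸ ρ.ker
  have hX : commutator X = ⊤ := by
    have h := Subgroup.map_commutator (⊤ : Subgroup H) ⊤ (QuotientGroup.mk' ρ.ker)
    rw [Subgroup.map_top_of_surjective _ (QuotientGroup.mk'_surjective ρ.ker), ← commutator_def,
      ← commutator_def, hH, Subgroup.map_top_of_surjective _ (QuotientGroup.mk'_surjective ρ.ker)] at h
    exact h.symm
  let σ : X →* AddMonoid.End A := QuotientGroup.lift ρ.ker ρ le_rfl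
  have hσinj : Function.Injective σ := by
    intro a b e
    obtain ⟨a, rfl⟩ := QuotientGroup.mk'_surjective ρ.ker a
    obtain ⟨b, rfl⟩ := QuotientGroup.mk'_surjective ρ.ker b
    refine (QuotientGroup.eq (s := ρ.ker)).2 ?_
    rw [MonoidHom.mem_ker, map_mul]
    have e' : ρ a = ρ b := e
    rw [← e', ← map_mul, inv_mul_cancel, map_one]
  have hσ : ∀ ξ : X, ∃ h, σ ξ = ρ h := fun ξ => by
    obtain ⟨h, rfl⟩ := QuotientGroup.mk'_surjective ρ.ker ξ
    exact ⟨h, rfl⟩
  have hσlin : ∀ ξ (c : K) x, σ ξ (c • x) = c • σ ξ x := fun ξ c x => by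
    obtain ⟨h, e⟩ := hσ ξ
    rw [e]; exact hKlin h c x
  have hσq : ∀ ξ x, q (σ ξ x) = q x := fun ξ x => by
    obtain ⟨h, e⟩ := hσ ξ
    rw [e]; exact hinv h x
  haveI : Nontrivial X := ⟨(h₁ : X), 1, fun e => hx₁ (by
    have := congrArg σ e
    rw [map_one] at this
    exact DFunLike.congr_fun this x₁)⟩
  have heven : 2 ∣ Nat.card X := by
    by_contra hodd
    haveI : Group.IsSolvable X := hFT X (Nat.not_even_iff_odd.1 (fun h => hodd h.two_dvd))
    exact (Group.IsSolvable.commutator_lt_top_of_nontrivial X).ne hX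
  haveI : Fact (Nat.Prime 2) := ⟨Nat.prime_two⟩
  obtain ⟨t, ht⟩ := exists_prime_orderOf_dvd_card' (G := X) 2 heven
  have ht2 : ∀ x, σ t (σ t x) = x := fun x => by
    rw [show σ t (σ t x) = (σ t * σ t) x from rfl, ← map_mul, ← sq,
      show t ^ 2 = 1 by rw [← ht, pow_orderOf_eq_one], map_one]
    rfl
  let N : A →ₗ[K] A :=
    { toFun := fun x => σ t x + x
      map_add' := fun x y => by rw [map_add]; abel
      map_smul' := fun c x => by simp only [hσlin, smul_add, RingHom.id_apply] }
  have hN : ∀ x, N x = σ t x + x := fun _ => rfl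
  have hNN : ∀ x, N (N x) = 0 := fun x => by
    simp only [hN, map_add, ht2]
    rw [add_comm x, hA]
  have hN0 : N ≠ 0 := fun h => by
    have h1 : t = 1 := hσinj (AddMonoidHom.ext fun x => by
      rw [map_one]
      have := LinearMap.congr_fun h x
      rw [hN, LinearMap.zero_apply] at this
      calc σ t x = σ t x + (x + x) := by rw [hA, add_zero]
        _ = x := by rw [← add_assoc, this, zero_add])
    rw [h1, orderOf_one] at ht
    omega
  obtain ⟨w₀, hw₀⟩ : ∃ w, N w ≠ 0 := by
    by_contra h
    push Not at h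
    exact hN0 (LinearMap.ext h)
  set v₀ := N w₀ with hv₀
  have hindep : LinearIndependent K ![v₀, w₀] := by
    rw [LinearIndependent.pair_iff]
    intro a b hab
    have h1 : N (a • v₀ + b • w₀) = 0 := by rw [hab, map_zero]
    rw [map_add, map_smul, map_smul, hv₀, hNN, smul_zero, zero_add, smul_eq_zero] at h1
    have hb := h1.resolve_right hw₀
    rw [hb, zero_smul K, add_zero, smul_eq_zero] at hab
    exact ⟨hab.resolve_right hw₀, hb⟩
  have hdec : ∀ x : A, ∃ a b : K, x = a • v₀ + b • w₀ := by
    intro x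
    have htop := hindep.span_eq_top_of_card_eq_finrank (by rw [Fintype.card_fin, hm])
    have hx : x ∈ Submodule.span K (Set.range ![v₀, w₀]) := htop ▸ Submodule.mem_top
    rw [Matrix.range_cons, Matrix.range_cons, Matrix.range_empty, Set.union_empty,
      Set.singleton_union, Submodule.mem_span_pair] at hx
    obtain ⟨a, b, e⟩ := hx
    exact ⟨a, b, e.symm⟩
  -- `q` on the line
  have hqN : ∀ x, q (N x) = pol q x (N x) := fun x => by
    have h : q (x + N x) = q x := by
      rw [hN, show x + (σ t x + x) = σ t x by rw [add_comm, add_assoc, hA, add_zero]]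
      exact hσq t x
    simp only [pol, h, hB, zero_add]
  have hiso : ∀ a c : K, pol q (a • v₀) (c • v₀) = 0 := by
    intro a c
    have h1 := hqN (c • w₀ + a • v₀)
    have h2 : N (c • w₀ + a • v₀) = c • v₀ := by
      rw [map_add, map_smul, map_smul, hv₀, hNN, smul_zero, add_zero]
    rw [h2, hadd] at h1
    have h3 := hqN (c • w₀)
    rw [map_smul, ← hv₀] at h3
    rw [h3] at h1
    exact add_eq_left.1 h1.symm
  have hqv : ∀ c : K, q (c • v₀) = pol q (c • w₀) (c • v₀) := fun c => by
    have h3 := hqN (c • w₀)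
    rwa [map_smul, ← hv₀] at h3
  have hsym : ∀ c d : K, pol q (c • w₀) (d • v₀) = pol q (d • w₀) (c • v₀) := by
    intro c d
    have h1 := hqv (c + d)
    rw [add_smul, add_smul, hadd, hadd', hadd', ← hqv, ← hqv] at h1
    have h2 : q (c • v₀ + d • v₀) = q (c • v₀) + q (d • v₀) := by
      have h := hiso c d
      simp only [pol] at h
      calc q (c • v₀ + d • v₀) = q (c • v₀ + d • v₀) +
            ((q (c • v₀) + q (c • v₀)) + (q (d • v₀) + q (d • v₀))) := by
            rw [hB, hB, add_zero, add_zero]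
        _ = (q (c • v₀ + d • v₀) + q (c • v₀) + q (d • v₀)) + (q (c • v₀) + q (d • v₀)) := by abel
        _ = _ := by rw [h, zero_add]
    rw [h2] at h1
    have h3 : pol q (c • w₀) (d • v₀) + pol q (d • w₀) (c • v₀) = 0 := by
      refine add_left_cancel (a := q (c • v₀) + q (d • v₀)) ?_
      rw [add_zero]
      refine Eq.trans ?_ h1.symm
      abel
    calc pol q (c • w₀) (d • v₀) = pol q (c • w₀) (d • v₀) +
          (pol q (d • w₀) (c • v₀) + pol q (d • w₀) (c • v₀)) := by rw [hB, add_zero]
      _ = _ := by rw [← add_assoc, h3, zero_add]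
  -- the adjoint
  have hadj : ∀ c : K, ∃ c' : K, ∀ x y, b₀ (c • x) y = b₀ x (c' • y) := by
    intro c
    let b : A →ₗ[ZMod 2] Module.Dual (ZMod 2) A :=
      AddMonoidHom.toZModLinearMap 2 (AddMonoidHom.mk' (fun y => AddMonoidHom.toZModLinearMap 2
        (AddMonoidHom.mk' (fun x => b₀ (c • x) y) fun x x' => by
          rw [smul_add, map_add, LinearMap.add_apply]))
        fun y y' => LinearMap.ext fun x => map_add (b₀ (c • x)) y y')
    have hb : ∀ y x, b y x = b₀ (c • x) y := fun _ _ => rfl
    obtain ⟨c', hc'⟩ := htoK b fun h y x => by rw [hb, hb, ← hKlin, hb₀inv]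
    refine ⟨c', fun x y => ?_⟩
    rw [← hb, hc']
    show form lam₀ _ _ = form lam₀ _ _
    rw [hform, hform, pol_comm]
  choose s hs using hadj
  have hsb : ∀ (c : K) x y, pol q (c • x) y = pol q x (s c • y) := by
    intro c x y
    refine hsep _ _ fun lam => ?_
    have e1 : ∀ x y, form lam x y = b₀ (toK lam • x) y := fun x y =>
      LinearMap.congr_fun (htoK' lam x) y
    rw [← hform, ← hform, e1, e1, smul_smul, mul_comm, ← smul_smul, hs]
  have hs1 : ∀ c c', (∀ x y, b₀ (c • x) y = b₀ x (c' • y)) → s c = c' := by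
    intro c c' h
    obtain ⟨y, hy⟩ := exists_ne (0 : A)
    by_contra hne
    refine hy (by
      have h0 : (s c - c') • y = 0 := hb₀i (LinearMap.ext fun x => ?_)
      · exact (smul_eq_zero.1 h0).resolve_left (sub_ne_zero.2 hne)
      rw [map_zero, LinearMap.zero_apply]
      show form lam₀ _ _ = 0
      rw [hform, pol_comm, ← hform]
      show b₀ x ((s c - c') • y) = 0
      rw [sub_smul, map_sub, ← hs, ← h, sub_self])
  have hsone : s 1 = 1 := hs1 1 1 fun x y => by rw [one_smul, one_smul]
  have hsmul' : ∀ c d, s (c * d) = s c * s d := fun c d => hs1 _ _ fun x y => by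
    rw [mul_comm c d, ← smul_smul, ← smul_smul, hs, hs]
  let G : K → B := fun c => pol q w₀ (c • v₀)
  have hg : ∀ c d : K, pol q (c • w₀) (d • v₀) = G (s c * d) := fun c d => by
    rw [hsb, smul_smul]
  have hGs : ∀ c, G (s c) = G c := fun c => by
    have h := hsym c 1
    rw [hg, hg, hsone, mul_one, one_mul] at h
    exact h
  have hqinj : ∀ c d : K, q (c • v₀) = q (d • v₀) → c = d := by
    intro c d h
    by_contra hne
    have h0 : q (c • v₀ + d • v₀) = 0 := by
      have h1 := hiso c d
      simp only [pol] at h1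
      rwa [h, add_assoc, hB, add_zero] at h1
    have h2 := hq _ h0
    rw [← add_smul, smul_eq_zero] at h2
    have h3 : c + d = 0 := h2.resolve_right hw₀
    refine hne ?_
    have h4 : (d + d : K) = 0 := Subtype.ext (AddMonoidHom.ext fun x => hA _)
    calc c = c + (d + d) := by rw [h4, add_zero]
      _ = d := by rw [← add_assoc, h3, zero_add]
  have hsid : ∀ c, s c = c := by
    intro c
    apply hqinj
    rw [hqv, hqv, hg, hg, ← hsmul', hGs]
  have hGbij : ∀ a : K, G (a * a) = 0 → a = 0 := by
    intro a ha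
    refine hqinj a 0 ?_
    rw [hqv, hg, hsid, ha, zero_smul K, hq0]
  have hK2 : ∀ a : K, ∃ b, b * b = a := by
    have : Function.Injective fun b : K => b * b := fun a b h => by
      have h4 : ∀ d : K, d + d = 0 := fun d => Subtype.ext (AddMonoidHom.ext fun x => hA _)
      rcases mul_self_eq_mul_self_iff.1 h with e | e
      · exact e
      · exact e.trans (neg_eq_of_add_eq_zero_left (h4 b))
    exact fun a => Finite.surjective_of_injective this a
  have hG0 : ∀ a : K, G a = 0 → a = 0 := fun a ha => by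
    obtain ⟨b, rfl⟩ := hK2 a
    rw [hGbij b ha, mul_zero]
  have hGadd : ∀ a b, G (a + b) = G a + G b := fun a b => by
    show pol q w₀ _ = _
    rw [add_smul, hadd']
  -- stabilisers
  have hstab : ∀ ξ : X, σ ξ v₀ = v₀ → ξ = 1 ∨ ξ = t := by
    intro ξ hξ
    obtain ⟨a, d, hw⟩ := hdec (σ ξ w₀)
    have hpol : ∀ x y, pol q (σ ξ x) (σ ξ y) = pol q x y := fun x y => by
      simp only [pol, ← map_add, hσq]
    have hd : d = 1 := by
      have h := hpol w₀ v₀
      rw [hw, hξ, hadd] at h
      have e1 : pol q (a • v₀) v₀ = 0 := by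
        have := hiso a 1
        rwa [one_smul] at this
      have e2 : ∀ e : K, pol q (e • w₀) v₀ = G e := fun e => by
        have := hg e 1
        rwa [one_smul, hsid, mul_one] at this
      have e3 : pol q w₀ v₀ = G 1 := by
        show _ = pol q w₀ ((1 : K) • v₀)
        rw [one_smul]
      rw [e1, zero_add, e2, e3] at h
      by_contra hne
      refine hne (sub_eq_zero.1 (hG0 _ ?_))
      have h4 : ∀ e : K, -e = e := fun e =>
        neg_eq_of_add_eq_zero_left (Subtype.ext (AddMonoidHom.ext fun x => hA _))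
      rw [sub_eq_add_neg, h4, hGadd, h, hB]
    rw [hd, one_smul] at hw
    have ha : a = 0 ∨ a = 1 := by
      have h := hσq ξ w₀
      rw [hw] at h
      have h1 : pol q (a • v₀) w₀ = q (a • v₀) := by
        simp only [pol, h]
        rw [add_comm (q w₀) (q (a • v₀)), add_assoc, hB, add_zero]
      rw [pol_comm, hqv, hg, hsid] at h1
      have h2 : G (a * a + a) = 0 := by
        rw [hGadd, show G a = pol q w₀ (a • v₀) from rfl, h1, hB]
      have h3 : a * (a + 1) = 0 := by rw [mul_add, mul_one]; exact hG0 _ h2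
      rcases mul_eq_zero.1 h3 with e | e
      · exact Or.inl e
      · exact Or.inr ((eq_neg_of_add_eq_zero_left e).trans
          (neg_eq_of_add_eq_zero_left (Subtype.ext (AddMonoidHom.ext fun x => hA _))))
    have key : ∀ η : X, σ η v₀ = v₀ → σ η w₀ = σ ξ w₀ → η = ξ := fun η h1 h2 =>
      hσinj (AddMonoidHom.ext fun x => by
        obtain ⟨c, e, rfl⟩ := hdec x
        refine ((σ η).map_add _ _).trans (Eq.trans ?_ ((σ ξ).map_add _ _).symm)
        show σ η (c • v₀) + σ η (e • w₀) = σ ξ (c • v₀) + σ ξ (e • w₀)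
        rw [hσlin, hσlin, hσlin, hσlin, h1, h2, hξ])
    rcases ha with rfl | rfl
    · rw [zero_smul K, zero_add] at hw
      exact Or.inl (key 1 (by rw [map_one]; rfl) (by rw [map_one, hw]; rfl)).symm
    · rw [one_smul] at hw
      refine Or.inr (key t ?_ ?_).symm
      · have := hNN w₀
        rw [← hv₀, hN] at this
        calc σ t v₀ = σ t v₀ + (v₀ + v₀) := by rw [hA, add_zero]
          _ = v₀ := by rw [← add_assoc, this, zero_add]
      · rw [hw, hv₀, hN, add_assoc, hA, add_zero]
  -- a Sylow `2`-subgroup has order two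
  refine not_perfect_of_small_two hX ht fun Q hQ htQ ξ hξ => ?_
  letI : MulAction Q A :=
    { smul := fun η x => σ (η : X) x
      one_smul := fun x => by show σ (1 : X) x = x; rw [map_one]; rfl
      mul_smul := fun η η' x => by show σ ((η : X) * η') x = _; rw [map_mul]; rfl }
  have h0 : (0 : A) ∈ MulAction.fixedPoints Q A := fun η => map_zero (σ (η : X))
  obtain ⟨v, hvf, hv0⟩ := hQ.exists_fixed_point_of_prime_dvd_card_of_fixed_point A (by
    rw [Module.natCard_eq_pow_finrank (K := ZMod 2) (V := A), Nat.card_zmod]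
    exact dvd_pow_self 2 Module.finrank_pos.ne') h0
  have hvt : σ t v = v := hvf ⟨t, htQ⟩
  obtain ⟨c, e, rfl⟩ := hdec v
  have he : e = 0 := by
    have h1 : N (c • v₀ + e • w₀) = 0 := by rw [hN, hvt, hA]
    rw [map_add, map_smul, map_smul, hv₀, hNN, smul_zero, zero_add, smul_eq_zero] at h1
    exact h1.resolve_right hw₀
  rw [he, zero_smul K, add_zero] at hvf hv0
  have hc : c ≠ 0 := fun h => hv0 (by rw [h, zero_smul K])
  refine hstab ξ ?_
  have h1 : σ ξ (c • v₀) = c • v₀ := hvf ⟨ξ, hξ⟩
  rw [hσlin] at h1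
  exact smul_right_injective A hc h1

end Cfsg.Agent.FG75.Aniso
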