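import Cfsg.Agent.FG75.AnisoIrreducible

/-!
A perfect group preserving an anisotropic quadratic map over two elements is trivial, given the odd
order theorem.
-/

set_option autoImplicit false
set_option linter.style.haveILetI false

namespace Cfsg.Agent.FG75.Aniso

open Cfsg

universe u v w

/-- Maps into an abelian group from a perfect group are trivial. -/
theorem eq_one_of_perfect {H M : Type*} [Group H] [CommGroup M] (hH : commutator H = ⊤)
    (f : H →* M) (h : H) : f h = 1 := by
  have : commutator H ≤ f.ker := by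
    rw [commutator_def, Subgroup.commutator_le]
    intro a _ b _
    rw [MonoidHom.mem_ker, map_commutatorElement, commutatorElement_eq_one_iff_mul_comm]
    exact mul_comm _ _
  rw [hH] at this
  exact this (Subgroup.mem_top h)

variable {H : Type u} [Group H] [Finite H]

/-- A perfect group moving points by fixed elements is trivial. -/
theorem trivial_of_stab_add (hH : commutator H = ⊤) {A : Type v} [AddCommGroup A]
    (ρ : H →* AddMonoid.End A) (h0 : ∀ h g x, ρ g (ρ h x - x) = ρ h x - x) :
    ∀ h x, ρ h x = x := by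
  intro h x
  let f : H →* Multiplicative A :=
    { toFun := fun h => Multiplicative.ofAdd (ρ h x - x)
      map_one' := by rw [map_one]; show Multiplicative.ofAdd (x - x) = 1; rw [sub_self]; rfl
      map_mul' := fun g k => by
        rw [← ofAdd_add, map_mul]
        refine congrArg Multiplicative.ofAdd ?_
        have h1 : (ρ g) (ρ k x - x) = ρ g (ρ k x) - ρ g x := AddMonoidHom.map_sub (ρ g) _ _
        show ρ g (ρ k x) - x = _
        rw [← h0 k g x, h1]
        abel }
  have h1 : ρ h x - x = 0 := congrArg Multiplicative.toAdd (eq_one_of_perfect hH f h)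
  exact sub_eq_zero.1 h1

/-- A perfect group preserving an anisotropic quadratic map is trivial. -/
theorem trivial_of_anisotropic (hFT : OddOrderGlue.FeitThompson.{u}) (hH : commutator H = ⊤) :
    ∀ (n : ℕ) (A : Type v) (B : Type w) [AddCommGroup A] [AddCommGroup B] [Finite A] [Finite B],
      Nat.card A = n → (∀ x : A, x + x = 0) → (∀ x : B, x + x = 0) → ∀ q : A → B,
      (∀ x y z, pol q (x + y) z = pol q x z + pol q y z) → (∀ x, q x = 0 → x = 0) → q 0 = 0 →
      ∀ ρ : H →* AddMonoid.End A, (∀ h x, q (ρ h x) = q x) → ∀ h x, ρ h x = x := by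
  intro n
  induction n using Nat.strong_induction_on with
  | _ n ih =>
  intro A B _ _ _ _ hn hA hB q hadd hq hq0 ρ hinv
  classical
  have hcomp : ∀ g h x, ρ g (ρ h x) = ρ (g * h) x := fun g h x => by rw [map_mul]; rfl
  -- proper invariant subgroups are fixed
  have hsub : ∀ W : AddSubgroup A, (∀ h, ∀ x ∈ W, ρ h x ∈ W) → W ≠ ⊤ → ∀ h, ∀ x ∈ W, ρ h x = x := by
    intro W hW hne
    have hlt : Nat.card W < n := by
      refine hn ▸ lt_of_le_of_ne (AddSubgroup.card_le_card_addGroup W) fun h => hne ?_
      exact AddSubgroup.eq_top_of_card_eq W h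
    let ρW : H →* AddMonoid.End W :=
      { toFun := fun h => AddMonoidHom.mk' (fun x => ⟨ρ h x, hW h x x.2⟩)
          fun x y => Subtype.ext ((ρ h).map_add x y)
        map_one' := AddMonoidHom.ext fun x => Subtype.ext (by
          show ρ 1 (x : A) = x
          rw [map_one]; rfl)
        map_mul' := fun g k => AddMonoidHom.ext fun x => Subtype.ext (hcomp g k x).symm }
    have h := ih _ hlt W B rfl (fun x => Subtype.ext (hA x)) hB (fun x => q x)
      (fun x y z => hadd x y z) (fun x hx => Subtype.ext (hq x hx)) hq0 ρW (fun h x => hinv h x)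
    exact fun g x hx => congrArg Subtype.val (h g ⟨x, hx⟩)
  -- commutators
  let D := AddSubgroup.closure (Set.range fun p : H × A => ρ p.1 p.2 - p.2)
  have hD : ∀ h, ∀ x ∈ D, ρ h x ∈ D := by
    intro h x hx
    induction hx using AddSubgroup.closure_induction with
    | mem y hy =>
      obtain ⟨⟨k, z⟩, rfl⟩ := hy
      refine AddSubgroup.subset_closure ⟨(h * k * h⁻¹, ρ h z), ?_⟩
      show ρ (h * k * h⁻¹) (ρ h z) - ρ h z = ρ h (ρ k z - z)
      rw [hcomp, inv_mul_cancel_right, ← hcomp]
      exact (AddMonoidHom.map_sub (ρ h) _ _).symm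
    | zero => rw [show ρ h 0 = 0 from (ρ h).map_zero]; exact zero_mem _
    | add y z _ _ hy hz => rw [show ρ h (y + z) = ρ h y + ρ h z from (ρ h).map_add y z]; exact add_mem hy hz
    | neg y _ hy => rw [show ρ h (-y) = -ρ h y from (ρ h).map_neg y]; exact neg_mem hy
  by_cases hDt : D = ⊤
  swap
  · exact trivial_of_stab_add hH ρ fun h g x =>
      hsub D hD hDt g _ (AddSubgroup.subset_closure ⟨(h, x), rfl⟩)
  let W0 : AddSubgroup A :=
    { carrier := {x | ∀ h, ρ h x = x}
      zero_mem' := fun h => (ρ h).map_zero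
      add_mem' := fun {a b} ha hb h => ((ρ h).map_add a b).trans (congrArg₂ (· + ·) (ha h) (hb h))
      neg_mem' := fun {a} ha h => ((ρ h).map_neg a).trans (congrArg Neg.neg (ha h)) }
  have hW0 : ∀ h, ∀ x ∈ W0, ρ h x ∈ W0 := fun h x hx => by rw [hx h]; exact hx
  rcases eq_or_ne W0 ⊤ with ht | ht
  · exact fun h x => (ht ▸ AddSubgroup.mem_top x : x ∈ W0) h
  rcases eq_or_ne W0 ⊥ with hb | hb
  · -- irreducible
    refine trivial_of_irreducible hFT hH hA (B := AddSubgroup.closure (Set.range q))
      (fun x => Subtype.ext (hB x)) (fun x => ⟨q x, AddSubgroup.subset_closure ⟨x, rfl⟩⟩)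
      (fun x y z => Subtype.ext (hadd x y z)) (fun x hx => hq x (congrArg Subtype.val hx))
      (Subtype.ext hq0) ?_ ρ (fun h x => Subtype.ext (hinv h x)) fun W hW => ?_
    · rw [eq_top_iff]
      rintro ⟨y, hy⟩ -
      induction hy using AddSubgroup.closure_induction with
      | mem z hz =>
        obtain ⟨x, rfl⟩ := hz
        exact AddSubgroup.subset_closure ⟨x, rfl⟩
      | zero => exact zero_mem _
      | add a b _ _ ha hb => exact add_mem ha hb
      | neg a _ ha => exact neg_mem ha
    · by_cases hWt : W = ⊤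
      · exact Or.inr hWt
      · refine Or.inl (eq_bot_iff.2 fun x hx => ?_)
        rw [← hb]
        exact fun h => hsub W hW hWt h x hx
  -- pass to the quotient by the fixed points
  have horth : ∀ w ∈ W0, ∀ y, pol q w y = 0 := by
    intro w hw y
    let O : AddSubgroup A :=
      { carrier := {y | pol q w y = 0}
        zero_mem' := by
          show pol q w 0 = 0
          simp only [pol, add_zero, hB, hq0]
        add_mem' := fun {a b} ha hb => by
          show pol q w (a + b) = 0
          rw [pol_comm, hadd, pol_comm q a, pol_comm q b, ha, hb, add_zero]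
        neg_mem' := fun {a} ha => by
          show pol q w (-a) = 0
          rwa [neg_eq_of_add_eq_zero_left (hA a)] }
    have hDO : D ≤ O := by
      rw [AddSubgroup.closure_le]
      rintro _ ⟨⟨h, z⟩, rfl⟩
      show pol q w (ρ h z - z) = 0
      have h1 : pol q w (ρ h z) = pol q w z := by
        conv_lhs => rw [← hw h]
        simp only [pol, hinv]
        rw [show ρ h w + ρ h z = ρ h (w + z) from ((ρ h).map_add w z).symm, hinv]
      rw [sub_eq_add_neg, neg_eq_of_add_eq_zero_left (hA z), pol_comm, hadd, pol_comm q _ w, h1,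
        pol_comm q z, hB]
    exact hDO (hDt ▸ AddSubgroup.mem_top y)
  have hqw : ∀ x, ∀ w ∈ W0, q (x + w) = q x + q w := by
    intro x w hw
    have h := horth w hw x
    simp only [pol] at h
    rw [add_comm w x] at h
    calc q (x + w) = q (x + w) + ((q w + q w) + (q x + q x)) := by rw [hB, hB, add_zero, add_zero]
      _ = (q (x + w) + q w + q x) + (q x + q w) := by abel
      _ = _ := by rw [h, zero_add]
  let Q0 : AddSubgroup B := (AddMonoidHom.mk' (fun w : W0 => q w) fun a b => hqw a b b.2).range
  let qb : A ⧸ W0 → B ⧸ Q0 := fun ξ => ((q ξ.out : B) : B ⧸ Q0)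
  have hqb : ∀ x : A, qb (x : A ⧸ W0) = ((q x : B) : B ⧸ Q0) := by
    intro x
    obtain ⟨w, hw⟩ := QuotientAddGroup.mk_out_eq_mul W0 x
    show ((q (x : A ⧸ W0).out : B) : B ⧸ Q0) = _
    rw [hw, hqw x w w.2, QuotientAddGroup.eq]
    refine ⟨w, ?_⟩
    show q w = _
    rw [neg_eq_of_add_eq_zero_left (hB (q x + q w))]
    calc q w = q w + (q x + q x) := by rw [hB, add_zero]
      _ = _ := by abel
  let ρb : H →* AddMonoid.End (A ⧸ W0) :=
    { toFun := fun h => QuotientAddGroup.map W0 W0 (ρ h) fun x hx => hW0 h x hx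
      map_one' := QuotientAddGroup.addMonoidHom_ext _ (AddMonoidHom.ext fun x => by
        show ((ρ 1 x : A) : A ⧸ W0) = _
        rw [map_one]; rfl)
      map_mul' := fun g k => QuotientAddGroup.addMonoidHom_ext _ (AddMonoidHom.ext fun x =>
        (congrArg (fun y : A => (y : A ⧸ W0)) (hcomp g k x)).symm) }
  have hlt : Nat.card (A ⧸ W0) < n := by
    rw [← hn, AddSubgroup.card_eq_card_quotient_mul_card_addSubgroup W0]
    exact lt_mul_right Nat.card_pos (by
      haveI : Nontrivial W0 := (AddSubgroup.nontrivial_iff_ne_bot _).2 hb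
      exact Finite.one_lt_card)
  have h := ih _ hlt (A ⧸ W0) (B ⧸ Q0) rfl
    (fun ξ => by
      obtain ⟨x, rfl⟩ := QuotientAddGroup.mk_surjective ξ
      rw [← QuotientAddGroup.mk_add, hA]; rfl)
    (fun ξ => by
      obtain ⟨x, rfl⟩ := QuotientAddGroup.mk_surjective ξ
      rw [← QuotientAddGroup.mk_add, hB]; rfl)
    qb (fun ξ η ζ => by
      obtain ⟨x, rfl⟩ := QuotientAddGroup.mk_surjective ξ
      obtain ⟨y, rfl⟩ := QuotientAddGroup.mk_surjective η
      obtain ⟨z, rfl⟩ := QuotientAddGroup.mk_surjective ζ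
      simp only [pol, ← QuotientAddGroup.mk_add, hqb]
      exact congrArg (fun t : B => (t : B ⧸ Q0)) (hadd x y z))
    (fun ξ hξ => by
      obtain ⟨x, rfl⟩ := QuotientAddGroup.mk_surjective ξ
      rw [hqb, QuotientAddGroup.eq_zero_iff] at hξ
      obtain ⟨w, hw⟩ := hξ
      rw [QuotientAddGroup.eq_zero_iff]
      have h2 : x + w = 0 := hq _ (by
        rw [hqw x w w.2, show q w = q x from hw, hB])
      have : x = -(w : A) := eq_neg_of_add_eq_zero_left h2
      rw [this]
      exact neg_mem w.2)
    (by rw [← QuotientAddGroup.mk_zero, hqb, hq0]; rfl) ρb fun g ξ => by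
      obtain ⟨x, rfl⟩ := QuotientAddGroup.mk_surjective ξ
      show qb ((ρ g x : A) : A ⧸ W0) = _
      rw [hqb, hqb, hinv]
  refine trivial_of_stab_add hH ρ fun k g x => ?_
  have h1 : ((ρ k x : A) : A ⧸ W0) = (x : A ⧸ W0) := h k (x : A ⧸ W0)
  rw [eq_comm, QuotientAddGroup.eq, ← sub_eq_neg_add] at h1
  exact h1 g

end Cfsg.Agent.FG75.Aniso
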