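import Mathlib
import Cfsg.Agent.Lib.Coprime.Hom
import Cfsg.Agent.ZStar.InvariantSylow
import Cfsg.Prelude.Def_TwoFusion

/-!
A coprime automorphism of a finite simple group cannot fix an involution centralizer pointwise.
-/

set_option autoImplicit false

namespace Cfsg.Agent.FG75.CentralizerMoved

open Cfsg

variable {G : Type*} [Group G]

lemma eq_one_of_pow_coprime [Finite G] {m : ℕ} (hm : m.Coprime (Nat.card G)) {e : G}
    (he : e ^ m = 1) : e = 1 := by
  rw [← orderOf_eq_one_iff]
  exact Nat.dvd_one.1 (hm ▸ Nat.dvd_gcd (orderOf_dvd_of_pow_eq_one he) (orderOf_dvd_natCard e))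

lemma fixed_of_apply_eq_mul [Finite G] (α : MulAut G)
    (hcop : (orderOf α).Coprime (Nat.card G)) {g e : G} (h : α g = g * e) (he : α e = e) :
    α g = g := by
  have hj : ∀ j : ℕ, (α ^ j) g = g * e ^ j := by
    intro j
    induction j with
    | zero => simp
    | succ j ih => rw [pow_succ', MulAut.mul_apply, ih, map_mul, h, map_pow, he, pow_succ', mul_assoc]
  have := hj (orderOf α)
  rw [pow_orderOf_eq_one, MulAut.one_apply, left_eq_mul] at this
  rw [h, eq_one_of_pow_coprime hcop this, mul_one]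

variable (α : MulAut G)

/-- the fixed subgroup -/
def fixedC : Subgroup G := α.toMonoidHom.eqLocus (MonoidHom.id G)

lemma mem_fixedC {g : G} : g ∈ fixedC α ↔ α g = g := Iff.rfl

/-- invariant Sylow subgroup of an invariant subgroup -/
lemma exists_inv_sylow [Finite G] (hcop : (orderOf α).Coprime (Nat.card G)) (p : ℕ)
    [Fact p.Prime] (H : Subgroup G) (hH : ∀ x ∈ H, α x ∈ H) :
    ∃ Q : Sylow p H, ∀ x ∈ (Q : Subgroup H).map H.subtype,
      α x ∈ (Q : Subgroup H).map H.subtype := by
  let β : MulAut H := MulEquiv.ofBijective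
    ((α.toMonoidHom.comp H.subtype).codRestrict H (fun x => hH x x.2))
    (Finite.injective_iff_bijective.1 fun x y h =>
      Subtype.ext (α.injective (congrArg Subtype.val h)))
  have hβ : ∀ x : H, ((β x : H) : G) = α x := fun x => rfl
  have hpow : ∀ (j : ℕ) (x : H), (((β ^ j) x : H) : G) = (α ^ j) x := by
    intro j
    induction j with
    | zero => simp
    | succ j ih => intro x; rw [pow_succ', pow_succ', MulAut.mul_apply, MulAut.mul_apply, hβ, ih]
  have hdvd : orderOf β ∣ orderOf α := orderOf_dvd_of_pow_eq_one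
    (MulEquiv.ext fun x => Subtype.ext (by rw [hpow, pow_orderOf_eq_one]; rfl))
  have hco : (Nat.card (Subgroup.zpowers β)).Coprime (Nat.card H) := by
    rw [Nat.card_zpowers]
    exact (hcop.coprime_dvd_left hdvd).coprime_dvd_right (Subgroup.card_subgroup_dvd_card H)
  have hsol : Group.IsSolvable (Subgroup.zpowers β) := inferInstance
  obtain ⟨Q, hQ⟩ := Coprime.exists_invariant_sylow_hom (Subgroup.zpowers β).subtype hco
    (Or.inl hsol) p
  refine ⟨Q, ?_⟩
  rintro _ ⟨x, hx, rfl⟩
  exact ⟨β x, hQ ⟨β, Subgroup.mem_zpowers β⟩ x hx, hβ x⟩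

variable [Finite G] {τ : G}

section
variable (hcop : (orderOf α).Coprime (Nat.card G))
  (hC : Subgroup.centralizer ({τ} : Set G) ≤ fixedC α)
include hcop hC

lemma tau_mem : τ ∈ fixedC α := hC (by simp [Subgroup.mem_centralizer_iff])

lemma mem_of_conj_mem {g : G} (h : g * τ * g⁻¹ ∈ fixedC α) : g ∈ fixedC α := by
  have h1 : α g * τ * (α g)⁻¹ = g * τ * g⁻¹ := by
    have := (mem_fixedC α).1 h
    rwa [map_mul, map_mul, map_inv, (mem_fixedC α).1 (tau_mem α hcop hC)] at this
  have he : g⁻¹ * α g ∈ fixedC α := by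
    refine hC (Subgroup.mem_centralizer_singleton_iff.2 ?_)
    calc g⁻¹ * α g * τ = g⁻¹ * (α g * τ * (α g)⁻¹) * α g := by group
      _ = τ * (g⁻¹ * α g) := by rw [h1]; group
  exact fixed_of_apply_eq_mul α hcop (e := g⁻¹ * α g) (by group) he

lemma centralizer_le {g : G} (h : g * τ * g⁻¹ ∈ fixedC α) :
    Subgroup.centralizer ({g * τ * g⁻¹} : Set G) ≤ fixedC α := by
  intro x hx
  have hx' := Subgroup.mem_centralizer_singleton_iff.1 hx
  have h1 : (x * g) * τ * (x * g)⁻¹ ∈ fixedC α := by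
    have : (x * g) * τ * (x * g)⁻¹ = g * τ * g⁻¹ := by
      calc (x * g) * τ * (x * g)⁻¹ = x * (g * τ * g⁻¹) * x⁻¹ := by group
        _ = g * τ * g⁻¹ := by rw [hx', mul_inv_cancel_right]
    rw [this]; exact h
  have := (fixedC α).mul_mem (mem_of_conj_mem α hcop hC h1)
    ((fixedC α).inv_mem (mem_of_conj_mem α hcop hC h))
  simpa using this

/-- a Sylow 2-subgroup is fixed pointwise -/
lemma exists_fixed_sylow (hτ : orderOf τ = 2) :
    ∃ S : Sylow 2 G, (S : Subgroup G) ≤ fixedC α := by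
  haveI : Fact (Nat.Prime 2) := ⟨Nat.prime_two⟩
  let z : fixedC α := ⟨τ, tau_mem α hcop hC⟩
  have hz : IsPGroup 2 (Subgroup.zpowers z) := IsPGroup.of_card (n := 1) (by
    rw [Nat.card_zpowers, ← Subgroup.orderOf_coe]; simp [z, hτ])
  obtain ⟨R, hR⟩ := hz.exists_le_sylow
  set R0 : Subgroup G := (R : Subgroup (fixedC α)).map (fixedC α).subtype with hR0
  have hR0C : R0 ≤ fixedC α := Subgroup.map_subtype_le _
  have hτR : τ ∈ R0 := ⟨z, hR (Subgroup.mem_zpowers z), rfl⟩
  have hp0 : IsPGroup 2 R0 := R.isPGroup'.map _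
  let H : Subgroup G := Subgroup.normalizer (R0 : Set G)
  have hH : ∀ x ∈ H, α x ∈ H := by
    intro x hx
    have hx' := Subgroup.mem_normalizer_iff.1 hx
    refine Subgroup.mem_normalizer_iff.2 fun y => ⟨fun hy => ?_, fun hy => ?_⟩
    · have : α x * y * (α x)⁻¹ = x * y * x⁻¹ := by
        rw [← (mem_fixedC α).1 (hR0C ((hx' y).1 hy))]
        rw [map_mul, map_mul, map_inv, (mem_fixedC α).1 (hR0C hy)]
      rw [this]; exact (hx' y).1 hy
    · have hy' : x⁻¹ * (α x * y * (α x)⁻¹) * x ∈ R0 :=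
        (hx' _).2 (by simpa [mul_assoc] using hy)
      have hfix := (mem_fixedC α).1 (hR0C hy')
      rw [map_mul, map_mul, map_inv, (mem_fixedC α).1 (hR0C hy)] at hfix
      have hyeq : y = x⁻¹ * (α x * y * (α x)⁻¹) * x := by
        rw [← hfix]; group
      rw [hyeq]; exact hy'
  obtain ⟨Q, hQ⟩ := exists_inv_sylow α hcop 2 H hH
  set Q0 : Subgroup G := (Q : Subgroup H).map H.subtype with hQ0
  have hRQ : R0 ≤ Q0 := by
    intro r hr
    have hrH : r ∈ H := Subgroup.le_normalizer hr
    have hn : (R0.subgroupOf H).Normal := Subgroup.normal_in_normalizer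
    have hle : R0.subgroupOf H ≤ (Q : Subgroup H) :=
      le_sup_left.trans_eq (Q.is_maximal' (IsPGroup.to_sup_of_normal_left
        (hp0.comap_subtype (K := H)) Q.isPGroup') le_sup_right)
    exact ⟨⟨r, hrH⟩, hle hr, rfl⟩
  have hQC : Q0 ≤ fixedC α := by
    intro q hq
    have hqH : q ∈ H := Subgroup.map_subtype_le _ hq
    have h1 := (Subgroup.mem_normalizer_iff.1 hqH τ).1 hτR
    exact mem_of_conj_mem α hcop hC (hR0C h1)
  have hp1 : IsPGroup 2 Q0 := Q.isPGroup'.map _
  have hQR : Q0 ≤ R0 := by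
    have hle : (R : Subgroup (fixedC α)) ≤ Q0.subgroupOf (fixedC α) :=
      fun r hr => hRQ ⟨r, hr, rfl⟩
    have := R.is_maximal' (hp1.comap_subtype (K := fixedC α)) hle
    intro q hq
    exact ⟨⟨q, hQC hq⟩, this ▸ (hq : (⟨q, hQC hq⟩ : fixedC α) ∈ Q0.subgroupOf (fixedC α)), rfl⟩
  obtain ⟨P, hP⟩ := hp0.exists_le_sylow
  refine ⟨P, le_trans ?_ hR0C⟩
  by_contra hne
  obtain ⟨q, hqP, hqR⟩ : ∃ q ∈ (P : Subgroup G) ⊓ H, q ∉ R0 := by
    haveI : Group.IsNilpotent (P : Subgroup G) := P.isPGroup'.isNilpotent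
    have hlt : R0.subgroupOf (P : Subgroup G) < ⊤ := lt_top_iff_ne_top.2 fun h =>
      hne (Subgroup.subgroupOf_eq_top.1 h)
    obtain ⟨q, hq, hq'⟩ := SetLike.exists_of_lt
      (Group.normalizerCondition_of_isNilpotent _ hlt)
    refine ⟨q, ⟨q.2, ?_⟩, hq'⟩
    refine Subgroup.mem_normalizer_iff.2 fun y => ?_
    have hq2 := Subgroup.mem_normalizer_iff.1 hq
    refine ⟨fun hy => (hq2 ⟨y, hP hy⟩).1 hy, fun hy => ?_⟩
    have hyP : y ∈ (P : Subgroup G) := by
      have := (P : Subgroup G).mul_mem ((P : Subgroup G).mul_mem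
        ((P : Subgroup G).inv_mem q.2) (hP hy)) q.2
      simpa [mul_assoc] using this
    exact (hq2 ⟨y, hyP⟩).2 hy
  -- `R0` is a Sylow subgroup of its normalizer
  have hW : IsPGroup 2 ((P : Subgroup G) ⊓ H : Subgroup G) := P.isPGroup'.to_le inf_le_left
  have hle : (Q : Subgroup H) ≤ ((P : Subgroup G) ⊓ H).subgroupOf H := by
    intro r hr
    have : (r : G) ∈ R0 := hQR ⟨r, hr, rfl⟩
    exact ⟨hP this, r.2⟩
  have := Q.is_maximal' (hW.comap_subtype (K := H)) hle
  refine hqR (hQR ⟨⟨q, hqP.2⟩, ?_, rfl⟩)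
  rw [SetLike.mem_coe, ← this]
  exact hqP

/-- invariant 2-subgroups are fixed pointwise -/
lemma fixed_of_invariant (hτ : orderOf τ = 2) {R : Subgroup G} (hR : IsPGroup 2 R)
    (hinv : ∀ x ∈ R, α x ∈ R) : R ≤ fixedC α := by
  haveI : Fact (Nat.Prime 2) := ⟨Nat.prime_two⟩
  obtain ⟨S, hS⟩ := exists_fixed_sylow α hcop hC hτ
  obtain ⟨P, hP⟩ := hR.exists_le_sylow
  obtain ⟨g, hg⟩ := MulAction.exists_smul_eq G P S
  have hgR : ∀ x ∈ R, g * x * g⁻¹ ∈ fixedC α := by
    intro x hx
    refine hS ?_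
    rw [← hg]
    exact ⟨x, hP hx, rfl⟩
  set e := (α g)⁻¹ * g with he
  have hstep : ∀ x ∈ R, α x = e * x * e⁻¹ := by
    intro x hx
    have h := (mem_fixedC α).1 (hgR x hx)
    rw [map_mul, map_mul, map_inv] at h
    calc α x = (α g)⁻¹ * (α g * α x * (α g)⁻¹) * α g := by group
      _ = e * x * e⁻¹ := by rw [h, he]; group
  have hpow : ∀ (j : ℕ), ∀ x ∈ R, (α ^ j) x = e ^ j * x * (e ^ j)⁻¹ ∧ (α ^ j) x ∈ R := by
    intro j
    induction j with
    | zero => intro x hx; simpa using hx
    | succ j ih =>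
      intro x hx
      obtain ⟨h1, h2⟩ := ih x hx
      rw [pow_succ', MulAut.mul_apply]
      refine ⟨?_, hinv _ h2⟩
      rw [hstep _ h2, h1, pow_succ']
      group
  have hcen : e ^ orderOf α ∈ Subgroup.centralizer (R : Set G) := by
    intro x hx
    have h := (hpow (orderOf α) x hx).1
    rw [pow_orderOf_eq_one, MulAut.one_apply] at h
    calc x * e ^ orderOf α = e ^ orderOf α * x * (e ^ orderOf α)⁻¹ * e ^ orderOf α := by rw [← h]
      _ = e ^ orderOf α * x := by group
  have hec : e ∈ Subgroup.centralizer (R : Set G) := by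
    obtain ⟨m, hm⟩ := exists_pow_eq_self_of_coprime
      (hcop.coprime_dvd_right (orderOf_dvd_natCard e))
    rw [← hm]
    exact pow_mem hcen m
  intro x hx
  rw [mem_fixedC, hstep x hx, ← hec x hx]
  group

/-- every element inverting a fixed `c` is conjugate into the fixed subgroup under `C(c)` -/
lemma exists_conj_fixed (hτ : orderOf τ = 2) {c y : G} (hc : c ∈ fixedC α) (hy2 : y * y = 1)
    (hyc : y * c * y⁻¹ = c⁻¹) :
    ∃ k ∈ Subgroup.centralizer ({c} : Set G), k * y * k⁻¹ ∈ fixedC α := by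
  haveI : Fact (Nat.Prime 2) := ⟨Nat.prime_two⟩
  let L : Subgroup G :=
    { carrier := {g | g * c * g⁻¹ = c ∨ g * c * g⁻¹ = c⁻¹}
      one_mem' := by simp
      mul_mem' := by
        intro a b ha hb
        have h : a * b * c * (a * b)⁻¹ = a * (b * c * b⁻¹) * a⁻¹ := by group
        have h' : a * c⁻¹ * a⁻¹ = (a * c * a⁻¹)⁻¹ := by group
        simp only [Set.mem_setOf_eq] at ha hb ⊢
        rcases hb with hb | hb <;> rcases ha with ha | ha
        · left; rw [h, hb, ha]
        · right; rw [h, hb, ha]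
        · right; rw [h, hb, h', ha]
        · left; rw [h, hb, h', ha, inv_inv]
      inv_mem' := by
        intro a ha
        simp only [Set.mem_setOf_eq, inv_inv] at ha ⊢
        rcases ha with ha | ha
        · left; conv_lhs => rw [← ha]
          group
        · right
          have : c = a⁻¹ * c⁻¹ * a := by rw [← ha]; group
          calc a⁻¹ * c * a = (a⁻¹ * c⁻¹ * a)⁻¹ := by group
            _ = c⁻¹ := by rw [← this] }
  have hL : ∀ x ∈ L, α x ∈ L := by
    intro x hx
    rcases hx with h | h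
    · left
      have := congrArg α h
      rwa [map_mul, map_mul, map_inv, (mem_fixedC α).1 hc] at this
    · right
      have := congrArg α h
      rwa [map_mul, map_mul, map_inv, map_inv, (mem_fixedC α).1 hc] at this
  obtain ⟨Q, hQ⟩ := exists_inv_sylow α hcop 2 L hL
  have hQC : (Q : Subgroup L).map L.subtype ≤ fixedC α :=
    fixed_of_invariant α hcop hC hτ (Q.isPGroup'.map _) hQ
  let yL : L := ⟨y, Or.inr hyc⟩
  have hyL : yL ^ 2 = 1 := Subtype.ext (by simp [yL, sq, hy2])
  have hzy : IsPGroup 2 (Subgroup.zpowers yL) := by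
    rintro ⟨w, j, rfl⟩
    refine ⟨1, Subtype.ext ?_⟩
    show (yL ^ j) ^ (2 ^ 1) = 1
    rw [pow_one, ← zpow_natCast (yL ^ j), ← zpow_mul, mul_comm, zpow_mul, zpow_natCast, hyL,
      one_zpow]
  obtain ⟨P, hP⟩ := hzy.exists_le_sylow
  obtain ⟨l, hl⟩ := MulAction.exists_smul_eq L P Q
  have hmem : (l : G) * y * (l : G)⁻¹ ∈ fixedC α := by
    refine hQC ⟨l * yL * l⁻¹, ?_, rfl⟩
    rw [SetLike.mem_coe, ← hl]
    exact ⟨yL, hP (Subgroup.mem_zpowers _), rfl⟩
  rcases l.2 with h | h
  · exact ⟨l, Subgroup.mem_centralizer_singleton_iff.2 (mul_inv_eq_iff_eq_mul.1 h), hmem⟩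
  · refine ⟨l * y, Subgroup.mem_centralizer_singleton_iff.2 (mul_inv_eq_iff_eq_mul.1 ?_), ?_⟩
    · calc (l : G) * y * c * ((l : G) * y)⁻¹ = l * (y * c * y⁻¹) * (l : G)⁻¹ := by group
        _ = ((l : G) * c * (l : G)⁻¹)⁻¹ := by rw [hyc]; group
        _ = c := by rw [h, inv_inv]
    · simpa [mul_assoc, hy2, inv_eq_of_mul_eq_one_right hy2] using hmem

/-- the double count -/
lemma card_mul_card_inter (K : Subgroup G) (A : Finset G)
    (hAX : ∀ y ∈ A, IsConj τ y) (hAK : ∀ k ∈ K, ∀ y ∈ A, k * y * k⁻¹ ∈ A)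
    (hex : ∀ y ∈ A, ∃ k ∈ K, k * y * k⁻¹ ∈ fixedC α) [DecidablePred (· ∈ fixedC α)] :
    A.card * Nat.card ↥(K ⊓ fixedC α) = (A.filter (· ∈ fixedC α)).card * Nat.card K := by
  classical
  haveI := Fintype.ofFinite G
  have hfib : ∀ y ∈ A, (Finset.univ.filter fun k : K => (k : G) * y * (k : G)⁻¹ ∈ fixedC α).card =
      Nat.card ↥(K ⊓ fixedC α) := by
    intro y hy
    obtain ⟨k₀, hk₀, hy0⟩ := hex y hy
    obtain ⟨g, hg⟩ := isConj_iff.1 (hAX y hy)
    have hgy : k₀ * y * k₀⁻¹ = (k₀ * g) * τ * (k₀ * g)⁻¹ := by rw [← hg]; group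
    rw [Nat.card_eq_fintype_card, ← Finset.card_univ]
    refine Finset.card_bij' (fun k _ => ⟨(k : G) * k₀⁻¹, ?_, ?_⟩)
      (fun c _ => ⟨(c : G) * k₀, K.mul_mem c.2.1 hk₀⟩) (by simp) ?_
      (fun k _ => Subtype.ext (by simp)) (fun c _ => Subtype.ext (by simp))
    · exact K.mul_mem k.2 (K.inv_mem hk₀)
    · rename_i hk
      have hk' := (Finset.mem_filter.1 hk).2
      have h1 : k₀ * g ∈ fixedC α := mem_of_conj_mem α hcop hC (hgy ▸ hy0)
      have h2 : (k : G) * g ∈ fixedC α := by
        refine mem_of_conj_mem α hcop hC ?_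
        rw [← hg] at hk'
        simpa [mul_assoc] using hk'
      have := (fixedC α).mul_mem h2 ((fixedC α).inv_mem h1)
      simpa [mul_assoc] using this
    · intro c _
      refine Finset.mem_filter.2 ⟨Finset.mem_univ _, ?_⟩
      have := (fixedC α).mul_mem ((fixedC α).mul_mem c.2.2 hy0) ((fixedC α).inv_mem c.2.2)
      simpa [mul_assoc] using this
  have hrow : ∀ k : K, (A.filter fun y => (k : G) * y * (k : G)⁻¹ ∈ fixedC α).card =
      (A.filter (· ∈ fixedC α)).card := by
    intro k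
    refine Finset.card_bij' (fun y _ => (k : G) * y * (k : G)⁻¹)
      (fun y _ => (k : G)⁻¹ * y * k) ?_ ?_ ?_ ?_
    · intro y hy
      obtain ⟨h1, h2⟩ := Finset.mem_filter.1 hy
      exact Finset.mem_filter.2 ⟨hAK k k.2 y h1, h2⟩
    · intro y hy
      obtain ⟨h1, h2⟩ := Finset.mem_filter.1 hy
      refine Finset.mem_filter.2 ⟨?_, by simpa [mul_assoc] using h2⟩
      simpa using hAK (k : G)⁻¹ (K.inv_mem k.2) y h1
    · intro y _; group
    · intro y _; group
  have h := Finset.sum_card_bipartiteAbove_eq_sum_card_bipartiteBelow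
    (s := A) (t := (Finset.univ : Finset K))
    (fun (y : G) (k : K) => (k : G) * y * (k : G)⁻¹ ∈ fixedC α)
  simp only [Finset.bipartiteAbove, Finset.bipartiteBelow] at h
  rw [Finset.sum_congr rfl hfib, Finset.sum_congr rfl (fun k _ => hrow k), Finset.sum_const,
    Finset.sum_const, smul_eq_mul, smul_eq_mul, Finset.card_univ, ← Nat.card_eq_fintype_card] at h
  rw [h, mul_comm]

end

/-- **A coprime automorphism moves every involution centralizer.** -/
theorem moves_centralizer [IsSimpleGroup G] (hG : ¬ IsMulCommutative G) (hτ : orderOf τ = 2)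
    (hα : α ≠ 1) (hcop : (orderOf α).Coprime (Nat.card G)) :
    ¬ Subgroup.centralizer ({τ} : Set G) ≤ fixedC α := by
  classical
  intro hC
  haveI := Fintype.ofFinite G
  set C := fixedC α with hCdef
  have hCtop : C ≠ ⊤ := fun h => hα (MulEquiv.ext fun x =>
    (mem_fixedC α).1 (h ▸ Subgroup.mem_top x : x ∈ C))
  set X : Finset G := Finset.univ.filter (IsConj τ) with hX
  have hmemX : ∀ {y : G}, y ∈ X ↔ IsConj τ y := by simp [hX]
  have hXsq : ∀ y ∈ X, y * y = 1 := by
    intro y hy
    obtain ⟨g, rfl⟩ := isConj_iff.1 (hmemX.1 hy)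
    have h2 : τ * τ = 1 := by rw [← sq, ← hτ, pow_orderOf_eq_one]
    calc g * τ * g⁻¹ * (g * τ * g⁻¹) = g * (τ * τ) * g⁻¹ := by group
      _ = 1 := by rw [h2]; group
  have hXconj : ∀ (k : G), ∀ y ∈ X, k * y * k⁻¹ ∈ X := fun k y hy =>
    hmemX.2 ((hmemX.1 hy).trans (isConj_iff.2 ⟨k, rfl⟩))
  have hτC : τ ∈ C := tau_mem α hcop hC
  set T := X.filter (· ∈ C) with hT
  by_cases hT1 : ∀ x ∈ T, x = τ
  · -- the involution is isolated
    have hiso : IsIsolatedInvolution τ := by
      refine ⟨hτ, fun g hg => hT1 _ ?_⟩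
      exact Finset.mem_filter.2 ⟨hmemX.2 (isConj_iff.2 ⟨g, rfl⟩),
        hC (Subgroup.mem_centralizer_singleton_iff.2 hg.symm.eq)⟩
    obtain ⟨N, hNn, hNodd, hN⟩ := ZStar.zStar hτ (ZStar.oddComm_of_isolated hiso)
    have hcen : τ ∈ Subgroup.center G := by
      rcases hNn.eq_bot_or_eq_top with h | h
      · refine Subgroup.mem_center_iff.2 fun g => ?_
        have := hN g
        rw [h, Subgroup.mem_bot] at this
        exact ((commutatorElement_eq_one_iff_mul_comm (g₁ := τ) (g₂ := g)).1 this).symm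
      · exfalso
        rw [h, Subgroup.card_top] at hNodd
        have : (2 : ℕ) ∣ Nat.card G := hτ ▸ orderOf_dvd_natCard τ
        exact (Nat.not_even_iff_odd.2 hNodd) (even_iff_two_dvd.2 this)
    rcases (inferInstance : (Subgroup.center G).Normal).eq_bot_or_eq_top with h | h
    · rw [h, Subgroup.mem_bot] at hcen
      simp [hcen] at hτ
    · exact hG ⟨⟨fun a b => (Subgroup.mem_center_iff.1 (h ▸ Subgroup.mem_top a) b).symm⟩⟩
  push Not at hT1
  obtain ⟨x₁, hx₁, hx₁ne⟩ := hT1
  let Cs : Finset G := Finset.univ.filter (· ∈ C)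
  let A : G → Finset G := fun c => X.filter fun y => y * c ∈ X
  let B : G → Finset G := fun c => T.filter fun y => y * c ∈ X
  have hBA : ∀ c, B c = (A c).filter (· ∈ C) := fun c => by
    ext y; simp [A, B, hT, and_comm, and_assoc, and_left_comm]
  have hcardC : Cs.card = Nat.card C := by
    rw [Nat.card_eq_fintype_card, Fintype.card_subtype]
  -- the whole class
  have hXeq : X.card * Nat.card C = T.card * Nat.card G := by
    have h := card_mul_card_inter α hcop hC ⊤ X (fun y hy => hmemX.1 hy)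
      (fun k _ y hy => hXconj k y hy) (fun y hy => by
        obtain ⟨g, rfl⟩ := isConj_iff.1 (hmemX.1 hy)
        exact ⟨g⁻¹, Subgroup.mem_top _, by simpa [mul_assoc] using hτC⟩)
    rwa [top_inf_eq, Subgroup.card_top] at h
  -- the bound at each `c`
  have hbound : ∀ c ∈ C, (A c).card * Nat.card C ≤ (B c).card * Nat.card G ∧
      (c ≠ 1 → (B c).Nonempty → (A c).card * Nat.card C < (B c).card * Nat.card G) := by
    intro c hc
    set K := Subgroup.centralizer ({c} : Set G) with hK
    have h := card_mul_card_inter α hcop hC K (A c)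
      (fun y hy => hmemX.1 (Finset.mem_filter.1 hy).1)
      (fun k hk y hy => by
        obtain ⟨h1, h2⟩ := Finset.mem_filter.1 hy
        refine Finset.mem_filter.2 ⟨hXconj k y h1, ?_⟩
        have hkc : k * c = c * k := Subgroup.mem_centralizer_singleton_iff.1 hk
        have : k * y * k⁻¹ * c = k * (y * c) * k⁻¹ := by
          calc k * y * k⁻¹ * c = k * y * k⁻¹ * (c * k) * k⁻¹ := by group
            _ = k * y * k⁻¹ * (k * c) * k⁻¹ := by rw [hkc]
            _ = k * (y * c) * k⁻¹ := by group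
        rw [this]; exact hXconj k _ h2)
      (fun y hy => by
        obtain ⟨h1, h2⟩ := Finset.mem_filter.1 hy
        refine exists_conj_fixed α hcop hC hτ hc (hXsq y h1) ?_
        rw [eq_inv_iff_mul_eq_one, inv_eq_of_mul_eq_one_right (hXsq y h1), mul_assoc (y * c) y c]
        exact hXsq _ h2)
    rw [← hBA] at h
    -- product formula for the set `K C`
    have hle : Nat.card K * Nat.card C ≤ Nat.card G * Nat.card ↥(K ⊓ C) ∧
        (c ≠ 1 → Nat.card K * Nat.card C < Nat.card G * Nat.card ↥(K ⊓ C)) := by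
      have hidx : (K ⊓ C).relIndex K ≤ C.index := by
        rw [Subgroup.inf_relIndex_left]
        rw [← Subgroup.relIndex_top_right C]
        exact Subgroup.relIndex_le_of_le_right le_top
          (by rw [Subgroup.relIndex_top_right]; exact Subgroup.index_ne_zero_of_finite)
      have e1 : (K ⊓ C).relIndex K * Nat.card ↥(K ⊓ C) = Nat.card K := by
        rw [mul_comm, ← Subgroup.relIndex_bot_left, ← Subgroup.relIndex_bot_left]
        exact Subgroup.relIndex_mul_relIndex _ _ _ bot_le inf_le_left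
      have e2 : C.index * Nat.card C = Nat.card G := C.index_mul_card
      constructor
      · rw [← e1, ← e2]
        calc (K ⊓ C).relIndex K * Nat.card ↥(K ⊓ C) * Nat.card C
            ≤ C.index * Nat.card ↥(K ⊓ C) * Nat.card C := by gcongr
          _ = _ := by ring
      · intro hc1
        have hlt : (K ⊓ C).relIndex K < C.index := by
          refine lt_of_le_of_ne hidx fun heq => hc1 ?_
          rw [Subgroup.inf_relIndex_left] at heq
          have hsurj : Function.Surjective
              (fun k : K => (QuotientGroup.mk (k : G) : G ⧸ C)) := by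
            let ψ : K ⧸ C.subgroupOf K → G ⧸ C := Quotient.lift
              (fun k : K => (QuotientGroup.mk (k : G) : G ⧸ C)) (fun a b hab => by
                rw [QuotientGroup.eq]
                have : (a⁻¹ * b : K) ∈ C.subgroupOf K := QuotientGroup.leftRel_apply.1 hab
                exact this)
            have hψ : Function.Injective ψ := by
              rintro ⟨a⟩ ⟨b⟩ hab
              exact Quotient.sound (QuotientGroup.leftRel_apply.2
                (QuotientGroup.eq.1 hab : (a : G)⁻¹ * b ∈ C))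
            have hb : Function.Bijective ψ := (Nat.bijective_iff_injective_and_card ψ).2
              ⟨hψ, heq⟩
            intro q
            obtain ⟨⟨a⟩, ha⟩ := hb.2 q
            exact ⟨a, ha⟩
          have hNC : Subgroup.normalClosure ({c} : Set G) ≤ C := by
            rw [Subgroup.normalClosure, Subgroup.closure_le]
            intro w hw
            obtain ⟨c', hc', hconj⟩ := Group.mem_conjugatesOfSet_iff.1 hw
            rw [Set.mem_singleton_iff] at hc'
            subst hc'
            obtain ⟨g, rfl⟩ := isConj_iff.1 hconj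
            obtain ⟨k, hk⟩ := hsurj (QuotientGroup.mk g⁻¹)
            have hd : (k : G)⁻¹ * g⁻¹ ∈ C := QuotientGroup.eq.1 hk
            have hkc : (k : G) * c' = c' * k := Subgroup.mem_centralizer_singleton_iff.1 k.2
            have : g * c' * g⁻¹ = ((k : G)⁻¹ * g⁻¹)⁻¹ * c' * ((k : G)⁻¹ * g⁻¹) := by
              calc g * c' * g⁻¹ = g * (c' * k) * (k : G)⁻¹ * g⁻¹ := by group
                _ = g * ((k : G) * c') * (k : G)⁻¹ * g⁻¹ := by rw [hkc]
                _ = _ := by group
            rw [SetLike.mem_coe, this]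
            exact C.mul_mem (C.mul_mem (C.inv_mem hd) hc) hd
          rcases (Subgroup.normalClosure_normal (s := ({c} : Set G))).eq_bot_or_eq_top with h | h
          · simpa [h] using (Subgroup.subset_normalClosure (Set.mem_singleton c) :
              c ∈ Subgroup.normalClosure ({c} : Set G))
          · exact absurd (top_le_iff.1 (h ▸ hNC)) hCtop
        rw [← e1, ← e2]
        calc (K ⊓ C).relIndex K * Nat.card ↥(K ⊓ C) * Nat.card C
            < C.index * Nat.card ↥(K ⊓ C) * Nat.card C := by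
              gcongr <;> exact Nat.card_pos
          _ = _ := by ring
    have hpos : 0 < Nat.card ↥(K ⊓ C) := Nat.card_pos
    refine ⟨Nat.le_of_mul_le_mul_right ?_ hpos, fun hc1 hne => Nat.lt_of_mul_lt_mul_right
      (a := Nat.card ↥(K ⊓ C)) ?_⟩
    · calc (A c).card * Nat.card C * Nat.card ↥(K ⊓ C)
          = (A c).card * Nat.card ↥(K ⊓ C) * Nat.card C := by ring
        _ = (B c).card * (Nat.card K * Nat.card C) := by rw [h]; ring
        _ ≤ (B c).card * (Nat.card G * Nat.card ↥(K ⊓ C)) := Nat.mul_le_mul_left _ hle.1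
        _ = _ := by ring
    · calc (A c).card * Nat.card C * Nat.card ↥(K ⊓ C)
          = (A c).card * Nat.card ↥(K ⊓ C) * Nat.card C := by ring
        _ = (B c).card * (Nat.card K * Nat.card C) := by rw [h]; ring
        _ < (B c).card * (Nat.card G * Nat.card ↥(K ⊓ C)) :=
          Nat.mul_lt_mul_of_pos_left (hle.2 hc1) hne.card_pos
        _ = _ := by ring
  -- a nontrivial product inside `T`
  have hτT : τ ∈ T := Finset.mem_filter.2 ⟨hmemX.2 (IsConj.refl τ), hτC⟩
  have hc₀ : τ⁻¹ * x₁ ∈ C := C.mul_mem (C.inv_mem hτC) (Finset.mem_filter.1 hx₁).2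
  have hsum : (∑ c ∈ Cs, (A c).card) * Nat.card C < (∑ c ∈ Cs, (B c).card) * Nat.card G := by
    rw [Finset.sum_mul, Finset.sum_mul]
    refine Finset.sum_lt_sum (fun c hc => (hbound c (Finset.mem_filter.1 hc).2).1)
      ⟨τ⁻¹ * x₁, by simpa [Cs] using hc₀, (hbound _ hc₀).2 ?_ ?_⟩
    · rw [Ne, inv_mul_eq_one]; exact fun h => hx₁ne h.symm
    · exact ⟨τ, Finset.mem_filter.2 ⟨hτT, by simpa using (Finset.mem_filter.1 hx₁).1⟩⟩
  have hBsum : ∑ c ∈ Cs, (B c).card = T.card * T.card := by
    rw [← Finset.card_sigma, ← Finset.card_product]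
    refine Finset.card_bij' (fun p _ => (p.2, p.2 * p.1)) (fun p _ => ⟨p.1⁻¹ * p.2, p.1⟩)
      ?_ ?_ ?_ ?_
    · rintro ⟨c, y⟩ hp
      simp only [Finset.mem_sigma, Finset.mem_filter, Cs, B, hT] at hp
      simp only [Finset.mem_product, Finset.mem_filter, hT]
      exact ⟨hp.2.1, hp.2.2, C.mul_mem hp.2.1.2 hp.1.2⟩
    · rintro ⟨y, y'⟩ hp
      simp only [Finset.mem_product, Finset.mem_filter, hT] at hp
      simp only [Finset.mem_sigma, Finset.mem_filter, Cs, B, hT]
      exact ⟨⟨Finset.mem_univ _, C.mul_mem (C.inv_mem hp.1.2) hp.2.2⟩, hp.1,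
        by simpa using hp.2.1⟩
    · rintro ⟨c, y⟩ _; simp
    · rintro ⟨y, y'⟩ _; simp
  let f : G → G ⧸ C := QuotientGroup.mk
  have hAsum : ∑ c ∈ Cs, (A c).card = ∑ y ∈ X, (X.filter fun y' => f y' = f y).card := by
    rw [← Finset.card_sigma, ← Finset.card_sigma]
    refine Finset.card_bij' (fun p _ => ⟨p.2, p.2 * p.1⟩) (fun p _ => ⟨p.1⁻¹ * p.2, p.1⟩)
      ?_ ?_ ?_ ?_
    · rintro ⟨c, y⟩ hp
      simp only [Finset.mem_sigma, Finset.mem_filter, Cs, A] at hp
      simp only [Finset.mem_sigma, Finset.mem_filter]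
      exact ⟨hp.2.1, hp.2.2, QuotientGroup.eq.2 (by simpa using C.inv_mem hp.1.2)⟩
    · rintro ⟨y, y'⟩ hp
      simp only [Finset.mem_sigma, Finset.mem_filter] at hp
      simp only [Finset.mem_sigma, Finset.mem_filter, Cs, A]
      refine ⟨⟨Finset.mem_univ _, ?_⟩, hp.1, by simpa using hp.2.1⟩
      simpa using C.inv_mem (QuotientGroup.eq.1 hp.2.2)
    · rintro ⟨c, y⟩ _; simp
    · rintro ⟨y, y'⟩ _; simp
  have hCS : X.card ^ 2 ≤ C.index * ∑ y ∈ X, (X.filter fun y' => f y' = f y).card := by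
    haveI := Fintype.ofFinite (G ⧸ C)
    have h1 : X.card = ∑ q : G ⧸ C, (X.filter fun y => f y = q).card :=
      Finset.card_eq_sum_card_fiberwise (fun y _ => Finset.mem_univ (f y))
    have h2 : ∑ y ∈ X, (X.filter fun y' => f y' = f y).card =
        ∑ q : G ⧸ C, (X.filter fun y => f y = q).card ^ 2 := by
      rw [← Finset.sum_fiberwise_of_maps_to (t := (Finset.univ : Finset (G ⧸ C))) (g := f)
        (fun y _ => Finset.mem_univ _)]
      refine Finset.sum_congr rfl fun q _ => ?_
      rw [Finset.sum_congr rfl (g := fun _ => (X.filter fun y => f y = q).card)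
        (fun y hy => by rw [(Finset.mem_filter.1 hy).2]), Finset.sum_const, smul_eq_mul, sq]
    rw [h2, h1]
    have := sq_sum_le_card_mul_sum_sq (s := (Finset.univ : Finset (G ⧸ C)))
      (f := fun q => (X.filter fun y => f y = q).card)
    rwa [Finset.card_univ, ← Nat.card_eq_fintype_card] at this
  rw [← hAsum] at hCS
  rw [hBsum] at hsum
  have hpos : 0 < Nat.card C := Nat.card_pos
  have : (X.card * Nat.card C) ^ 2 < (T.card * Nat.card G) ^ 2 := by
    calc (X.card * Nat.card C) ^ 2 = X.card ^ 2 * Nat.card C ^ 2 := by ring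
      _ ≤ C.index * (∑ c ∈ Cs, (A c).card) * Nat.card C ^ 2 := Nat.mul_le_mul_right _ hCS
      _ = (C.index * Nat.card C) * ((∑ c ∈ Cs, (A c).card) * Nat.card C) := by ring
      _ < (C.index * Nat.card C) * (T.card * T.card * Nat.card G) :=
        Nat.mul_lt_mul_of_pos_left hsum
          (Nat.mul_pos (Nat.pos_of_ne_zero Subgroup.index_ne_zero_of_finite) hpos)
      _ = (T.card * Nat.card G) ^ 2 := by rw [C.index_mul_card]; ring
  rw [hXeq] at this
  exact lt_irrefl _ this

end Cfsg.Agent.FG75.CentralizerMoved
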