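/-
Faithful irreducible groups of prime degree with `p²` dividing the order.
-/
import Cfsg.Agent.Lib.CharCore.Burnside
import Cfsg.Agent.Lib.CharCore.Eigen
import Cfsg.Agent.Lib.CharCore.Basic
import Cfsg.Agent.Lib.CharClifford.Central
import Mathlib

set_option autoImplicit false
set_option linter.all false

open Module
open scoped ComplexConjugate

namespace Cfsg.Agent.FG75

variable {G : Type*} [Group G] [Finite G]

theorem center_ne_bot_of_degree_prime {p : ℕ} [hp : Fact p.Prime] {n : ℕ}
    (ρ : Representation ℂ G (Fin n → ℂ)) [ρ.IsIrreducible] (hn : n = p)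
    (hinj : Function.Injective ρ) (hdiv : p ^ 2 ∣ Nat.card G) : Subgroup.center G ≠ ⊥ := by
  classical
  intro hZG
  have hfin : finrank ℂ (Fin n → ℂ) = p := by simp [hn]
  obtain ⟨P⟩ : Nonempty (Sylow p G) := inferInstance
  let Z : Subgroup G := (Subgroup.center (P : Subgroup G)).map (P : Subgroup G).subtype
  have hZc : ∀ z ∈ Z, ∀ x ∈ (P : Subgroup G), x * z = z * x := by
    rintro _ ⟨z, hz, rfl⟩ x hx
    exact congrArg Subtype.val (Subgroup.mem_center_iff.1 hz ⟨x, hx⟩)
  have hvan : ∀ z ∈ Z, z ≠ 1 → ρ.character z = 0 := by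
    intro z hz hz1
    have hP : (P : Subgroup G) ≤ Subgroup.centralizer ({z} : Set G) := fun x hx =>
      Subgroup.mem_centralizer_singleton_iff.2 (hZc z hz x hx)
    have hcop : Nat.Coprime (finrank ℂ (Fin n → ℂ)) (Subgroup.centralizer ({z} : Set G)).index := by
      rw [hfin, hp.out.coprime_iff_not_dvd]
      intro h
      exact P.not_dvd_index (h.trans (Subgroup.index_dvd_of_le hP))
    rcases CharCore.eq_zero_or_norm_eq_of_coprime ρ z hcop with h | h
    · exact h
    exfalso
    obtain ⟨c, hc⟩ := (CharCore.norm_character_eq_iff ρ z).1 h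
    apply hz1
    rw [← Subgroup.mem_bot, ← hZG, Subgroup.mem_center_iff]
    intro g
    apply hinj
    rw [map_mul, map_mul, hc]
    ext v
    simp
  have h1 : ρ.character 1 = (p : ℂ) := by rw [Representation.char_one, hfin]
  have hdvd : Nat.card Z ∣ p := by
    haveI := Fintype.ofFinite Z
    have hχ : Cfsg.IsCharacter G ρ.character := ⟨n, ρ, rfl⟩
    obtain ⟨k, hk⟩ := CharCore.IsCharacter.exists_classInner_eq_natCast
      (CharCore.isCharacter_restrict hχ Z) (CharCore.isCharacter_one (G := Z))
    rw [CharCore.classInner_def, Finset.sum_eq_single (1 : Z)] at hk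
    · simp only [OneMemClass.coe_one, Pi.one_apply, map_one, mul_one, h1] at hk
      refine ⟨k, ?_⟩
      have hne : (Nat.card Z : ℂ) ≠ 0 := by exact_mod_cast Nat.card_pos.ne'
      field_simp at hk
      exact_mod_cast hk
    · intro b _ hb
      rw [hvan b b.2 fun h => hb (Subtype.ext h), zero_mul]
    · simp
  have hcardP : ∃ a, 2 ≤ a ∧ Nat.card (P : Subgroup G) = p ^ a := by
    refine ⟨_, ?_, P.card_eq_multiplicity⟩
    exact (hp.out.pow_dvd_iff_le_factorization Nat.card_pos.ne').1 hdiv
  obtain ⟨a, ha, hPa⟩ := hcardP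
  haveI : Nontrivial (P : Subgroup G) := Finite.one_lt_card_iff_nontrivial.1
    (hPa ▸ Nat.one_lt_pow (by omega) hp.out.one_lt)
  have hZcard : Nat.card Z = Nat.card (Subgroup.center (P : Subgroup G)) :=
    Subgroup.card_map_of_injective (P : Subgroup G).subtype_injective
  have hZp : Nat.card Z = p := by
    refine ((Nat.dvd_prime hp.out).1 hdvd).resolve_left fun h => ?_
    have hnt := P.2.center_nontrivial
    rw [← Finite.one_lt_card_iff_nontrivial, ← hZcard, h] at hnt
    omega
  obtain ⟨⟨z, hz⟩, hzo⟩ := exists_prime_orderOf_dvd_card' (G := Z) p (by rw [hZp])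
  rw [Subgroup.orderOf_mk] at hzo
  obtain ⟨b, ω, hω, -, hb, hk⟩ := CharCore.exists_eigenvalues ρ z
  rw [hzo] at hω
  have hω0 : ∀ i, ω i ≠ 0 := fun i h => by
    have := hω i
    rw [h, zero_pow hp.out.ne_zero] at this
    exact zero_ne_one this
  -- the eigenvalues are pairwise distinct
  have hωinj : Function.Injective ω := by
    intro i j hij
    have hsum : ∑ l, ∑ k ∈ Finset.range p, (ω l / ω i) ^ k = (p : ℂ) := by
      rw [Finset.sum_comm]
      rw [Finset.sum_eq_single 0]
      · simp [hfin]
      · intro k hk' hk0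
        have hzk : z ^ k ≠ 1 := fun h => by
          have := Nat.le_of_dvd (Nat.pos_of_ne_zero hk0) (orderOf_dvd_of_pow_eq_one h)
          rw [hzo] at this
          exact absurd (Finset.mem_range.1 hk') (by omega)
        have h0 := hk k
        rw [hvan _ (pow_mem hz k) hzk] at h0
        simp_rw [div_pow]
        rw [← Finset.sum_div, ← h0, zero_div]
      · intro h
        exact absurd (Finset.mem_range.2 hp.out.pos) h
    have hterm : ∀ l, ∑ k ∈ Finset.range p, (ω l / ω i) ^ k = if ω l = ω i then (p : ℂ) else 0 := by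
      intro l
      split_ifs with h
      · rw [h, div_self (hω0 i)]; simp
      · rw [geom_sum_eq (fun h' => h ((div_eq_one_iff_eq (hω0 i)).1 h'))]
        rw [div_pow, hω, hω]; simp
    simp_rw [hterm] at hsum
    rw [Finset.sum_ite, Finset.sum_const_zero, add_zero, Finset.sum_const, nsmul_eq_mul] at hsum
    have hcard : (Finset.univ.filter fun l => ω l = ω i).card = 1 := by
      have : (((Finset.univ.filter fun l => ω l = ω i).card : ℕ) : ℂ) = 1 :=
        mul_right_cancel₀ (Nat.cast_ne_zero.2 hp.out.ne_zero) (hsum.trans (one_mul _).symm)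
      exact_mod_cast this
    exact Finset.card_le_one.1 hcard.le i (by simp) j (by simp [hij])
  -- hence `P` is diagonal, so abelian
  have hdiag : ∀ g ∈ (P : Subgroup G), ∀ i, ∃ c : ℂ, ρ g (b i) = c • b i := by
    intro g hg i
    refine ⟨b.repr (ρ g (b i)) i, ?_⟩
    have hcomm : ρ z (ρ g (b i)) = ω i • ρ g (b i) := by
      rw [← Module.End.mul_apply, ← map_mul, ← hZc z hz g hg, map_mul, Module.End.mul_apply, hb,
        map_smul]
    refine b.ext_elem fun j => ?_
    rw [map_smul, Finsupp.smul_apply, b.repr_self, Finsupp.single_apply, smul_eq_mul]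
    split_ifs with h
    · rw [h, mul_one]
    · rw [mul_zero]
      have hj : b.repr (ρ z (ρ g (b i))) j = ω j * b.repr (ρ g (b i)) j := by
        conv_lhs => rw [← b.sum_repr (ρ g (b i))]
        rw [map_sum, map_sum, Finsupp.finsetSum_apply, Finset.sum_eq_single j]
        · rw [map_smul, hb, map_smul, map_smul, b.repr_self]
          simp [mul_comm]
        · intro l _ hl
          rw [map_smul, hb, map_smul, map_smul, b.repr_self]
          simp [Finsupp.single_apply, hl]
        · simp
      rw [hcomm, map_smul, Finsupp.smul_apply, smul_eq_mul] at hj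
      have : (ω i - ω j) * b.repr (ρ g (b i)) j = 0 := by linear_combination hj
      exact (mul_eq_zero.1 this).resolve_left (sub_ne_zero.2 fun h' => h (hωinj h'))
  have hab : ∀ g h : (P : Subgroup G), g * h = h * g := by
    intro g h
    refine Subtype.ext (hinj ?_)
    rw [Subgroup.coe_mul, Subgroup.coe_mul, map_mul, map_mul]
    refine b.ext fun i => ?_
    obtain ⟨c, hc⟩ := hdiag g g.2 i
    obtain ⟨d, hd⟩ := hdiag h h.2 i
    simp only [Module.End.mul_apply, hc, hd, map_smul, smul_smul, mul_comm]
  have htop : Subgroup.center (P : Subgroup G) = ⊤ :=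
    eq_top_iff.2 fun g _ => Subgroup.mem_center_iff.2 fun h => hab h g
  rw [htop, Subgroup.card_top, hPa, hZp] at hZcard
  have := Nat.pow_le_pow_right hp.out.pos ha
  rw [← hZcard] at this
  nlinarith [hp.out.two_le]

end Cfsg.Agent.FG75
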