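import Mathlib

/-!
Eigenspaces of elements normalising an absolutely irreducible group of extraspecial type.
-/

set_option autoImplicit false

namespace Cfsg.Agent.FG75.EigenExtraspecial

open scoped commutatorElement IsMulCommutative
open Module (finrank)
open Module.End (eigenspace)

section Linear

variable {F V : Type*} [Field F] [AddCommGroup V] [Module F V] [FiniteDimensional F V]

/-- dimensions of eigenspaces inside a subspace add up to at most its dimension -/
lemma sum_eig_le (f : Module.End F V) (E : Submodule F V) (s : Finset F) :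
    ∑ μ ∈ s, finrank F ↥(E ⊓ eigenspace f μ) ≤ finrank F E := by
  classical
  have hind := Module.End.eigenspaces_iSupIndep f
  have key : ∀ t : Finset F, ∑ μ ∈ t, finrank F ↥(E ⊓ eigenspace f μ) =
      finrank F ↥(t.sup fun μ => E ⊓ eigenspace f μ) := by
    intro t
    induction t using Finset.induction_on with
    | empty => rw [Finset.sum_empty, Finset.sup_empty, finrank_bot]
    | @insert a t ha ih =>
      rw [Finset.sum_insert ha, Finset.sup_insert, ih]
      have hd : (E ⊓ eigenspace f a) ⊓ (t.sup fun μ => E ⊓ eigenspace f μ) = ⊥ := by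
        refine eq_bot_iff.2 (le_trans (inf_le_inf inf_le_right ?_) (hind a).le_bot)
        refine Finset.sup_le fun μ hμ => le_trans inf_le_right ?_
        exact le_iSup₂_of_le μ (fun h => ha (h ▸ hμ)) le_rfl
      have h := Submodule.finrank_sup_add_finrank_inf_eq (E ⊓ eigenspace f a)
        (t.sup fun μ => E ⊓ eigenspace f μ)
      rw [hd, finrank_bot, add_zero] at h
      exact h.symm
  rw [key]
  exact Submodule.finrank_mono (Finset.sup_le fun μ _ => inf_le_left)

lemma finrank_sup_le (s : Finset ℕ) (W : ℕ → Submodule F V) :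
    finrank F ↥(s.sup W) ≤ ∑ i ∈ s, finrank F (W i) := by
  induction s using Finset.induction_on with
  | empty => rw [Finset.sum_empty, Finset.sup_empty, finrank_bot]
  | @insert a t ha ih =>
    rw [Finset.sum_insert ha, Finset.sup_insert]
    exact le_trans (Submodule.finrank_add_le_finrank_add_finrank _ _) (Nat.add_le_add_left ih _)

lemma eigenspace_zero_eq_bot (f : Module.End F V) (hf : Function.Injective f) :
    eigenspace f (0 : F) = ⊥ := by
  refine eq_bot_iff.2 fun v hv => ?_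
  rw [Module.End.mem_eigenspace_iff, zero_smul, ← map_zero f] at hv
  exact (Submodule.mem_bot F).2 (hf hv)

lemma finrank_le_of_injective (X : Module.End F V) (hX : Function.Injective X)
    (A B : Submodule F V) (h : ∀ v ∈ A, X v ∈ B) : finrank F A ≤ finrank F B :=
  LinearMap.finrank_le_finrank_of_injective (f := X.restrict h)
    (fun _ _ e => Subtype.ext (hX (congrArg Subtype.val e)))

/-- an automorphism permuting the eigenspaces in cycles of length `r` -/
lemma shift_bound (f X : Module.End F V) (hf : Function.Injective f) (hX : Function.Injective X)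
    {l : F} {r : ℕ} (hl : IsPrimitiveRoot l r) (h : f * X = l • (X * f)) (μ : F) :
    r * finrank F ↥(eigenspace f μ) ≤ finrank F V := by
  classical
  rcases eq_or_ne μ 0 with rfl | hμ
  · rw [eigenspace_zero_eq_bot f hf, finrank_bot, mul_zero]; exact Nat.zero_le _
  have hstep : ∀ (k : ℕ), ∀ v ∈ eigenspace f μ, (X ^ k) v ∈ eigenspace f (μ * l ^ k) := by
    intro k
    induction k with
    | zero => intro v hv; simpa using hv
    | succ k ih =>
      intro v hv
      have hk := Module.End.mem_eigenspace_iff.1 (ih v hv)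
      have hh : f (X ((X ^ k) v)) = l • X (f ((X ^ k) v)) := by
        have := LinearMap.congr_fun h ((X ^ k) v)
        simpa using this
      rw [Module.End.mem_eigenspace_iff, pow_succ', Module.End.mul_apply, hh, hk, map_smul,
        smul_smul, pow_succ]
      ring_nf
  have hle : ∀ k, finrank F ↥(eigenspace f μ) ≤ finrank F ↥(eigenspace f (μ * l ^ k)) :=
    fun k => finrank_le_of_injective (X ^ k) (by
      rw [Module.End.coe_pow]; exact hX.iterate k) _ _ (hstep k)
  have hinj : Set.InjOn (fun k => μ * l ^ k) (Finset.range r : Set ℕ) := by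
    intro a ha b hb hab
    exact hl.pow_inj (Finset.mem_range.1 ha) (Finset.mem_range.1 hb) (mul_left_cancel₀ hμ hab)
  calc r * finrank F ↥(eigenspace f μ)
      = ∑ _k ∈ Finset.range r, finrank F ↥(eigenspace f μ) := by simp
    _ ≤ ∑ k ∈ Finset.range r, finrank F ↥(eigenspace f (μ * l ^ k)) :=
        Finset.sum_le_sum fun k _ => hle k
    _ = ∑ ν ∈ (Finset.range r).image (fun k => μ * l ^ k), finrank F ↥(⊤ ⊓ eigenspace f ν) := by
        rw [Finset.sum_image hinj]
        exact Finset.sum_congr rfl fun k _ => by rw [top_inf_eq]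
    _ ≤ finrank F ↥(⊤ : Submodule F V) := sum_eig_le f ⊤ _
    _ = finrank F V := finrank_top F V

end Linear

section Ring

variable {E : Type*} [Ring E]

lemma eq_zero_of_unipotent {T : E} {m n : ℕ} (hT : T ^ n = 0) (h1 : (1 + T) ^ m = 1)
    (hm : ∀ a : E, m • a = 0 → a = 0) : T = 0 := by
  have hlin : ∀ k : ℕ, T ^ (k + 2) = 0 → ∀ j : ℕ, T ^ k * (1 + T) ^ j = T ^ k + j • T ^ (k + 1) := by
    intro k hk j
    induction j with
    | zero => simp
    | succ j ih =>
      rw [pow_succ (1 + T) j, ← mul_assoc, ih, add_mul, mul_add (T ^ k), mul_one, smul_mul_assoc,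
        mul_add (T ^ (k + 1)), mul_one, ← pow_succ, ← pow_succ, hk, add_zero, succ_nsmul]
      abel
  have hdown : ∀ k : ℕ, T ^ (k + 1) = 0 → T = 0 := by
    intro k
    induction k with
    | zero => intro h; simpa using h
    | succ k ih =>
      intro h
      refine ih (hm _ ?_)
      have := hlin k h m
      rw [h1, mul_one] at this
      exact left_eq_add.1 this
  exact hdown n (by rw [pow_succ, hT, zero_mul])

lemma key_identity {s t : E} (hst : s * t = 1) (h1 : s * s - t * t - 2 • (s - t) = 0) :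
    (s - 1) ^ 3 * (s + 1) = 0 := by
  have e1 : s * s * (t * t) = 1 := by rw [mul_assoc, ← mul_assoc s t t, hst, one_mul, hst]
  have e2 : s * s * t = s := by rw [mul_assoc, hst, mul_one]
  have h4 : s * s * (s * s - t * t - 2 • (s - t)) = 0 := by rw [h1, mul_zero]
  rw [mul_sub, mul_sub, e1, mul_smul_comm, mul_sub, e2] at h4
  rw [← h4]
  noncomm_ring

lemma nil_two {s : E} (key : (s - 1) ^ 3 * (s + 1) = 0) (h2 : 2 • ((s - 1) ^ 3) = 0) :
    (s - 1) ^ 4 = 0 := by
  rw [show (s - 1) ^ 4 = (s - 1) ^ 3 * (s + 1) - 2 • ((s - 1) ^ 3) by noncomm_ring, key, h2,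
    sub_zero]

lemma two_smul_cube {s : E} {w : ℕ} (key : (s - 1) ^ 3 * (s + 1) = 0) (hw : Odd w)
    (hs : s ^ w = 1) : 2 • ((s - 1) ^ 3) = 0 := by
  have hgeo : (-s - 1) * ∑ i ∈ Finset.range w, (-s) ^ i = (-s) ^ w - 1 := mul_geom_sum _ _
  rw [Odd.neg_pow hw, hs] at hgeo
  have h3 : (s - 1) ^ 3 * ((-s - 1) * ∑ i ∈ Finset.range w, (-s) ^ i) = 0 := by
    rw [← mul_assoc, show (s - 1) ^ 3 * (-s - 1) = -((s - 1) ^ 3 * (s + 1)) by noncomm_ring,
      key, neg_zero, zero_mul]
  rw [hgeo] at h3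
  rw [← neg_eq_zero, ← h3]
  noncomm_ring

end Ring

section Group

variable {Γ F V : Type*} [Group Γ] [Field F] [AddCommGroup V] [Module F V]
  (ρ : Γ →* Module.End F V)

/-- The hypotheses: `R` is absolutely irreducible of extraspecial type, `N` is its product with
scalars and `g` normalises `N`. -/
structure Ctx (R N : Subgroup Γ) (r : ℕ) (g : Γ) : Prop where
  inj : Function.Injective ρ
  prime : r.Prime
  scal : ∀ x, (∀ y ∈ R, x * y = y * x) → ∃ c : F, ρ x = c • 1
  le : R ≤ N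
  dec : ∀ x ∈ N, ∃ y ∈ R, ∃ s ∈ Subgroup.center Γ, x = s * y
  comm : ∀ x ∈ R, ∀ y ∈ R, ⁅x, y⁆ ∈ Subgroup.center Γ
  comm_pow : ∀ x ∈ R, ∀ y ∈ R, ⁅x, y⁆ ^ r = 1
  pow_one : r ≠ 2 → ∀ y ∈ R, y ^ r = 1
  norm : ∀ x ∈ N, g * x * g⁻¹ ∈ N

variable {ρ} {R N : Subgroup Γ} {r : ℕ} {g : Γ}

lemma inj_act (x : Γ) : Function.Injective (ρ x) := by
  intro a b h
  have := congrArg (ρ x⁻¹) h
  rwa [← Module.End.mul_apply, ← Module.End.mul_apply, ← map_mul, inv_mul_cancel, map_one] at this

namespace Ctx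

variable (C : Ctx ρ R N r g)
include C

lemma mem_center_iff {x : Γ} : x ∈ Subgroup.center Γ ↔ ∀ y ∈ R, x * y = y * x := by
  refine ⟨fun h y _ => (Subgroup.mem_center_iff.1 h y).symm, fun h => ?_⟩
  obtain ⟨c, hc⟩ := C.scal x h
  refine Subgroup.mem_center_iff.2 fun z => C.inj ?_
  rw [map_mul, map_mul, hc, mul_smul_comm, smul_mul_assoc, one_mul, mul_one]

lemma scalar_of_center {x : Γ} (hx : x ∈ Subgroup.center Γ) : ∃ c : F, ρ x = c • 1 :=
  C.scal x (C.mem_center_iff.1 hx)

lemma commutator_mem {x y : Γ} (hx : x ∈ N) (hy : y ∈ N) :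
    ⁅x, y⁆ ∈ Subgroup.center Γ ∧ ⁅x, y⁆ ^ r = 1 := by
  obtain ⟨x', hx', s, hs, rfl⟩ := C.dec x hx
  obtain ⟨y', hy', t, ht, rfl⟩ := C.dec y hy
  have h1 : ∀ z, s * z = z * s := fun z => (Subgroup.mem_center_iff.1 hs z).symm
  have h2 : ∀ z, t * z = z * t := fun z => (Subgroup.mem_center_iff.1 ht z).symm
  have : ⁅s * x', t * y'⁆ = ⁅x', y'⁆ := by
    rw [commutatorElement_def, commutatorElement_def, h1 x', h2 y']
    calc x' * s * (y' * t) * (x' * s)⁻¹ * (y' * t)⁻¹
        = x' * (s * y') * t * s⁻¹ * x'⁻¹ * t⁻¹ * y'⁻¹ := by group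
      _ = x' * y' * (s * t) * s⁻¹ * x'⁻¹ * t⁻¹ * y'⁻¹ := by rw [h1 y']; group
      _ = x' * y' * (t * x'⁻¹) * t⁻¹ * y'⁻¹ := by rw [h1 t]; group
      _ = x' * y' * x'⁻¹ * y'⁻¹ := by rw [h2 x'⁻¹]; group
  rw [this]
  exact ⟨C.comm x' hx' y' hy', C.comm_pow x' hx' y' hy'⟩

lemma exists_root {x y : Γ} (hx : x ∈ N) (hy : y ∈ N) :
    ∃ e : F, ρ x * ρ y = e • (ρ y * ρ x) ∧ (e • (1 : Module.End F V)) ^ r = 1 ∧
      (e = 1 → x * y = y * x) := by
  obtain ⟨hz, hzr⟩ := C.commutator_mem hx hy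
  obtain ⟨e, he⟩ := C.scalar_of_center hz
  refine ⟨e, ?_, ?_, ?_⟩
  · rw [← map_mul, ← map_mul, show x * y = ⁅x, y⁆ * (y * x) by rw [commutatorElement_def]; group,
      map_mul, he, smul_mul_assoc, one_mul]
  · rw [← he, ← map_pow, hzr, map_one]
  · intro h1
    have : ⁅x, y⁆ = 1 := C.inj (by rw [he, h1, one_smul, map_one])
    exact commutatorElement_eq_one_iff_mul_comm.1 this

variable [FiniteDimensional F V] [Nontrivial V]

lemma smul_one_inj {a b : F} (h : a • (1 : Module.End F V) = b • 1) : a = b := by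
  obtain ⟨v, hv⟩ := exists_ne (0 : V)
  exact smul_left_injective F hv (by simpa using LinearMap.congr_fun h v)

lemma exists_primitive {x : Γ} (hx : x ∈ N) (hns : x ∉ Subgroup.center Γ) :
    ∃ y ∈ R, ∃ e : F, IsPrimitiveRoot e r ∧ ρ x * ρ y = e • (ρ y * ρ x) := by
  haveI : Fact r.Prime := ⟨C.prime⟩
  by_contra hcon
  refine hns (C.mem_center_iff.2 fun y hy => ?_)
  obtain ⟨e, he, her, he1⟩ := C.exists_root hx (C.le hy)
  by_contra hne
  have her' : e ^ r = 1 := by
    rw [smul_pow, one_pow] at her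
    exact C.smul_one_inj (her.trans (one_smul F _).symm)
  exact hcon ⟨y, hy, e, IsPrimitiveRoot.iff_orderOf.2
    (orderOf_eq_prime her' fun h => hne (he1 h)), he⟩

/-- eigenspaces of non-scalar members of `N` -/
lemma eig_bound {x : Γ} (hx : x ∈ N) (hns : x ∉ Subgroup.center Γ) (μ : F) :
    r * finrank F ↥(eigenspace (ρ x) μ) ≤ finrank F V := by
  obtain ⟨y, -, e, hprim, he⟩ := C.exists_primitive hx hns
  exact shift_bound (ρ x) (ρ y) (inj_act x) (inj_act y) hprim he μ

lemma dvd_finrank {x : Γ} (hx : x ∈ N) (hns : x ∉ Subgroup.center Γ) : r ∣ finrank F V := by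
  obtain ⟨y, -, e, hprim, he⟩ := C.exists_primitive hx hns
  have hu : ∀ z : Γ, LinearMap.det (ρ z) ≠ 0 := fun z =>
    left_ne_zero_of_mul_eq_one (b := LinearMap.det (ρ z⁻¹))
      (by rw [← map_mul, ← map_mul, mul_inv_cancel, map_one, map_one])
  have h := congrArg LinearMap.det he
  rw [LinearMap.det_smul, map_mul, map_mul, mul_comm (LinearMap.det (ρ y))] at h
  have he1 : e ^ finrank F V = 1 :=
    (mul_eq_right₀ (mul_ne_zero (hu x) (hu y))).1 h.symm
  exact (hprim.pow_eq_one_iff_dvd _).1 he1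

variable {ϖ : ℕ}

/-- the case that `g` acts trivially on `N` modulo scalars -/
lemma trivial_case (hϖ : ϖ.Prime) (hgϖ : g ^ ϖ = 1) (hgns : g ∉ Subgroup.center Γ)
    (htriv : ∀ x ∈ R, g * x * g⁻¹ * x⁻¹ ∈ Subgroup.center Γ) :
    ϖ = r ∧ ∀ μ : F, r * finrank F ↥(eigenspace (ρ g) μ) ≤ finrank F V := by
  haveI : Fact r.Prime := ⟨C.prime⟩
  have hex : ∃ x ∈ R, g * x * g⁻¹ * x⁻¹ ≠ 1 := by
    by_contra h
    push Not at h
    exact hgns (C.mem_center_iff.2 fun y hy => by
      have := h y hy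
      rwa [mul_inv_eq_one, mul_inv_eq_iff_eq_mul] at this)
  obtain ⟨x, hxR, hne⟩ := hex
  set z := g * x * g⁻¹ * x⁻¹ with hz
  have hzc : ∀ a, a * z = z * a := fun a => Subgroup.mem_center_iff.1 (htriv x hxR) a
  have hconj : ∀ k : ℕ, g ^ k * x * (g ^ k)⁻¹ = z ^ k * x := by
    intro k
    induction k with
    | zero => simp
    | succ k ih =>
      calc g ^ (k + 1) * x * (g ^ (k + 1))⁻¹ = g * (g ^ k * x * (g ^ k)⁻¹) * g⁻¹ := by
            rw [pow_succ']; group
        _ = (g * z ^ k) * x * g⁻¹ := by rw [ih]; group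
        _ = z ^ k * (g * x * g⁻¹) := by
            rw [(show Commute g (z ^ k) from (show Commute g z from hzc g).pow_right k).eq]; group
        _ = z ^ (k + 1) * x := by rw [pow_succ, hz]; group
  have hzw : z ^ ϖ = 1 := by simpa [hgϖ] using hconj ϖ
  have hxr : x ^ r ∈ Subgroup.center Γ := by
    refine C.mem_center_iff.2 fun y hy => ?_
    have hc := C.comm x hxR y hy
    have hp := C.comm_pow x hxR y hy
    have hj : ∀ j : ℕ, x ^ j * y = ⁅x, y⁆ ^ j * (y * x ^ j) := by
      intro j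
      induction j with
      | zero => simp
      | succ j ih =>
        calc x ^ (j + 1) * y = x * (x ^ j * y) := by rw [pow_succ']; group
          _ = (x * ⁅x, y⁆ ^ j) * (y * x ^ j) := by rw [ih]; group
          _ = ⁅x, y⁆ ^ j * (x * y) * x ^ j := by
              rw [Subgroup.mem_center_iff.1 ((Subgroup.center Γ).pow_mem hc j) x]; group
          _ = ⁅x, y⁆ ^ (j + 1) * (y * x ^ (j + 1)) := by
              rw [pow_succ ⁅x, y⁆, pow_succ' x, commutatorElement_def]; group
    simpa [hp] using hj r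
  have hzr : z ^ r = 1 := by
    have h1 : g * x ^ r * g⁻¹ = (g * x * g⁻¹) ^ r := (conj_pow).symm
    rw [show g * x * g⁻¹ = z * x by rw [hz]; group,
      (show Commute z x from (hzc x).symm).mul_pow, Subgroup.mem_center_iff.1 hxr g,
      mul_inv_cancel_right] at h1
    simpa using h1
  have hoz : orderOf z = r := orderOf_eq_prime hzr hne
  have hwr : ϖ = r := ((Nat.prime_dvd_prime_iff_eq C.prime hϖ).1
    (hoz ▸ orderOf_dvd_of_pow_eq_one hzw)).symm
  obtain ⟨l, hl⟩ := C.scalar_of_center (htriv x hxR)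
  rw [← hz] at hl
  have hlr : l ^ r = 1 := C.smul_one_inj (by
    have h := congrArg ρ hzr
    rw [map_pow, map_one, hl, smul_pow, one_pow] at h
    rw [one_smul]; exact h)
  have hl1 : l ≠ 1 := fun h => hne (C.inj (by rw [hl, h, one_smul, map_one]))
  refine ⟨hwr, fun μ => shift_bound (ρ g) (ρ x) (inj_act g) (inj_act x)
    (IsPrimitiveRoot.iff_orderOf.2 (orderOf_eq_prime hlr hl1)) ?_ μ⟩
  rw [← map_mul, ← map_mul, show g * x = z * (x * g) by rw [hz]; group, map_mul, hl,
    smul_mul_assoc, one_mul]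

/-- `W` and a translate of it meet in fixed points of `g x g⁻¹ x⁻¹` -/
lemma inter_le {x : Γ} (c : F) (hc : c ≠ 0) :
    eigenspace (ρ g) c ⊓ (eigenspace (ρ g) c).map (ρ x) ≤
      eigenspace (ρ (g * x * g⁻¹ * x⁻¹)) 1 := by
  rintro v ⟨hv, y, hy, rfl⟩
  rw [SetLike.mem_coe, Module.End.mem_eigenspace_iff] at hy hv
  have hgi : ρ g⁻¹ y = c⁻¹ • y := by
    have := congrArg (ρ g⁻¹) hy
    rw [← Module.End.mul_apply, ← map_mul, inv_mul_cancel, map_one, Module.End.one_apply,
      map_smul] at this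
    nth_rewrite 2 [this]
    rw [smul_smul, inv_mul_cancel₀ hc, one_smul]
  rw [Module.End.mem_eigenspace_iff, one_smul, map_mul, map_mul, map_mul]
  simp only [Module.End.mul_apply]
  rw [← Module.End.mul_apply (ρ x⁻¹) (ρ x), ← map_mul, inv_mul_cancel, map_one,
    Module.End.one_apply, hgi, map_smul, map_smul, hv, smul_smul, inv_mul_cancel₀ hc, one_smul]

lemma two_mul_le (x : Γ) (c : F) :
    2 * finrank F ↥(eigenspace (ρ g) c) ≤ finrank F V +
      finrank F ↥(eigenspace (ρ g) c ⊓ (eigenspace (ρ g) c).map (ρ x)) := by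
  have h1 := Submodule.finrank_sup_add_finrank_inf_eq (eigenspace (ρ g) c)
    ((eigenspace (ρ g) c).map (ρ x))
  have h2 : finrank F ↥((eigenspace (ρ g) c).map (ρ x)) = finrank F ↥(eigenspace (ρ g) c) :=
    ((eigenspace (ρ g) c).equivMapOfInjective (ρ x) (inj_act x)).finrank_eq.symm
  have h3 := Submodule.finrank_le (eigenspace (ρ g) c ⊔ (eigenspace (ρ g) c).map (ρ x))
  omega

/-- two non-commuting conjugate commutators leave no room for a common fixed vector -/
lemma inter_eq_bot {x : Γ} (hx : x ∈ R) {c : F} (hc : c ≠ 0)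
    (hnc : g * (g * x * g⁻¹ * x⁻¹) * g⁻¹ * (g * x * g⁻¹ * x⁻¹) ≠
      (g * x * g⁻¹ * x⁻¹) * (g * (g * x * g⁻¹ * x⁻¹) * g⁻¹)) :
    eigenspace (ρ g) c ⊓ (eigenspace (ρ g) c).map (ρ x) = ⊥ := by
  set u := g * x * g⁻¹ * x⁻¹ with hu
  refine eq_bot_iff.2 fun v hv => ?_
  have huv : ρ u v = v := by
    have := C.inter_le (x := x) c hc hv
    rwa [Module.End.mem_eigenspace_iff, one_smul] at this
  have hgv : ρ g v = c • v := Module.End.mem_eigenspace_iff.1 hv.1
  have hgi : ρ g⁻¹ v = c⁻¹ • v := by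
    have := congrArg (ρ g⁻¹) hgv
    rw [← Module.End.mul_apply, ← map_mul, inv_mul_cancel, map_one, Module.End.one_apply,
      map_smul] at this
    nth_rewrite 2 [this]
    rw [smul_smul, inv_mul_cancel₀ hc, one_smul]
  have hu'v : ρ (g * u * g⁻¹) v = v := by
    rw [map_mul, map_mul, Module.End.mul_apply, Module.End.mul_apply, hgi, map_smul, huv,
      map_smul, hgv, smul_smul, inv_mul_cancel₀ hc, one_smul]
  have huN : u ∈ N := N.mul_mem (C.norm x (C.le hx)) (N.inv_mem (C.le hx))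
  obtain ⟨e, he, -, he1⟩ := C.exists_root (C.norm u huN) huN
  rw [Submodule.mem_bot]
  by_contra hv0
  have h := LinearMap.congr_fun he v
  simp only [Module.End.mul_apply, LinearMap.smul_apply, huv, hu'v] at h
  exact hnc (he1 (smul_left_injective F hv0 (by simpa using h.symm)))

section Quot

/-- the scalar members of `N` -/
abbrev cS (N : Subgroup Γ) : Subgroup N := (Subgroup.center Γ).subgroupOf N



/-- conjugation by `g` -/
def sig : N →* N where
  toFun x := ⟨g * x * g⁻¹, C.norm x x.2⟩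
  map_one' := Subtype.ext (by simp)
  map_mul' a b := Subtype.ext (by simp [mul_assoc])

lemma sig_val (x : N) : ((C.sig x : N) : Γ) = g * x * g⁻¹ := rfl

lemma sig_pow (x : N) : ∀ k : ℕ, (((C.sig)^[k] x : N) : Γ) = g ^ k * x * (g ^ k)⁻¹ := by
  intro k
  induction k with
  | zero => simp
  | succ k ih => rw [Function.iterate_succ_apply', C.sig_val, ih, pow_succ']; group

/-- the commutator pairing -/
def pr (x y : N) : Subgroup.center Γ := ⟨⁅(x : Γ), (y : Γ)⁆, (C.commutator_mem x.2 y.2).1⟩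

lemma pr_mul_left (x x' y : N) : C.pr (x * x') y = C.pr x y * C.pr x' y := by
  refine Subtype.ext ?_
  show ⁅(x : Γ) * x', (y : Γ)⁆ = ⁅(x : Γ), (y : Γ)⁆ * ⁅(x' : Γ), (y : Γ)⁆
  have h := Subgroup.mem_center_iff.1 (C.commutator_mem x'.2 y.2).1 (x : Γ)
  calc ⁅(x : Γ) * x', (y : Γ)⁆ = ((x : Γ) * ⁅(x' : Γ), (y : Γ)⁆) * y * (x : Γ)⁻¹ * (y : Γ)⁻¹ := by
        simp only [commutatorElement_def]; group
    _ = ⁅(x' : Γ), (y : Γ)⁆ * ⁅(x : Γ), (y : Γ)⁆ := by
        rw [h, commutatorElement_def (x : Γ) (y : Γ)]; group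
    _ = _ := (Subgroup.mem_center_iff.1 (C.commutator_mem x'.2 y.2).1 _).symm

lemma pr_swap (x y : N) : C.pr y x = (C.pr x y)⁻¹ :=
  Subtype.ext (commutatorElement_inv (x : Γ) (y : Γ)).symm

lemma pr_mul_right (x y y' : N) : C.pr x (y * y') = C.pr x y * C.pr x y' := by
  rw [C.pr_swap (y * y') x, C.pr_mul_left, C.pr_swap x y, C.pr_swap x y', mul_inv, inv_inv, inv_inv]

lemma pr_one_left (y : N) : C.pr 1 y = 1 :=
  Subtype.ext (commutatorElement_one_left (y : Γ))

lemma pr_inv_left (x y : N) : C.pr x⁻¹ y = (C.pr x y)⁻¹ :=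
  eq_inv_of_mul_eq_one_left (by rw [← C.pr_mul_left, inv_mul_cancel, C.pr_one_left])

lemma pr_inv_right (x y : N) : C.pr x y⁻¹ = (C.pr x y)⁻¹ := by
  rw [C.pr_swap y⁻¹ x, C.pr_inv_left, C.pr_swap x y, inv_inv]

lemma pr_self (x : N) : C.pr x x = 1 := Subtype.ext (commutatorElement_self (x : Γ))

lemma pr_sig (x y : N) : C.pr (C.sig x) (C.sig y) = C.pr x y := by
  refine Subtype.ext ?_
  show ⁅g * (x : Γ) * g⁻¹, g * (y : Γ) * g⁻¹⁆ = ⁅(x : Γ), (y : Γ)⁆
  rw [show ⁅g * (x : Γ) * g⁻¹, g * (y : Γ) * g⁻¹⁆ = g * ⁅(x : Γ), (y : Γ)⁆ * g⁻¹ by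
    simp only [commutatorElement_def]; group,
    Subgroup.mem_center_iff.1 (C.commutator_mem x.2 y.2).1 g, mul_inv_cancel_right]

lemma mem_S_of_pr (x : N) (h : ∀ y : N, C.pr x y = 1) : x ∈ (cS N) :=
  Subgroup.mem_subgroupOf.2 (C.mem_center_iff.2 fun y hy =>
    commutatorElement_eq_one_iff_mul_comm.1 (congrArg Subtype.val (h ⟨y, C.le hy⟩)))

/-- the polarised identity -/
lemma polar (H : ∀ x : N, C.pr (C.sig (C.sig x * x⁻¹)) (C.sig x * x⁻¹) = 1)
    (τ : N → N) (hτ : ∀ x, C.sig (τ x) = x) (x : N) :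
    C.sig (C.sig x) * (τ (τ x))⁻¹ * ((C.sig x * (τ x)⁻¹) * (C.sig x * (τ x)⁻¹))⁻¹ ∈ (cS N) := by
  have hD : ∀ a : N, C.pr (C.sig (C.sig a)) a = C.pr (C.sig a) a * C.pr (C.sig a) a := by
    intro a
    have h := H a
    simp only [map_mul, map_inv, C.pr_mul_left, C.pr_mul_right, C.pr_inv_left, C.pr_inv_right,
      C.pr_self, C.pr_sig] at h
    apply Additive.ofMul.injective
    have h' := congrArg Additive.ofMul h
    simp only [ofMul_mul, ofMul_inv, ofMul_one] at h' ⊢
    rw [← sub_eq_zero, ← neg_eq_zero, ← h']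
    abel
  refine C.mem_S_of_pr _ fun y => ?_
  have e1 : C.pr (C.sig y) x = (C.pr (τ x) y)⁻¹ := by
    nth_rewrite 1 [← hτ x]
    rw [C.pr_sig, C.pr_swap]
  have e2 : C.pr (C.sig (C.sig y)) x = (C.pr (τ (τ x)) y)⁻¹ := by
    nth_rewrite 1 [← hτ x]
    rw [C.pr_sig]
    nth_rewrite 1 [← hτ (τ x)]
    rw [C.pr_sig, C.pr_swap]
  have h := hD (x * y)
  simp only [map_mul, C.pr_mul_left, C.pr_mul_right, hD x, hD y, e1, e2] at h
  simp only [C.pr_mul_left, C.pr_inv_left, mul_inv]
  apply Additive.ofMul.injective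
  have h' := congrArg Additive.ofMul h
  simp only [ofMul_mul, ofMul_inv, ofMul_one] at h' ⊢
  rw [← sub_eq_zero] at h'
  rw [← h']
  abel

lemma quot_comm (a b : N ⧸ (cS N)) : a * b = b * a := by
  induction a using QuotientGroup.induction_on with
  | _ x =>
    induction b using QuotientGroup.induction_on with
    | _ y =>
      rw [← QuotientGroup.mk_mul, ← QuotientGroup.mk_mul]
      refine QuotientGroup.eq.2 (Subgroup.mem_subgroupOf.2 ?_)
      have := (C.commutator_mem (N.inv_mem y.2) (N.inv_mem x.2)).1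
      simpa [commutatorElement_def, mul_assoc] using this

lemma quot_pow (a : N ⧸ (cS N)) : a ^ r = 1 := by
  induction a using QuotientGroup.induction_on with
  | _ x =>
    rw [← QuotientGroup.mk_pow, QuotientGroup.eq_one_iff]
    refine C.mem_S_of_pr _ fun y => ?_
    have hp : ∀ j : ℕ, C.pr (x ^ j) y = C.pr x y ^ j := by
      intro j
      induction j with
      | zero => rw [pow_zero, pow_zero, C.pr_one_left]
      | succ j ih => rw [pow_succ, pow_succ, C.pr_mul_left, ih]
    rw [hp]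
    exact Subtype.ext (C.commutator_mem x.2 y.2).2

lemma sig_S : (cS N) ≤ Subgroup.comap C.sig (cS N) := by
  intro x hx
  rw [Subgroup.mem_comap, Subgroup.mem_subgroupOf, C.sig_val]
  rw [Subgroup.mem_subgroupOf] at hx
  rwa [Subgroup.mem_center_iff.1 hx g, mul_inv_cancel_right]

/-- the induced map -/
noncomputable def sbar : N ⧸ (cS N) →* N ⧸ (cS N) := QuotientGroup.map (cS N) (cS N) C.sig C.sig_S

lemma sbar_mk (x : N) : C.sbar (QuotientGroup.mk x) = QuotientGroup.mk (C.sig x) := rfl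

lemma sbar_pow (hgϖ : g ^ ϖ = 1) (a : N ⧸ (cS N)) : (C.sbar)^[ϖ] a = a := by
  induction a using QuotientGroup.induction_on with
  | _ x =>
    have : ∀ k, (C.sbar)^[k] (QuotientGroup.mk x) = QuotientGroup.mk ((C.sig)^[k] x) := by
      intro k
      induction k with
      | zero => rfl
      | succ k ih => rw [Function.iterate_succ_apply', ih, C.sbar_mk, Function.iterate_succ_apply']
    rw [this]
    exact congrArg QuotientGroup.mk (Subtype.ext (by rw [C.sig_pow, hgϖ]; simp))

/-- if all conjugate commutators commute, `g` is trivial modulo scalars (order prime to `r`) -/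
lemma coprime_case (hϖ : ϖ.Prime) (h2 : ϖ ≠ 2) (hϖr : ϖ ≠ r) (hgϖ : g ^ ϖ = 1)
    (H : ∀ x ∈ R, g * (g * x * g⁻¹ * x⁻¹) * g⁻¹ * (g * x * g⁻¹ * x⁻¹) =
      (g * x * g⁻¹ * x⁻¹) * (g * (g * x * g⁻¹ * x⁻¹) * g⁻¹)) :
    ∀ x ∈ R, g * x * g⁻¹ * x⁻¹ ∈ Subgroup.center Γ := by
  have HN : ∀ x : N, C.pr (C.sig (C.sig x * x⁻¹)) (C.sig x * x⁻¹) = 1 := by
    rintro ⟨x, hx⟩
    obtain ⟨x', hx', s, hs, rfl⟩ := C.dec x hx
    refine Subtype.ext ?_
    show ⁅g * (g * (s * x') * g⁻¹ * (s * x')⁻¹) * g⁻¹, g * (s * x') * g⁻¹ * (s * x')⁻¹⁆ = 1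
    rw [show g * (s * x') * g⁻¹ * (s * x')⁻¹ = g * x' * g⁻¹ * x'⁻¹ by
      calc g * (s * x') * g⁻¹ * (s * x')⁻¹ = (g * s) * x' * g⁻¹ * x'⁻¹ * s⁻¹ := by group
        _ = s * (g * x' * g⁻¹ * x'⁻¹) * s⁻¹ := by rw [Subgroup.mem_center_iff.1 hs g]; group
        _ = g * x' * g⁻¹ * x'⁻¹ := by
          rw [← Subgroup.mem_center_iff.1 hs]; group]
    exact commutatorElement_eq_one_iff_mul_comm.2 (H x' hx')
  set τ : N → N := fun x => (C.sig)^[ϖ - 1] x with hτdef
  have hτ : ∀ x, C.sig (τ x) = x := fun x => Subtype.ext (by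
    rw [hτdef]
    show ((C.sig ((C.sig)^[ϖ - 1] x) : N) : Γ) = x
    rw [← Function.iterate_succ_apply' C.sig (ϖ - 1) x, C.sig_pow,
      show (ϖ - 1).succ = ϖ from Nat.succ_pred hϖ.ne_zero, hgϖ]
    simp)
  letI : CommGroup (N ⧸ (cS N)) := { (inferInstance : Group (N ⧸ (cS N))) with mul_comm := C.quot_comm }
  let A := Additive (N ⧸ (cS N))
  let s : AddMonoid.End A := MonoidHom.toAdditive C.sbar
  have hs_apply : ∀ x : N, s (Additive.ofMul (QuotientGroup.mk x)) =
      Additive.ofMul (QuotientGroup.mk (C.sig x)) := fun x => rfl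
  have hspow : ∀ (k : ℕ) (x : N), (s ^ k) (Additive.ofMul (QuotientGroup.mk x)) =
      Additive.ofMul (QuotientGroup.mk ((C.sig)^[k] x)) := by
    intro k
    induction k with
    | zero => intro x; rfl
    | succ k ih =>
      intro x
      rw [pow_succ', AddMonoid.End.coe_mul, Function.comp_apply, ih, hs_apply,
        Function.iterate_succ_apply']
  have hsϖ : s ^ ϖ = 1 := by
    refine AddMonoidHom.ext fun a => ?_
    obtain ⟨x, rfl⟩ : ∃ x : N, Additive.ofMul (QuotientGroup.mk x) = a :=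
      ⟨_, congrArg Additive.ofMul (QuotientGroup.out_eq' (Additive.toMul a))⟩
    refine (hspow ϖ x).trans ?_
    exact congrArg (fun y : N => Additive.ofMul (QuotientGroup.mk y : N ⧸ (cS N)))
      (Subtype.ext (by rw [C.sig_pow, hgϖ]; simp))
  have hr0 : ∀ f : AddMonoid.End A, r • f = 0 := fun f => AddMonoidHom.ext fun a => by
    show r • f a = 0
    apply Additive.toMul.injective
    rw [toMul_nsmul, toMul_zero, C.quot_pow]
  have key : (s - 1) ^ 3 * (s + 1) = 0 := by
    have h1 : s * s - (s ^ (ϖ - 1)) * (s ^ (ϖ - 1)) - 2 • (s - s ^ (ϖ - 1)) = 0 := by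
      refine AddMonoidHom.ext fun a => ?_
      obtain ⟨x, rfl⟩ : ∃ x : N, Additive.ofMul (QuotientGroup.mk x) = a :=
        ⟨_, congrArg Additive.ofMul (QuotientGroup.out_eq' (Additive.toMul a))⟩
      have hmem := (QuotientGroup.eq_one_iff _).2 (C.polar HN τ hτ x)
      simp only [QuotientGroup.mk_mul, QuotientGroup.mk_inv] at hmem
      have h0 := congrArg Additive.ofMul hmem
      simp only [ofMul_mul, ofMul_inv, ofMul_one] at h0
      show s (s (Additive.ofMul (QuotientGroup.mk x))) -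
        (s ^ (ϖ - 1)) ((s ^ (ϖ - 1)) (Additive.ofMul (QuotientGroup.mk x))) -
        2 • (s (Additive.ofMul (QuotientGroup.mk x)) -
          (s ^ (ϖ - 1)) (Additive.ofMul (QuotientGroup.mk x))) = 0
      simp only [hs_apply, hspow, two_nsmul]
      rw [← h0, hτdef]
      abel
    exact key_identity
      (by rw [← pow_succ', Nat.sub_add_cancel hϖ.one_le]; exact hsϖ) h1
  have hodd : Odd ϖ := hϖ.odd_of_ne_two h2
  have hnil : ∃ k, (s - 1) ^ k = 0 := by
    rcases eq_or_ne r 2 with hr2 | hr2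
    · exact ⟨4, nil_two key (hr2 ▸ hr0 _)⟩
    · refine ⟨3, ?_⟩
      have h3' := two_smul_cube key hodd hsϖ
      obtain ⟨q, hq⟩ := C.prime.odd_of_ne_two hr2
      have := hr0 ((s - 1) ^ 3)
      rwa [hq, add_smul, mul_comm, mul_smul, h3', smul_zero, zero_add, one_smul] at this
  obtain ⟨k, hk⟩ := hnil
  have hT : s - 1 = 0 := eq_zero_of_unipotent hk (m := ϖ) (by simpa using hsϖ) fun f hf => by
    have hcop : Nat.Coprime ϖ r := (Nat.coprime_primes hϖ C.prime).2 hϖr
    obtain ⟨m, hm⟩ := Nat.exists_mul_mod_eq_one_of_coprime hcop C.prime.one_lt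
    obtain ⟨q, hq⟩ : ∃ q, ϖ * m = r * q + 1 := ⟨ϖ * m / r, by
      have := Nat.div_add_mod (ϖ * m) r; omega⟩
    have e : (ϖ * m) • f = 0 := by rw [mul_comm, mul_smul, hf, smul_zero]
    rwa [hq, add_smul, mul_smul, hr0, zero_add, one_smul] at e
  intro x hx
  have := DFunLike.congr_fun (sub_eq_zero.1 hT) (Additive.ofMul (QuotientGroup.mk ⟨x, C.le hx⟩))
  rw [hs_apply] at this
  have h' : (QuotientGroup.mk (C.sig ⟨x, C.le hx⟩ * (⟨x, C.le hx⟩ : N)⁻¹) : N ⧸ (cS N)) = 1 := by
    rw [QuotientGroup.mk_mul, QuotientGroup.mk_inv]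
    rw [show (QuotientGroup.mk (C.sig ⟨x, C.le hx⟩) : N ⧸ (cS N)) = QuotientGroup.mk ⟨x, C.le hx⟩ from
      Additive.ofMul.injective this, mul_inv_cancel]
  exact Subgroup.mem_subgroupOf.1 ((QuotientGroup.eq_one_iff _).1 h')

/-- `g` of order `r`: a commutator fixed by `g` modulo scalars -/
lemma exists_fixed_commutator (hr2 : r ≠ 2) (hgr : g ^ r = 1)
    (hnt : ∃ x ∈ R, g * x * g⁻¹ * x⁻¹ ∉ Subgroup.center Γ) :
    ∃ x ∈ R, g * x * g⁻¹ * x⁻¹ ∉ Subgroup.center Γ ∧
      g * (g * x * g⁻¹ * x⁻¹) * g⁻¹ * (g * x * g⁻¹ * x⁻¹)⁻¹ ∈ Subgroup.center Γ := by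
  letI : CommGroup (N ⧸ (cS N)) := { (inferInstance : Group (N ⧸ (cS N))) with mul_comm := C.quot_comm }
  let A := Additive (N ⧸ (cS N))
  let s : AddMonoid.End A := MonoidHom.toAdditive C.sbar
  have hsr : s ^ r = 1 := by
    refine AddMonoidHom.ext fun a => ?_
    have : ∀ k, (s ^ k) a = Additive.ofMul ((C.sbar)^[k] (Additive.toMul a)) := by
      intro k
      induction k with
      | zero => rfl
      | succ k ih =>
        rw [pow_succ', AddMonoid.End.coe_mul, Function.comp_apply, ih,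
          Function.iterate_succ_apply']
        rfl
    exact (this r).trans (congrArg Additive.ofMul (C.sbar_pow hgr _))
  have hr0 : (r : AddMonoid.End A) = 0 := AddMonoidHom.ext fun a => by
    show r • a = 0
    apply Additive.toMul.injective
    rw [toMul_nsmul, toMul_zero, C.quot_pow]
  obtain ⟨q, hq⟩ := Commute.exists_add_pow_prime_eq C.prime (Commute.neg_one_right s)
  have hnil : (s - 1) ^ r = 0 := by
    rw [sub_eq_add_neg, hq, hr0, zero_mul, zero_mul, zero_mul, add_zero, hsr,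
      Odd.neg_one_pow (C.prime.odd_of_ne_two hr2), add_neg_cancel]
  obtain ⟨x, hxR, hx⟩ := hnt
  have hne : (s - 1) (Additive.ofMul (QuotientGroup.mk ⟨x, C.le hxR⟩)) ≠ 0 := by
    intro h0
    refine hx ?_
    have h1 : (QuotientGroup.mk (C.sig ⟨x, C.le hxR⟩ * (⟨x, C.le hxR⟩ : N)⁻¹) : N ⧸ (cS N)) = 1 := by
      rw [QuotientGroup.mk_mul, QuotientGroup.mk_inv, mul_inv_eq_one]
      exact Additive.ofMul.injective (sub_eq_zero.1 h0)
    exact Subgroup.mem_subgroupOf.1 ((QuotientGroup.eq_one_iff _).1 h1)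
  have hkey : ∀ k : ℕ, ∀ a : A, ((s - 1) ^ k) a = 0 → (s - 1) a ≠ 0 →
      ∃ b : A, (s - 1) b ≠ 0 ∧ (s - 1) ((s - 1) b) = 0 := by
    intro k
    induction k with
    | zero =>
      intro a h h'
      have : a = 0 := h
      exact absurd (by rw [this, map_zero]) h'
    | succ k ih =>
      intro a h h'
      rcases eq_or_ne ((s - 1) ((s - 1) a)) 0 with h2 | h2
      · exact ⟨a, h', h2⟩
      · refine ih ((s - 1) a) ?_ h2
        rwa [pow_succ, AddMonoid.End.coe_mul] at h
  obtain ⟨b, hb, hb2⟩ := hkey r _ (by rw [hnil]; rfl) hne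
  obtain ⟨⟨w, hw⟩, rfl⟩ : ∃ x : N, Additive.ofMul (QuotientGroup.mk x) = b :=
    ⟨_, congrArg Additive.ofMul (QuotientGroup.out_eq' (Additive.toMul b))⟩
  obtain ⟨w', hw', t, ht, rfl⟩ := C.dec w hw
  have hu : g * (t * w') * g⁻¹ * (t * w')⁻¹ = g * w' * g⁻¹ * w'⁻¹ := by
    calc g * (t * w') * g⁻¹ * (t * w')⁻¹ = (g * t) * w' * g⁻¹ * w'⁻¹ * t⁻¹ := by group
      _ = t * (g * w' * g⁻¹ * w'⁻¹) * t⁻¹ := by rw [Subgroup.mem_center_iff.1 ht g]; group
      _ = g * w' * g⁻¹ * w'⁻¹ := by rw [← Subgroup.mem_center_iff.1 ht]; group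
  have hTb : (s - 1) (Additive.ofMul (QuotientGroup.mk (⟨t * w', hw⟩ : N))) =
      Additive.ofMul (QuotientGroup.mk (C.sig ⟨t * w', hw⟩ * (⟨t * w', hw⟩ : N)⁻¹)) := by
    rw [QuotientGroup.mk_mul, QuotientGroup.mk_inv, ofMul_mul, ofMul_inv, ← sub_eq_add_neg]
    rfl
  refine ⟨w', hw', ?_, ?_⟩
  · intro hc
    refine hb ?_
    rw [hTb, (QuotientGroup.eq_one_iff _).2 (Subgroup.mem_subgroupOf.2 (by
      rw [Subgroup.coe_mul, Subgroup.coe_inv, C.sig_val, hu]; exact hc)), ofMul_one]
  · rw [hTb] at hb2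
    have h1 : (QuotientGroup.mk (C.sig (C.sig ⟨t * w', hw⟩ * (⟨t * w', hw⟩ : N)⁻¹) *
        (C.sig ⟨t * w', hw⟩ * (⟨t * w', hw⟩ : N)⁻¹)⁻¹) : N ⧸ (cS N)) = 1 := by
      rw [QuotientGroup.mk_mul, QuotientGroup.mk_inv, mul_inv_eq_one]
      exact Additive.ofMul.injective (sub_eq_zero.1 hb2)
    have := Subgroup.mem_subgroupOf.1 ((QuotientGroup.eq_one_iff _).1 h1)
    rwa [Subgroup.coe_mul, Subgroup.coe_inv, C.sig_val, Subgroup.coe_mul, Subgroup.coe_inv,
      C.sig_val, hu] at this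

end Quot

/-- the case of an element of order `r ≥ 5` -/
lemma unipotent_case (hr5 : 5 ≤ r) (hgr : g ^ r = 1)
    (hnt : ∃ x ∈ R, g * x * g⁻¹ * x⁻¹ ∉ Subgroup.center Γ) (c : F) :
    r * finrank F ↥(eigenspace (ρ g) c) ≤ 2 * finrank F V := by
  classical
  haveI : Fact r.Prime := ⟨C.prime⟩
  haveI : NeZero r := ⟨C.prime.ne_zero⟩
  have hr2 : r ≠ 2 := by omega
  obtain ⟨x, hxR, hu, hfix⟩ := C.exists_fixed_commutator hr2 hgr hnt
  set u := g * x * g⁻¹ * x⁻¹ with hudef
  have huN : u ∈ N := N.mul_mem (C.norm x (C.le hxR)) (N.inv_mem (C.le hxR))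
  obtain ⟨y, hy, t, ht, huy⟩ := C.dec u huN
  obtain ⟨l, hl⟩ := C.scalar_of_center hfix
  set W := eigenspace (ρ g) c with hW
  rcases eq_or_ne W ⊥ with hW0 | hW0
  · rw [hW0, finrank_bot, mul_zero]; exact Nat.zero_le _
  have hyc : y ∉ Subgroup.center Γ := fun h => hu (huy ▸ (Subgroup.center Γ).mul_mem ht h)
  set z := g * y * g⁻¹ * y⁻¹ with hzdef
  have hzu : g * u * g⁻¹ * u⁻¹ = z := by
    rw [huy]
    calc g * (t * y) * g⁻¹ * (t * y)⁻¹ = (g * t) * y * g⁻¹ * y⁻¹ * t⁻¹ := by group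
      _ = t * z * t⁻¹ := by rw [Subgroup.mem_center_iff.1 ht g, hzdef]; group
      _ = z := by rw [← Subgroup.mem_center_iff.1 ht]; group
  rw [hzu] at hl hfix
  have hzr : z ^ r = 1 := by
    have h1 : g * y ^ r * g⁻¹ = (g * y * g⁻¹) ^ r := (conj_pow).symm
    rw [C.pow_one hr2 y hy, show g * y * g⁻¹ = z * y by rw [hzdef]; group,
      (show Commute z y from (Subgroup.mem_center_iff.1 hfix y).symm).mul_pow,
      C.pow_one hr2 y hy] at h1
    simpa using h1.symm
  have hlr : l ^ r = 1 := C.smul_one_inj (by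
    have h := congrArg ρ hzr
    rw [map_pow, map_one, hl, smul_pow, one_pow] at h
    rw [one_smul]; exact h)
  rcases ne_or_eq l 1 with hl1 | hl1
  · have hb := shift_bound (ρ g) (ρ y) (inj_act g) (inj_act y)
      (IsPrimitiveRoot.iff_orderOf.2 (orderOf_eq_prime hlr hl1)) (by
        rw [← map_mul, ← map_mul, show g * y = z * (y * g) by rw [hzdef]; group, map_mul, hl,
          smul_mul_assoc, one_mul]) c
    exact hb.trans (Nat.le_mul_of_pos_left _ two_pos)
  have hgy : g * y = y * g := by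
    have : z = 1 := C.inj (by rw [hl, hl1, one_smul, map_one])
    rwa [hzdef, mul_inv_eq_one, mul_inv_eq_iff_eq_mul] at this
  obtain ⟨-, -, ζ, hζ, -⟩ := C.exists_primitive (C.le hy) hyc
  obtain ⟨σ0, hσ0⟩ := C.scalar_of_center ht
  obtain ⟨e0, he0, he0r, -⟩ := C.exists_root (C.le hy) (C.le hxR)
  let ψ : ZMod r → F := fun a => ζ ^ a.val
  have hψadd : ∀ a b, ψ (a + b) = ψ a * ψ b := by
    intro a b
    show ζ ^ (a + b).val = ζ ^ a.val * ζ ^ b.val
    rw [ZMod.val_add, ← pow_add]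
    exact (pow_eq_pow_mod _ hζ.pow_eq_one).symm
  have hψinj : Function.Injective ψ := fun a b h =>
    ZMod.val_injective r (hζ.pow_inj (ZMod.val_lt a) (ZMod.val_lt b) h)
  have hψnat : ∀ m : ℕ, ψ (m : ZMod r) = ζ ^ m := by
    intro m
    show ζ ^ (m : ZMod r).val = ζ ^ m
    rw [ZMod.val_natCast]
    exact (pow_eq_pow_mod _ hζ.pow_eq_one).symm
  have hψ0 : ψ 0 = 1 := by simp [ψ]
  have he0' : e0 ^ r = 1 := by
    rw [smul_pow, one_pow] at he0r
    exact C.smul_one_inj (he0r.trans (one_smul F _).symm)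
  obtain ⟨e, -, he⟩ := hζ.eq_pow_of_pow_eq_one he0'
  have hc : c ≠ 0 := fun h => hW0 (by rw [hW, h]; exact eigenspace_zero_eq_bot _ (inj_act g))
  let Wi : ZMod r → Submodule F V := fun i => W ⊓ eigenspace (ρ y) (ψ i)
  have hyx : ∀ (k : ℕ) (i : ZMod r), ∀ v ∈ Wi i,
      ρ y ((ρ x ^ k) v) = ψ (i + e * k) • (ρ x ^ k) v := by
    intro k i v hv
    induction k with
    | zero => simpa using Module.End.mem_eigenspace_iff.1 hv.2
    | succ k ih =>
      rw [pow_succ', Module.End.mul_apply]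
      have h := LinearMap.congr_fun he0 ((ρ x ^ k) v)
      simp only [Module.End.mul_apply, LinearMap.smul_apply] at h
      rw [h, ih, map_smul, smul_smul, ← he, ← hψnat, ← hψadd]
      congr 2
      push_cast; ring
  have hgx : ∀ w : V, ρ g (ρ x w) = σ0 • ρ y (ρ x (ρ g w)) := by
    intro w
    have : g * x = t * y * x * g := by rw [← huy, hudef]; group
    have h := LinearMap.congr_fun (congrArg ρ this) w
    simpa only [map_mul, hσ0, Module.End.mul_apply, LinearMap.smul_apply,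
      Module.End.one_apply] using h
  have hgk : ∀ (k : ℕ) (i : ZMod r), ∀ v ∈ Wi i, ρ g ((ρ x ^ k) v) =
      (c * σ0 ^ k * ψ (i * k + e * (2 : ZMod r)⁻¹ * k * (k + 1))) • (ρ x ^ k) v := by
    intro k i v hv
    induction k with
    | zero => simpa [hψ0] using Module.End.mem_eigenspace_iff.1 hv.1
    | succ k ih =>
      rw [pow_succ', Module.End.mul_apply, hgx, ih, map_smul, map_smul,
        ← Module.End.mul_apply (ρ x) (ρ x ^ k), ← pow_succ', hyx (k + 1) i v hv, smul_smul,
        smul_smul]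
      congr 1
      have hA : ∀ A B : F, σ0 * (c * σ0 ^ k * A) * B = c * σ0 ^ (k + 1) * (A * B) :=
        fun A B => by ring
      rw [hA, ← hψadd]
      have h2 : (2 : ZMod r) ≠ 0 := by
        intro h
        have : r ∣ 2 := (CharP.cast_eq_zero_iff (ZMod r) r 2).1 (by exact_mod_cast h)
        have := Nat.le_of_dvd two_pos this
        omega
      congr 2
      push_cast
      field_simp
      ring
  have hWsup : W ≤ (Finset.range r).sup fun m => Wi (m : ZMod r) := by
    intro v hv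
    have hgv : ρ g v = c • v := Module.End.mem_eigenspace_iff.1 hv
    have hyk : ∀ k, ρ g ((ρ y ^ k) v) = c • (ρ y ^ k) v := by
      intro k
      have hc' : ρ g * ρ y ^ k = ρ y ^ k * ρ g :=
        (Commute.pow_right (show Commute (ρ g) (ρ y) by
          show ρ g * ρ y = ρ y * ρ g
          rw [← map_mul, ← map_mul, hgy]) k).eq
      rw [← Module.End.mul_apply, hc', Module.End.mul_apply, hgv, map_smul]
    let P : ℕ → V := fun m => ∑ k ∈ Finset.range r, ((ζ ^ m)⁻¹) ^ k • (ρ y ^ k) v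
    have hP : ∀ m : ℕ, P m ∈ Wi (m : ZMod r) := by
      intro m
      refine ⟨Submodule.sum_mem _ fun k _ => Submodule.smul_mem _ _
        (Module.End.mem_eigenspace_iff.2 (hyk k)), Module.End.mem_eigenspace_iff.2 ?_⟩
      rw [hψnat]
      set a := (ζ ^ m)⁻¹ with ha
      have haz : ζ ^ m * a = 1 := mul_inv_cancel₀ (pow_ne_zero _ (hζ.ne_zero C.prime.ne_zero))
      let f : ℕ → V := fun k => a ^ k • (ρ y ^ k) v
      have hf : f r = f 0 := by
        have : a ^ r = 1 := by
          rw [ha, inv_pow, ← pow_mul, mul_comm, pow_mul, hζ.pow_eq_one, one_pow, inv_one]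
        simp only [f]
        rw [this, ← map_pow, C.pow_one hr2 y hy, map_one, pow_zero, pow_zero]
      have hsum : ∑ k ∈ Finset.range r, f (k + 1) = ∑ k ∈ Finset.range r, f k := by
        have h1 := Finset.sum_range_succ f r
        rw [Finset.sum_range_succ', hf] at h1
        exact add_right_cancel h1
      show ρ y (∑ k ∈ Finset.range r, f k) = ζ ^ m • ∑ k ∈ Finset.range r, f k
      nth_rewrite 2 [← hsum]
      rw [map_sum, Finset.smul_sum]
      refine Finset.sum_congr rfl fun k _ => ?_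
      simp only [f, map_smul, smul_smul, pow_succ', Module.End.mul_apply]
      rw [← mul_assoc, haz, one_mul]
    have hsum : ∑ m ∈ Finset.range r, P m = (r : F) • v := by
      simp only [P]
      rw [Finset.sum_comm, Finset.sum_eq_single 0]
      · simp [← Nat.cast_smul_eq_nsmul F]
      · intro k hk hk0
        rw [← Finset.sum_smul]
        have hz1 : (ζ⁻¹) ^ k ≠ 1 := fun h => hζ.inv.pow_ne_one_of_pos_of_lt hk0
          (Finset.mem_range.1 hk) h
        have : ∑ m ∈ Finset.range r, ((ζ ^ m)⁻¹) ^ k = 0 := by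
          rw [Finset.sum_congr rfl (fun m _ => show ((ζ ^ m)⁻¹) ^ k = ((ζ⁻¹) ^ k) ^ m by
            rw [← inv_pow, ← pow_mul, ← pow_mul, mul_comm]), geom_sum_eq hz1, ← pow_mul,
            mul_comm, pow_mul, hζ.inv.pow_eq_one, one_pow, sub_self, zero_div]
        rw [this, zero_smul]
      · intro h; exact absurd (Finset.mem_range.2 C.prime.pos) h
    have hr0 : (r : F) ≠ 0 := (hζ.neZero').ne
    have hv' : v = (r : F)⁻¹ • ∑ m ∈ Finset.range r, P m := by
      rw [hsum, smul_smul, inv_mul_cancel₀ hr0, one_smul]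
    rw [hv']
    exact Submodule.smul_mem _ _ (Submodule.sum_mem _ fun m hm =>
      Finset.le_sup (f := fun m : ℕ => Wi (m : ZMod r)) hm (hP m))
  have hcast : ∀ (f : ZMod r → ℕ), ∑ m ∈ Finset.range r, f (m : ZMod r) = ∑ i, f i := fun f =>
    Finset.sum_bij' (fun m _ => (m : ZMod r)) (fun i _ => i.val) (fun _ _ => Finset.mem_univ _)
      (fun i _ => Finset.mem_range.2 (ZMod.val_lt i))
      (fun m hm => ZMod.val_cast_of_lt (Finset.mem_range.1 hm))
      (fun i _ => ZMod.natCast_zmod_val i) (fun _ _ => rfl)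
  have hwle : finrank F W ≤ ∑ i, finrank F (Wi i) :=
    le_trans (Submodule.finrank_mono hWsup) (le_trans (finrank_sup_le _ _)
      (le_of_eq (hcast fun i => finrank F (Wi i))))
  obtain ⟨i0, hi0⟩ : ∃ i0, Wi i0 ≠ ⊥ := by
    by_contra h
    push Not at h
    exact hW0 (eq_bot_iff.2 (le_trans hWsup (Finset.sup_le fun m _ => (h _).le)))
  have hσ0r : σ0 ^ r = 1 := by
    obtain ⟨v, hv, hv0⟩ := Submodule.exists_mem_ne_zero_of_ne_bot hi0
    have h1 := hgk r i0 v hv
    rw [← map_pow, C.pow_one hr2 x hxR, map_one, Module.End.one_apply, ZMod.natCast_self] at h1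
    have h2 : c • v = (c * σ0 ^ r) • v := by
      have h3 := Module.End.mem_eigenspace_iff.1 hv.1
      rw [h1] at h3
      simpa [hψ0] using h3.symm
    exact (mul_eq_left₀ hc).1 (smul_left_injective F hv0 h2).symm
  obtain ⟨t0, -, ht0⟩ := hζ.eq_pow_of_pow_eq_one hσ0r
  let q : ZMod r → ZMod r → ZMod r := fun i k =>
    (t0 : ZMod r) * k + i * k + e * (2 : ZMod r)⁻¹ * k * (k + 1)
  let D : ZMod r → ZMod r → ℕ := fun j a =>
    finrank F ↥(eigenspace (ρ y) (ψ j) ⊓ eigenspace (ρ g) (c * ψ a))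
  have hmap : ∀ i k : ZMod r, finrank F (Wi i) ≤ D (i + e * k) (q i k) := by
    intro i k
    refine finrank_le_of_injective (ρ x ^ k.val) (by
      rw [← map_pow]; exact inj_act _) _ _ fun v hv => ⟨?_, ?_⟩
    · rw [SetLike.mem_coe, Module.End.mem_eigenspace_iff, hyx k.val i v hv, ZMod.natCast_zmod_val]
    · rw [SetLike.mem_coe, Module.End.mem_eigenspace_iff, hgk k.val i v hv, ZMod.natCast_zmod_val]
      congr 1
      rw [← ht0, ← pow_mul, ← hψnat, mul_assoc, ← hψadd]
      push_cast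
      rw [ZMod.natCast_zmod_val]
      simp only [q]
      rw [add_assoc]
  have hDsum : ∀ (j : ZMod r) (s : Finset (ZMod r)),
      ∑ a ∈ s, D j a ≤ finrank F ↥(eigenspace (ρ y) (ψ j)) := by
    intro j s
    refine le_trans (le_of_eq ?_) (sum_eig_le (ρ g) _ (s.image fun a => c * ψ a))
    rw [Finset.sum_image fun a _ b _ h => hψinj (mul_left_cancel₀ hc h)]
  have hEsum : ∑ j, finrank F ↥(eigenspace (ρ y) (ψ j)) ≤ finrank F V := by
    refine le_trans (le_of_eq ?_) (le_trans (sum_eig_le (ρ y) ⊤ (Finset.univ.image ψ))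
      (Submodule.finrank_le _))
    rw [Finset.sum_image fun a _ b _ h => hψinj h]
    exact Finset.sum_congr rfl fun a _ => by rw [top_inf_eq]
  have hmain : r * ∑ i, finrank F (Wi i) ≤ 2 * finrank F V := by
    rcases eq_or_ne (e : ZMod r) 0 with he0z | hez
    · rw [Finset.mul_sum]
      calc ∑ i, r * finrank F (Wi i)
          ≤ ∑ i, (finrank F ↥(eigenspace (ρ y) (ψ i)) +
              if i = -(t0 : ZMod r) then r * finrank F ↥(eigenspace (ρ y) (ψ i)) else 0) := by
            refine Finset.sum_le_sum fun i _ => ?_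
            split_ifs with hi
            · exact le_trans (Nat.mul_le_mul_left r (Submodule.finrank_mono inf_le_right))
                (Nat.le_add_left _ _)
            · rw [add_zero]
              calc r * finrank F (Wi i) = ∑ _k : ZMod r, finrank F (Wi i) := by simp
                _ ≤ ∑ k, D i (q i k) := Finset.sum_le_sum fun k _ => by
                    simpa [he0z] using hmap i k
                _ = ∑ a ∈ Finset.univ.image (q i), D i a := by
                    rw [Finset.sum_image]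
                    intro a _ b _ h
                    simp only [q, he0z, zero_mul, add_zero, ← add_mul] at h
                    exact mul_left_cancel₀ (fun h0 => hi (eq_neg_of_add_eq_zero_right h0)) h
                _ ≤ _ := hDsum i _
        _ ≤ finrank F V + finrank F V := by
            rw [Finset.sum_add_distrib, Finset.sum_ite_eq' Finset.univ]
            simp only [Finset.mem_univ, if_true]
            exact Nat.add_le_add hEsum (C.eig_bound (C.le hy) hyc _)
        _ = _ := by ring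
    · calc r * ∑ i, finrank F (Wi i)
          = ∑ k : ZMod r, ∑ j, finrank F (Wi (j - e * k)) := by
            have : ∀ k : ZMod r, ∑ j, finrank F (Wi (j - e * k)) = ∑ i, finrank F (Wi i) :=
              fun k => Equiv.sum_comp (Equiv.subRight ((e : ZMod r) * k))
                (fun i => finrank F (Wi i))
            simp [this]
        _ = ∑ j, ∑ k, finrank F (Wi (j - e * k)) := Finset.sum_comm
        _ ≤ ∑ j, ∑ k, D j (q (j - e * k) k) := Finset.sum_le_sum fun j _ =>
            Finset.sum_le_sum fun k _ => by simpa using hmap (j - e * k) k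
        _ ≤ ∑ j, 2 * finrank F ↥(eigenspace (ρ y) (ψ j)) := by
            refine Finset.sum_le_sum fun j _ => ?_
            rw [← Finset.sum_fiberwise_of_maps_to (t := Finset.univ.image fun k => q (j - e * k) k)
              (g := fun k => q (j - e * k) k) fun k hk => Finset.mem_image_of_mem _ hk]
            refine le_trans (Finset.sum_le_sum fun a _ => ?_)
              (le_trans (le_of_eq (Finset.mul_sum _ _ _).symm) (Nat.mul_le_mul_left 2 (hDsum j _)))
            rw [Finset.sum_congr rfl (g := fun _ => D j a)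
              (fun k hk => by rw [(Finset.mem_filter.1 hk).2]), Finset.sum_const, smul_eq_mul]
            refine Nat.mul_le_mul_right _ ?_
            by_contra hlt
            obtain ⟨a1, a2, a3, h1, h2, h3, n12, n13, n23⟩ :=
              Finset.two_lt_card_iff.1 (not_le.1 hlt)
            have h2' : (2 : ZMod r) ≠ 0 := by
              intro h
              have : r ∣ 2 := (CharP.cast_eq_zero_iff (ZMod r) r 2).1 (by exact_mod_cast h)
              have := Nat.le_of_dvd two_pos this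
              omega
            have heq : ∀ {u v : ZMod r}, q (j - e * u) u = q (j - e * v) v → u ≠ v →
                (e : ZMod r) * (u + v) = 2 * (t0 + j) + e := by
              intro u v huv hne
              simp only [q] at huv
              field_simp at huv
              refine mul_left_cancel₀ (sub_ne_zero.2 hne) ?_
              linear_combination -huv
            have q1 := (Finset.mem_filter.1 h1).2
            have q2 := (Finset.mem_filter.1 h2).2
            have q3 := (Finset.mem_filter.1 h3).2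
            have s1 := heq (q1.trans q2.symm) n12
            have s2 := heq (q1.trans q3.symm) n13
            exact n23 (add_left_cancel (mul_left_cancel₀ hez (s1.trans s2.symm)))
        _ = 2 * ∑ j, finrank F ↥(eigenspace (ρ y) (ψ j)) := (Finset.mul_sum _ _ _).symm
        _ ≤ _ := Nat.mul_le_mul_left 2 hEsum
  exact le_trans (Nat.mul_le_mul_left r hwle) hmain

/-- **Eigenspaces of elements normalising an extraspecial group.** -/
theorem main (hϖ : ϖ.Prime) (hgϖ : g ^ ϖ = 1) (hgns : g ∉ Subgroup.center Γ) (c : F) :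
    (ϖ = 2 → 4 * finrank F ↥(eigenspace (ρ g) c) ≤ 3 * finrank F V) ∧
    (ϖ = 3 → 3 * finrank F ↥(eigenspace (ρ g) c) ≤ 2 * finrank F V) ∧
    (3 < ϖ → 2 * finrank F ↥(eigenspace (ρ g) c) ≤ finrank F V) ∧
    (ϖ = 3 → ¬ 3 ∣ finrank F V →
      2 * finrank F ↥(eigenspace (ρ g) c) ≤ finrank F V) := by
  set w := finrank F ↥(eigenspace (ρ g) c) with hw
  set n := finrank F V
  suffices H : (ϖ = 2 → 4 * w ≤ 3 * n) ∧ (ϖ = 3 → 3 * w ≤ 2 * n) ∧ (3 < ϖ → 2 * w ≤ n) ∧
      (ϖ = 3 → ¬ 3 ∣ n → 2 * w ≤ n) from H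
  have hr2 := C.prime.two_le
  rcases eq_or_ne c 0 with rfl | hc
  · rw [eigenspace_zero_eq_bot _ (inj_act g), finrank_bot] at hw
    omega
  by_cases htriv : ∀ x ∈ R, g * x * g⁻¹ * x⁻¹ ∈ Subgroup.center Γ
  · obtain ⟨-, hb⟩ := C.trivial_case hϖ hgϖ hgns htriv
    have h1 : r * w ≤ n := hb c
    have h2 : 2 * w ≤ r * w := Nat.mul_le_mul_right w hr2
    omega
  push Not at htriv
  obtain ⟨x, hx, hu⟩ := htriv
  set u := g * x * g⁻¹ * x⁻¹
  have huN : u ∈ N := N.mul_mem (C.norm x (C.le hx)) (N.inv_mem (C.le hx))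
  set d := finrank F ↥(eigenspace (ρ g) c ⊓ (eigenspace (ρ g) c).map (ρ x))
  have hgen : 2 * w ≤ n + d := C.two_mul_le x c
  have hdr : r * d ≤ n := le_trans (Nat.mul_le_mul_left r
    (Submodule.finrank_mono (C.inter_le c hc))) (C.eig_bound huN hu 1)
  have hd2 : 2 * d ≤ r * d := Nat.mul_le_mul_right d hr2
  have hhalf : ϖ ≠ 2 → ϖ ≠ r → 2 * w ≤ n := by
    intro h2 hne
    by_contra hlt
    refine hu (C.coprime_case hϖ h2 hne hgϖ (fun y hy => ?_) x hx)
    by_contra hnc
    have hb := C.inter_eq_bot hy hc hnc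
    have h := C.two_mul_le y c
    rw [hb, finrank_bot] at h
    have h' : 2 * w ≤ n + 0 := h
    omega
  have h3 : r = 3 → 3 * d ≤ n := fun h => h ▸ hdr
  have hdvd : r ∣ n := C.dvd_finrank huN hu
  refine ⟨fun _ => by omega, fun h => ?_, fun h => ?_, fun h hn => ?_⟩
  · rcases eq_or_ne r 3 with hr | hr
    · have := h3 hr; omega
    · have := hhalf (by omega) (by omega); omega
  · rcases eq_or_ne ϖ r with hr | hr
    · have hϖ4 : ϖ ≠ 4 := fun h4 => by rw [h4] at hϖ; exact absurd hϖ (by decide)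
      have hr5 : 5 ≤ r := by omega
      have h5 : r * w ≤ 2 * n := C.unipotent_case hr5 (hr ▸ hgϖ) ⟨x, hx, hu⟩ c
      have : 5 * w ≤ r * w := Nat.mul_le_mul_right w hr5
      omega
    · exact hhalf (by omega) hr
  · refine hhalf (by omega) fun hr => hn ?_
    rw [h] at hr
    rw [hr]
    exact hdvd

end Ctx

end Group

end Cfsg.Agent.FG75.EigenExtraspecial
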