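/-
Baer's theorem on left Engel elements and related nilpotency facts.
-/
import Cfsg.Agent.Lib.Subnormal.Zipper
import Cfsg.Agent.Lib.Components.GenFitting
import Mathlib

set_option autoImplicit false
set_option linter.all false

open Cfsg Subgroup
open scoped commutatorElement

universe u

namespace Cfsg.Agent.FG75

variable {G : Type u} [Group G]

/-- `y ↦ [y, g]`. -/
def engelMap (g : G) : G → G := fun y => y * g * y⁻¹ * g⁻¹

theorem engelMap_iterate (g : G) (n : ℕ) (x : G) :
    (List.replicate n g).foldl (fun a b => a * b * a⁻¹ * b⁻¹) x = (engelMap g)^[n] x := by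
  induction n generalizing x with
  | zero => rfl
  | succ n ih => rw [List.replicate_succ, List.foldl_cons, ih, Function.iterate_succ_apply]; rfl

theorem map_lowerCentralSeries_subtype (H : Subgroup G) (n : ℕ) :
    ((⊤ : Subgroup H).lowerCentralSeries n).map H.subtype = H.lowerCentralSeries n := by
  induction n with
  | zero => rw [Subgroup.lowerCentralSeries_zero, Subgroup.lowerCentralSeries_zero, ← MonoidHom.range_eq_map, range_subtype]
  | succ n ih =>
    rw [Subgroup.lowerCentralSeries_succ, Subgroup.lowerCentralSeries_succ, map_commutator, ih, ← MonoidHom.range_eq_map,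
      range_subtype]

theorem engel_of_mem_fitting [Finite G] {g : G} (hg : g ∈ fittingSubgroup G) (x : G) :
    ∃ n : ℕ, (engelMap g)^[n] x = 1 := by
  obtain ⟨c, hc⟩ := Subgroup.nilpotent_iff_lowerCentralSeries.1
    (Fitting.fitting_isNilpotent (G := G))
  have hbot : (fittingSubgroup G).lowerCentralSeries c = ⊥ := by
    rw [← map_lowerCentralSeries_subtype, hc, Subgroup.map_bot]
  have h : ∀ i : ℕ, (engelMap g)^[i + 1] x ∈ (fittingSubgroup G).lowerCentralSeries i := by
    intro i
    induction i with
    | zero =>
      rw [Subgroup.lowerCentralSeries_zero, Function.iterate_one]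
      exact mul_mem ((Fitting.fitting_normal (G := G)).conj_mem g hg x) (inv_mem hg)
    | succ i ih =>
      rw [Function.iterate_succ_apply', Subgroup.lowerCentralSeries_succ]
      exact commutator_mem_commutator ih hg
  have := h c
  rw [hbot, Subgroup.mem_bot] at this
  exact ⟨c + 1, this⟩

theorem isSubnormal_zpowers_of_mem_fitting [Finite G] {g : G} (hg : g ∈ fittingSubgroup G) :
    (zpowers g).IsSubnormal := by
  haveI := Fitting.fitting_isNilpotent (G := G)
  exact Subgroup.IsSubnormal.trans (zpowers_le.2 hg) (Subnormal.isSubnormal_of_isNilpotent _)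
    (Fitting.fitting_normal (G := G)).isSubnormal

theorem mem_fitting_of_engel_aux (n : ℕ) : ∀ (G : Type u) [Group G] [Finite G], Nat.card G ≤ n →
    ∀ g : G, (∀ x : G, ∃ k : ℕ, (engelMap g)^[k] x = 1) → g ∈ fittingSubgroup G := by
  induction n with
  | zero =>
    intro G _ _ h
    have := Nat.card_pos (α := G); omega
  | succ n ih =>
    intro G _ _ hcard g hg
    by_cases hsn : (zpowers g).IsSubnormal
    · haveI : Group.IsNilpotent (zpowers g) := by
        open scoped IsMulCommutative in exact inferInstance
      exact Components.le_fitting_of_isSubnormal hsn inferInstance (mem_zpowers g)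
    exfalso
    have hsub : ∀ K : Subgroup G, zpowers g ≤ K → K ≠ ⊤ → ((zpowers g).subgroupOf K).IsSubnormal := by
      intro K hgK hK
      have hlt : Nat.card K ≤ n := by
        have : Nat.card K < Nat.card G := lt_of_le_of_ne (Subgroup.card_le_card_group K)
          (fun h => hK (Subgroup.eq_top_of_card_eq K h))
        omega
      have hgK' : g ∈ K := hgK (mem_zpowers g)
      have h := ih K hlt ⟨g, hgK'⟩ fun x => by
        obtain ⟨k, hk⟩ := hg x
        refine ⟨k, ?_⟩
        have hcoe : ∀ (j : ℕ) (y : K), (((engelMap (⟨g, hgK'⟩ : K))^[j] y : K) : G) = (engelMap g)^[j] (y : G) := by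
          intro j y
          induction j generalizing y with
          | zero => rfl
          | succ j ihj => rw [Function.iterate_succ_apply, Function.iterate_succ_apply, ihj]; rfl
        exact Subtype.ext ((hcoe k x).trans hk)
      have h2 := isSubnormal_zpowers_of_mem_fitting h
      rwa [show zpowers (⟨g, hgK'⟩ : K) = (zpowers g).subgroupOf K by
        apply Subgroup.map_injective K.subtype_injective
        rw [MonoidHom.map_zpowers, Subgroup.map_subgroupOf_eq_of_le hgK]; rfl] at h2
    obtain ⟨M, hM, huniq⟩ := Subnormal.exists_unique_maximal_of_not_isSubnormal _ hsn hsub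
    have hgne : zpowers g ≠ ⊤ := fun h => hsn (h ▸ Subgroup.IsSubnormal.top)
    have hgM : zpowers g ≤ M := huniq _ le_rfl hgne
    have hnorm : normalizer (M : Set G) ≠ ⊤ := fun h => by
      haveI hMn : M.Normal := normalizer_eq_top_iff.1 h
      exact hsn (Subgroup.IsSubnormal.trans hgM (hsub M hgM hM.1) hMn.isSubnormal)
    have hN : normalizer (M : Set G) = M := by
      rcases hM.le_iff.1 (le_normalizer (H := M)) with h | h
      · exact absurd h hnorm
      · exact h
    have key : ∀ y : G, engelMap g y ∈ M → y ∈ M := by
      intro y hy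
      have h1 : y * g * y⁻¹ ∈ M := by
        have := mul_mem hy (hgM (mem_zpowers g))
        simpa [engelMap] using this
      let M' := M.comap (MulAut.conj y).toMonoidHom
      have h2 : zpowers g ≤ M' := zpowers_le.2 h1
      have h3 : M' ≠ ⊤ := fun h => hM.1 (eq_top_iff.2 fun z _ => by
        have : y⁻¹ * z * y ∈ M' := by rw [h]; trivial
        simpa [M', Subgroup.mem_comap, MulAut.conj_apply, mul_assoc] using this)
      have h4 : M' ≤ M := huniq M' h2 h3
      have h5 : M' = M := Subgroup.eq_of_le_of_card_ge h4 (le_of_eq (Nat.card_congr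
        { toFun := fun z => ⟨y⁻¹ * z * y, by
            show y * (y⁻¹ * z * y) * y⁻¹ ∈ M
            simp [mul_assoc]⟩
          invFun := fun z => ⟨y * z * y⁻¹, z.2⟩
          left_inv := fun z => Subtype.ext (by simp [mul_assoc])
          right_inv := fun z => Subtype.ext (by simp [mul_assoc]) }))
      rw [← hN, Subgroup.mem_normalizer_iff]
      intro z
      conv_lhs => rw [← h5]
      rfl
    have : M = ⊤ := eq_top_iff.2 fun x _ => by
      obtain ⟨k, hk⟩ := hg x
      have hk' : (engelMap g)^[k] x ∈ M := by rw [hk]; exact one_mem M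
      clear hk
      induction k generalizing x with
      | zero => exact hk'
      | succ k ihk =>
        rw [Function.iterate_succ_apply] at hk'
        exact key x (ihk (engelMap g x) trivial hk')
    exact hM.1 this

theorem mem_fitting_iff_engel [Finite G] (g : G) :
    g ∈ fittingSubgroup G ↔ ∀ x : G, ∃ n : ℕ, (engelMap g)^[n] x = 1 :=
  ⟨engel_of_mem_fitting, mem_fitting_of_engel_aux _ G le_rfl g⟩

end Cfsg.Agent.FG75
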