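import Mathlib

/-!
Fixed spaces in solvable linear groups without a system of imprimitivity.
-/

set_option autoImplicit false

namespace Cfsg.Agent.FG75.FixSpace

open Module
open scoped commutatorElement

variable {G : Type*} [Group G] {F : Type*} [Field F] {V : Type*} [AddCommGroup V] [Module F V]

/-- fixed space of one element -/
def fix (ρ : G →* Module.End F V) (g : G) : Submodule F V := LinearMap.ker (ρ g - 1)

/-- image of `g - 1` -/
def mov (ρ : G →* Module.End F V) (g : G) : Submodule F V := LinearMap.range (ρ g - 1)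

lemma mem_fix (ρ : G →* Module.End F V) {g : G} {v : V} : v ∈ fix ρ g ↔ ρ g v = v := by
  simp [fix, sub_eq_zero]

lemma apply_injective (ρ : G →* Module.End F V) (g : G) : Function.Injective (ρ g) := by
  intro v w h
  have h' := congrArg (ρ g⁻¹) h
  simpa [← Module.End.mul_apply, ← map_mul] using h'

lemma cancel (ρ : G →* Module.End F V) (g : G) (v : V) : ρ g (ρ g⁻¹ v) = v := by
  rw [← Module.End.mul_apply, ← map_mul, mul_inv_cancel, map_one, Module.End.one_apply]

lemma cancel' (ρ : G →* Module.End F V) (g : G) (v : V) : ρ g⁻¹ (ρ g v) = v := by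
  rw [← Module.End.mul_apply, ← map_mul, inv_mul_cancel, map_one, Module.End.one_apply]

lemma conj_apply (ρ : G →* Module.End F V) (g a : G) (v : V) :
    ρ (g * a * g⁻¹) (ρ g v) = ρ g (ρ a v) := by
  rw [map_mul, map_mul, Module.End.mul_apply, Module.End.mul_apply, cancel']

lemma map_fix (ρ : G →* Module.End F V) (g a : G) :
    (fix ρ a).map (ρ g) = fix ρ (g * a * g⁻¹) := by
  apply le_antisymm
  · rintro _ ⟨v, hv, rfl⟩
    rw [mem_fix, conj_apply, (mem_fix ρ).1 hv]
  · intro w hw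
    refine ⟨ρ g⁻¹ w, ?_, cancel ρ g w⟩
    rw [SetLike.mem_coe, mem_fix]
    apply apply_injective ρ g
    rw [← conj_apply, cancel, (mem_fix ρ).1 hw]

lemma map_mov (ρ : G →* Module.End F V) (g a : G) :
    (mov ρ a).map (ρ g) = mov ρ (g * a * g⁻¹) := by
  apply le_antisymm
  · rintro _ ⟨_, ⟨v, rfl⟩, rfl⟩
    exact ⟨ρ g v, by simp [conj_apply]⟩
  · rintro _ ⟨w, rfl⟩
    refine ⟨(ρ a - 1) (ρ g⁻¹ w), ⟨_, rfl⟩, ?_⟩
    have := conj_apply ρ g a (ρ g⁻¹ w)
    rw [cancel] at this
    simp [this]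

/-- common eigen-type of a normal set of commuting elements -/
def atom (ρ : G →* Module.End F V) (A : Set G) (B : Set G) : Submodule F V :=
  (⨅ a ∈ A ∩ B, fix ρ a) ⊓ ⨅ a ∈ A \ B, mov ρ a

lemma atom_le_fix (ρ : G →* Module.End F V) {A B : Set G} {a : G} (ha : a ∈ A) (hb : a ∈ B) :
    atom ρ A B ≤ fix ρ a :=
  le_trans inf_le_left (iInf₂_le a ⟨ha, hb⟩)

lemma atom_le_mov (ρ : G →* Module.End F V) {A B : Set G} {a : G} (ha : a ∈ A) (hb : a ∉ B) :
    atom ρ A B ≤ mov ρ a :=
  le_trans inf_le_right (iInf₂_le a ⟨ha, hb⟩)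

lemma commute_stable (ρ : G →* Module.End F V) {A : Subgroup G}
    (hAc : ∀ x ∈ A, ∀ y ∈ A, x * y = y * x) (B : Set G) {c : G} (hc : c ∈ A) {v : V}
    (hv : v ∈ atom ρ (A : Set G) B) : (ρ c - 1) v ∈ atom ρ (A : Set G) B := by
  have key : ∀ a ∈ A, ρ c * (ρ a - 1) = (ρ a - 1) * ρ c := by
    intro a ha
    rw [mul_sub, sub_mul, ← map_mul, ← map_mul, hAc c hc a ha, mul_one, one_mul]
  have hcv : ρ c v ∈ atom ρ (A : Set G) B := by
    simp only [atom, Submodule.mem_inf, Submodule.mem_iInf] at hv ⊢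
    constructor
    · intro a ha
      rw [fix, LinearMap.mem_ker, ← Module.End.mul_apply, ← key a ha.1, Module.End.mul_apply,
        LinearMap.mem_ker.1 (hv.1 a ha), map_zero]
    · intro a ha
      obtain ⟨u, hu⟩ := hv.2 a ha
      refine ⟨ρ c u, ?_⟩
      rw [← hu, ← Module.End.mul_apply, ← key a ha.1, Module.End.mul_apply]
  simpa using sub_mem hcv hv

lemma map_atom_le (ρ : G →* Module.End F V) (A : Subgroup G) [A.Normal] (g : G) (B : Set G) :
    (atom ρ (A : Set G) B).map (ρ g) ≤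
      atom ρ (A : Set G) ((fun b => g * b * g⁻¹) '' B) := by
  rintro _ ⟨v, hv, rfl⟩
  simp only [atom, Submodule.mem_inf, Submodule.mem_iInf]
  simp only [SetLike.mem_coe, atom, Submodule.mem_inf, Submodule.mem_iInf] at hv
  constructor
  · rintro a ⟨hgb, b, hb, rfl⟩
    have hbA : g * b * g⁻¹ ∈ A → b ∈ A := by
      intro h
      simpa [mul_assoc] using Subgroup.Normal.conj_mem ‹A.Normal› _ h g⁻¹
    rw [← map_fix]
    exact ⟨v, hv.1 b ⟨hbA hgb, hb⟩, rfl⟩
  · rintro a ⟨ha, hna⟩
    have haB : g⁻¹ * a * g ∉ B := fun h => hna ⟨_, h, by group⟩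
    have haA : g⁻¹ * a * g ∈ A := by
      simpa using Subgroup.Normal.conj_mem ‹A.Normal› _ ha g⁻¹
    have h : a = g * (g⁻¹ * a * g) * g⁻¹ := by group
    rw [h, ← map_mov]
    exact ⟨v, hv.2 _ ⟨haA, haB⟩, rfl⟩

variable [FiniteDimensional F V]

/-- In an irreducible group with no system of imprimitivity, non-identity elements of abelian
normal subgroups are fixed-point-free. -/
theorem abelian_normal_fixedPointFree [Finite G] (ρ : G →* Module.End F V)
    (hinj : Function.Injective ρ)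
    (hirr : ∀ W : Submodule F V, (∀ g, W.map (ρ g) ≤ W) → W = ⊥ ∨ W = ⊤)
    (hprim : ∀ (t m : ℕ) (D : Fin t → Submodule F V), 2 ≤ t → 0 < m →
      (∀ i, finrank F (D i) = m) → iSupIndep D → iSup D = ⊤ →
      (∀ g, ∃ σ : Equiv.Perm (Fin t), ∀ i, (D i).map (ρ g) = D (σ i)) → False)
    (A : Subgroup G) [A.Normal] (hAc : ∀ x ∈ A, ∀ y ∈ A, x * y = y * x) {a : G} (ha : a ∈ A)
    (ha1 : a ≠ 1) : fix ρ a = ⊥ := by
  classical
  rcases subsingleton_or_nontrivial V with hV | hV
  · exact Submodule.eq_bot_of_subsingleton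
  -- a minimal invariant subspace for `A`
  let P : Set (Submodule F V) := {W | W ≠ ⊥ ∧ ∀ c ∈ A, W.map (ρ c) ≤ W}
  obtain ⟨U, ⟨hU0, hUA⟩, hUmin⟩ :=
    (wellFounded_lt (α := Submodule F V)).has_min P ⟨⊤, top_ne_bot, fun _ _ => le_top⟩
  let B₀ : Set G := {c | c ∈ A ∧ U ≤ fix ρ c}
  have hU : U ≤ atom ρ (A : Set G) B₀ := by
    refine le_inf (le_iInf₂ fun c hc => hc.2.2) (le_iInf₂ fun c hc => ?_)
    have hcA : c ∈ A := hc.1
    have hker : U ⊓ fix ρ c = ⊥ := by
      by_contra hne
      have hinv : ∀ d ∈ A, (U ⊓ fix ρ c).map (ρ d) ≤ U ⊓ fix ρ c := by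
        intro d hd
        refine le_inf ((Submodule.map_mono inf_le_left).trans (hUA d hd)) ?_
        refine (Submodule.map_mono inf_le_right).trans (le_of_eq ?_)
        rw [map_fix, hAc d hd c hcA, mul_inv_cancel_right]
      have : ¬ (U ⊓ fix ρ c < U) := hUmin _ ⟨hne, hinv⟩
      have heq : U ⊓ fix ρ c = U := eq_of_le_of_not_lt inf_le_left this
      exact hc.2 ⟨hcA, inf_eq_left.1 heq⟩
    have hmaps : ∀ u ∈ U, (ρ c - 1) u ∈ U := fun u hu => by
      simpa using sub_mem (hUA c hcA ⟨u, hu, rfl⟩) hu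
    let f : U →ₗ[F] U := (ρ c - 1).restrict hmaps
    have hf : Function.Injective f := by
      rw [← LinearMap.ker_eq_bot, Submodule.eq_bot_iff]
      intro u hu
      have h0 : (ρ c - 1) (u : V) = 0 := congrArg Subtype.val (LinearMap.mem_ker.1 hu)
      have : (u : V) ∈ U ⊓ fix ρ c := ⟨u.2, LinearMap.mem_ker.2 h0⟩
      rw [hker, Submodule.mem_bot] at this
      exact Subtype.ext this
    intro u hu
    obtain ⟨w, hw⟩ := (LinearMap.injective_iff_surjective.1 hf) ⟨u, hu⟩
    exact ⟨w, congrArg Subtype.val hw⟩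
  -- the orbit of `B₀`
  let O : Set (Set G) := Set.range fun g : G => (fun b => g * b * g⁻¹) '' B₀
  have hconj : ∀ (g : G) (B : Set G), B ∈ O → (fun b => g * b * g⁻¹) '' B ∈ O := by
    rintro g _ ⟨k, rfl⟩
    refine ⟨g * k, ?_⟩
    simp only [Set.image_image]
    congr 1; funext b; group
  have hsubA : ∀ B ∈ O, B ⊆ (A : Set G) := by
    rintro _ ⟨k, rfl⟩ _ ⟨b, hb, rfl⟩
    exact Subgroup.Normal.conj_mem ‹A.Normal› b hb.1 k
  have hB₀ : B₀ ∈ O := ⟨1, by simp⟩
  let D : O → Submodule F V := fun B => atom ρ (A : Set G) B.1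
  have hmap : ∀ (g : G) (B : O),
      (D B).map (ρ g) = D ⟨_, hconj g B.1 B.2⟩ := by
    intro g B
    refine le_antisymm (map_atom_le ρ A g B.1) ?_
    intro v hv
    refine ⟨ρ g⁻¹ v, ?_, cancel ρ g v⟩
    have h := map_atom_le ρ A g⁻¹ ((fun b => g * b * g⁻¹) '' B.1) ⟨v, hv, rfl⟩
    have himg : (fun b => g⁻¹ * b * g⁻¹⁻¹) '' ((fun b => g * b * g⁻¹) '' B.1) = B.1 := by
      simp [Set.image_image, mul_assoc]
    rwa [himg] at h
  have htop : iSup D = ⊤ := by
    rcases hirr (iSup D) (fun g => by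
      rw [Submodule.map_iSup]
      exact iSup_le fun B => (hmap g B).le.trans (le_iSup D _)) with h | h
    · exact absurd (le_bot_iff.1 (h ▸ hU.trans (le_iSup D ⟨B₀, hB₀⟩))) hU0
    · exact h
  have hcompl : ∀ c ∈ A, Disjoint (fix ρ c) (mov ρ c) := by
    intro c hc
    have hsup : fix ρ c ⊔ mov ρ c = ⊤ := by
      rw [← top_le_iff, ← htop]
      refine iSup_le fun B => ?_
      by_cases hcB : c ∈ B.1
      · exact le_trans (atom_le_fix ρ hc hcB) le_sup_left
      · exact le_trans (atom_le_mov ρ hc hcB) le_sup_right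
    rw [disjoint_iff, ← Submodule.finrank_eq_zero (R := F)]
    have h1 := Submodule.finrank_sup_add_finrank_inf_eq (fix ρ c) (mov ρ c)
    have h2 : finrank F (mov ρ c) + finrank F (fix ρ c) = finrank F V :=
      LinearMap.finrank_range_add_finrank_ker (ρ c - 1)
    rw [hsup, finrank_top] at h1
    omega
  have hzero : ∀ s : Finset O, ∀ v : O → V, (∀ B ∈ s, v B ∈ D B) →
      ∑ B ∈ s, v B = 0 → ∀ B ∈ s, v B = 0 := by
    intro s
    induction s using Finset.strongInduction with
    | H s ih =>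
      intro v hv hsum B hB
      by_contra hne
      have hex : ∃ C ∈ s, C ≠ B := by
        by_contra hall
        push Not at hall
        rw [Finset.sum_eq_single B (fun C hC hCB => absurd (hall C hC) hCB)
          (fun h => absurd hB h)] at hsum
        exact hne hsum
      obtain ⟨C, hC, hCB⟩ := hex
      have hdiff : ∃ c, (c ∈ C.1 ∧ c ∉ B.1) ∨ (c ∈ B.1 ∧ c ∉ C.1) := by
        by_contra hall
        push Not at hall
        exact hCB (Subtype.ext (Set.ext fun c => ⟨(hall c).1, (hall c).2⟩))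
      obtain ⟨c, hc⟩ := hdiff
      have hcA : c ∈ A := hc.elim (fun h => hsubA _ C.2 h.1) (fun h => hsubA _ B.2 h.1)
      -- if `c` fixes the `X` part, the `Y` part is zero
      have step : ∀ X Y : O, X ∈ s → Y ∈ s → c ∈ X.1 → c ∉ Y.1 → v Y = 0 := by
        intro X Y hX hY hcX hcY
        have hX0 : (ρ c - 1) (v X) = 0 := LinearMap.mem_ker.1 (atom_le_fix ρ hcA hcX (hv X hX))
        have h := ih (s.erase X) (Finset.erase_ssubset hX) (fun Z => (ρ c - 1) (v Z))
          (fun Z hZ => commute_stable ρ hAc _ hcA (hv Z (Finset.mem_of_mem_erase hZ)))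
          (by rw [Finset.sum_erase s hX0, ← map_sum, hsum, map_zero]) Y
          (Finset.mem_erase.2 ⟨fun h => hcY (h ▸ hcX), hY⟩)
        exact Submodule.disjoint_def.1 (hcompl c hcA) _ (LinearMap.mem_ker.2 h)
          (atom_le_mov ρ hcA hcY (hv Y hY))
      rcases hc with ⟨h1, h2⟩ | ⟨h1, h2⟩
      · exact hne (step C B hC hB h1 h2)
      · have h0 := step B C hB hC h1 h2
        exact hne (ih (s.erase C) (Finset.erase_ssubset hC) v
          (fun Z hZ => hv Z (Finset.mem_of_mem_erase hZ))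
          (by rw [Finset.sum_erase s h0, hsum]) B (Finset.mem_erase.2 ⟨hCB.symm, hB⟩))
  have hind : iSupIndep D := (iSupIndep_iff_finsetSum_eq_zero_imp_eq_zero D).2
    fun s v hv hsum => hzero s v hv hsum
  have hD0 : 0 < finrank F (D ⟨B₀, hB₀⟩) := by
    refine Nat.pos_of_ne_zero fun h0 => hU0 ?_
    exact le_bot_iff.1 (hU.trans (Submodule.finrank_eq_zero.1 h0).le)
  haveI : Fintype O := Fintype.ofFinite O
  have hone : ∀ B : O, B = ⟨B₀, hB₀⟩ := by
    by_contra hnot
    push Not at hnot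
    obtain ⟨B, hB⟩ := hnot
    have h2 : 2 ≤ Fintype.card O := Fintype.one_lt_card_iff.2 ⟨B, ⟨B₀, hB₀⟩, hB⟩
    let e := (Fintype.equivFin O).symm
    refine hprim (Fintype.card O) (finrank F (D ⟨B₀, hB₀⟩)) (D ∘ e) h2 hD0 (fun i => ?_)
      (hind.comp e.injective) ?_ (fun g => ?_)
    · obtain ⟨k, hk⟩ := (e i).2
      have hk' : e i = ⟨_, hconj k B₀ hB₀⟩ := Subtype.ext hk.symm
      show finrank F (D (e i)) = _
      rw [hk', ← hmap k ⟨B₀, hB₀⟩]
      exact (LinearEquiv.finrank_eq (Submodule.equivMapOfInjective _ (apply_injective ρ k) _)).symm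
    · rw [← htop]; exact e.surjective.iSup_comp D
    · let π : O → O := fun B => ⟨_, hconj g B.1 B.2⟩
      have hπ : Function.Bijective π := by
        refine Finite.injective_iff_bijective.1 fun B B' h => Subtype.ext ?_
        exact Set.image_injective.2 (fun x y hxy => mul_left_cancel (mul_right_cancel hxy))
          (congrArg Subtype.val h)
      refine ⟨e.trans ((Equiv.ofBijective π hπ).trans e.symm), fun i => ?_⟩
      show (D (e i)).map (ρ g) = D (e _)
      rw [hmap]
      simp [π]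
  have hall : D ⟨B₀, hB₀⟩ = ⊤ := by
    rw [← top_le_iff, ← htop]
    exact iSup_le fun B => (congrArg D (hone B)).le
  by_cases haB : a ∈ B₀
  · refine absurd (hinj ?_) ha1
    rw [map_one]
    refine LinearMap.ext fun v => ?_
    have : v ∈ fix ρ a := atom_le_fix ρ ha haB (hall ▸ Submodule.mem_top : v ∈ D ⟨B₀, hB₀⟩)
    rw [(mem_fix ρ).1 this, Module.End.one_apply]
  · refine (disjoint_top.1 ?_)
    exact (hcompl a ha).mono_right (hall ▸ atom_le_mov ρ ha haB)

lemma two_fix_le (ρ : G →* Module.End F V) (u y : G) :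
    2 * finrank F (fix ρ u) ≤ finrank F V + finrank F (fix ρ (u * y * u⁻¹ * y⁻¹)) := by
  have hle : fix ρ u ⊓ (fix ρ u).map (ρ y) ≤ fix ρ (u * y * u⁻¹ * y⁻¹) := by
    rintro w ⟨hw, v, hv, rfl⟩
    rw [mem_fix, map_mul, Module.End.mul_apply, cancel', map_mul, Module.End.mul_apply,
      show ρ u⁻¹ v = v by
        conv_lhs => rw [← (mem_fix ρ).1 hv]
        rw [cancel'],
      map_mul, Module.End.mul_apply]
    exact (mem_fix ρ).1 hw
  have h1 := Submodule.finrank_sup_add_finrank_inf_eq (fix ρ u) ((fix ρ u).map (ρ y))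
  have h2 : finrank F ((fix ρ u).map (ρ y)) = finrank F (fix ρ u) :=
    (LinearEquiv.finrank_eq (Submodule.equivMapOfInjective _ (apply_injective ρ y) _)).symm
  have h3 := Submodule.finrank_le (fix ρ u ⊔ (fix ρ u).map (ρ y))
  have h4 := Submodule.finrank_mono hle
  omega

/-- In a finite solvable irreducible group with no system of imprimitivity, a non-identity element
fixes at most three quarters of the space. -/
theorem four_fix_le [Finite G] [Group.IsSolvable G] (ρ : G →* Module.End F V)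
    (hinj : Function.Injective ρ)
    (hirr : ∀ W : Submodule F V, (∀ g, W.map (ρ g) ≤ W) → W = ⊥ ∨ W = ⊤)
    (hprim : ∀ (t m : ℕ) (D : Fin t → Submodule F V), 2 ≤ t → 0 < m →
      (∀ i, finrank F (D i) = m) → iSupIndep D → iSup D = ⊤ →
      (∀ g, ∃ σ : Equiv.Perm (Fin t), ∀ i, (D i).map (ρ g) = D (σ i)) → False)
    {g : G} (hg : g ≠ 1) : 4 * finrank F (fix ρ g) ≤ 3 * finrank F V := by
  classical
  -- maximal abelian normal subgroup
  let P : Set (Subgroup G) := {A | A.Normal ∧ ∀ x ∈ A, ∀ y ∈ A, x * y = y * x}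
  obtain ⟨A, hAP, hAmax'⟩ := (wellFounded_gt (α := Subgroup G)).has_min P
    ⟨⊥, inferInstance, fun x hx y hy => by
      rw [Subgroup.mem_bot.1 hx, Subgroup.mem_bot.1 hy]⟩
  obtain ⟨hAn, hAc⟩ := hAP
  haveI : A.Normal := hAn
  have hAmax : ∀ B : Subgroup G, A ≤ B → B.Normal → (∀ x ∈ B, ∀ y ∈ B, x * y = y * x) → B ≤ A :=
    fun B hAB hBn hBc => ((eq_or_lt_of_le hAB).elim (fun h => h.ge)
      (fun h => absurd h (hAmax' B ⟨hBn, hBc⟩)))
  have hfpf : ∀ {a : G}, a ∈ A → a ≠ 1 → finrank F (fix ρ a) = 0 := fun ha ha1 => by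
    rw [abelian_normal_fixedPointFree ρ hinj hirr hprim A hAc ha ha1, finrank_bot]
  by_cases hgA : g ∈ A
  · rw [hfpf hgA hg]; omega
  by_cases hcen : ∃ a ∈ A, g * a * g⁻¹ * a⁻¹ ≠ 1
  · obtain ⟨a, ha, hne⟩ := hcen
    have hmem : g * a * g⁻¹ * a⁻¹ ∈ A :=
      A.mul_mem (Subgroup.Normal.conj_mem ‹A.Normal› a ha g) (A.inv_mem ha)
    have h := two_fix_le ρ g a
    rw [hfpf hmem hne] at h
    omega
  push Not at hcen
  set K := Subgroup.normalClosure ({g} : Set G) with hK
  have hgK : g ∈ K := Subgroup.subset_normalClosure rfl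
  haveI : K.Normal := Subgroup.normalClosure_normal
  have hKA : K ≤ Subgroup.centralizer (A : Set G) := by
    refine Subgroup.normalClosure_le_normal ?_
    rintro _ rfl a ha
    exact (commutatorElement_eq_one_iff_mul_comm.1 (hcen a ha)).symm
  -- the last term of the derived series of `K` outside `A`
  have hsolK : Group.IsSolvable K := inferInstance
  obtain ⟨m, hm⟩ := hsolK
  let E : ℕ → Subgroup G := fun i => (derivedSeries K i).map K.subtype
  have hEn : ∀ i, (E i).Normal := fun i => inferInstance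
  have hEm : E m ≤ A := by simp [E, hm]
  have hE0 : ¬ E 0 ≤ A := fun h => hgA (h (by simpa [E] using hgK))
  obtain ⟨i, hi, hi'⟩ : ∃ i, ¬ E i ≤ A ∧ E (i + 1) ≤ A := by
    by_contra hno
    push Not at hno
    have : ∀ i, ¬ E i ≤ A := fun i => by
      induction i with
      | zero => exact hE0
      | succ i ih => exact hno i ih
    exact this m hEm
  haveI : (E i).Normal := hEn i
  have hEK : E i ≤ K := Subgroup.map_subtype_le _
  have hEcom : ∀ x ∈ E i, ∀ y ∈ E i, x * y * x⁻¹ * y⁻¹ ∈ A := by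
    intro x hx y hy
    have : ⁅x, y⁆ ∈ ⁅E i, E i⁆ := Subgroup.commutator_mem_commutator hx hy
    rw [← commutatorElement_def]
    refine hi' ?_
    simpa [E, Subgroup.map_commutator, derivedSeries_succ] using this
  -- the key subgroup
  have hEA : ∀ x ∈ E i, ∀ a ∈ A, a * x = x * a := fun x hx a ha => hKA (hEK hx) a ha
  -- `g` does not centralise `E i`
  obtain ⟨x, hx, hne⟩ : ∃ x ∈ E i, g * x * g⁻¹ * x⁻¹ ≠ 1 := by
    by_contra hno
    push Not at hno
    have hKE : K ≤ Subgroup.centralizer (E i : Set G) := by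
      refine Subgroup.normalClosure_le_normal ?_
      rintro _ rfl e he
      exact (commutatorElement_eq_one_iff_mul_comm.1 (hno e he)).symm
    refine hi (le_sup_right.trans (hAmax (A ⊔ E i) le_sup_left inferInstance ?_))
    have hle : A ⊔ E i ≤ Subgroup.centralizer ((A ⊔ E i : Subgroup G) : Set G) := by
      rw [Subgroup.le_centralizer_iff]
      refine sup_le ?_ ?_ <;> rw [Subgroup.le_centralizer_iff] <;> refine sup_le ?_ ?_
      · intro a ha b hb; exact hAc b hb a ha
      · intro e he a ha; exact hEA e he a ha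
      · intro a ha e he; exact (hEA e he a ha).symm
      · intro e he e' he'; exact hKE (hEK he) e' he'
    intro x hx y hy
    exact (hle hx y hy).symm
  set u := g * x * g⁻¹ * x⁻¹ with hu
  have huE : u ∈ E i :=
    (E i).mul_mem (Subgroup.Normal.conj_mem (hEn i) x hx g) ((E i).inv_mem hx)
  have h1 := two_fix_le ρ g x
  rw [← hu] at h1
  suffices 2 * finrank F (fix ρ u) ≤ finrank F V by omega
  by_cases huA : u ∈ A
  · rw [hfpf huA hne]; omega
  by_cases hy : ∃ y ∈ E i, u * y * u⁻¹ * y⁻¹ ≠ 1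
  · obtain ⟨y, hy, hne'⟩ := hy
    have h2 := two_fix_le ρ u y
    rw [hfpf (hEcom u huE y hy) hne'] at h2
    omega
  -- otherwise the centre of `A ⊔ E i` is a larger abelian normal subgroup
  exfalso
  push Not at hy
  haveI : (Subgroup.centralizer (E i : Set G)).Normal := inferInstance
  let Z : Subgroup G := (A ⊔ E i) ⊓
    (Subgroup.centralizer (A : Set G) ⊓ Subgroup.centralizer (E i : Set G))
  have hAZ : A ≤ Z := le_inf le_sup_left (le_inf (fun a ha b hb => hAc b hb a ha)
    (fun a ha e he => (hEA e he a ha).symm))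
  refine huA (hAmax Z hAZ inferInstance ?_ ?_)
  · intro a ha b hb
    have hle : A ⊔ E i ≤ Subgroup.centralizer ({a} : Set G) := by
      refine sup_le ?_ ?_
      · rintro c hc _ rfl; exact (ha.2.1 c hc).symm
      · rintro c hc _ rfl; exact (ha.2.2 c hc).symm
    exact hle hb.1 a rfl
  · exact ⟨Subgroup.mem_sup_right huE, hKA (hEK huE),
      fun e he => (commutatorElement_eq_one_iff_mul_comm.1 (hy e he)).symm⟩

end Cfsg.Agent.FG75.FixSpace
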