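import Cfsg.Agent.Lib.Coprime.Hall
import Cfsg.Agent.Lib.Coprime.Action
import Cfsg.Agent.Lib.Thompson.Cores
import Cfsg.Agent.Lib.Components.GenFitting
import Cfsg.Agent.Lib.Fitting.Minimal

/-!
`q'`-cores of centralizers of `q`-elements centralized by a coprime operator group.
-/

set_option autoImplicit false
set_option linter.all false

namespace Cfsg.Agent.FG75.FlavellCore

open Subgroup Cfsg
open scoped commutatorElement

variable {G : Type*} [Group G] [Finite G]

/-- The reduced case `O_{q'}(H) = 1`. -/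
theorem core_bot (H P : Subgroup G) (q : ℕ) [Fact q.Prime] (hP : Group.IsSolvable P)
    (hHn : H.Normal) (hcop : (Nat.card P).Coprime (Nat.card H))
    (hsol : Group.IsSolvable ↥⁅H, P⁆)
    (hO : ∀ N : Subgroup G, N ≤ H → H ≤ normalizer (N : Set G) → (Nat.card N).Coprime q → N = ⊥)
    (z : G) (hzH : z ∈ H) (hzP : z ∈ centralizer (P : Set G)) (hz : ∃ k : ℕ, orderOf z = q ^ k)
    (X W : Subgroup G) (hX : X ≤ H ⊓ centralizer ({z} : Set G)) (hXq : (Nat.card X).Coprime q)
    (hXC : H ⊓ centralizer ({z} : Set G) ≤ normalizer (X : Set G))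
    (hXP : P ≤ normalizer (X : Set G))
    (hW : W ≤ H ⊓ centralizer (P : Set G)) (hWq : (Nat.card W).Coprime q)
    (hWC : H ⊓ centralizer (P : Set G) ≤ normalizer (W : Set G)) :
    X ⊓ W = ⊥ ∧ ⁅X, P⁆ = ⊥ := by
  classical
  haveI := hHn
  have hq : q.Prime := Fact.out
  have hPH : P ≤ normalizer (H : Set G) := by rw [normalizer_eq_top]; exact le_top
  set K := ⁅H, P⁆ with hKdef
  have hKH : K ≤ H := Coprime.commutator_le_of_le_normalizer hPH
  have hHK : H ≤ normalizer (K : Set G) := Coprime.le_normalizer_commutator_left P H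
  set Q := (pCore q ↥K).map K.subtype with hQdef
  have hQp : IsPGroup q Q := Thompson.isPGroup_pCore.map _
  have hQK : Q ≤ K := Subgroup.map_subtype_le _
  have hNQ : H ≤ normalizer (Q : Set G) := hHK.trans (Coprime.normalizer_le_normalizer_map K _)
  have hOK : pPrimeCore q ↥K = ⊥ := by
    refine (Subgroup.map_eq_bot_iff_of_injective _ K.subtype_injective).1 (hO _ ?_ ?_ ?_)
    · exact (Subgroup.map_subtype_le _).trans hKH
    · exact hHK.trans (Coprime.normalizer_le_normalizer_map K _)
    · exact Thompson.card_pPrimeCore_coprime.coprime_dvd_left (Subgroup.card_map_dvd _ _)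
  have hCK : K ⊓ centralizer (Q : Set G) ≤ Q := by
    haveI := hsol
    have h := Fitting.centralizer_fitting_le (G := ↥K)
    rw [Components.fitting_eq_pCore_of_pPrimeCore_eq_bot hOK] at h
    rintro x ⟨hxK, hxC⟩
    refine ⟨⟨x, hxK⟩, h (mem_centralizer_iff.2 fun y hy => Subtype.ext ?_), rfl⟩
    exact mem_centralizer_iff.1 hxC y ⟨y, hy, rfl⟩
  have hdisj : ∀ {A : Subgroup G}, (Nat.card A).Coprime q → A ⊓ Q = ⊥ := fun hA => by
    rw [inf_comm]; exact Thompson.inf_eq_bot_of_isPGroup_of_coprime hQp hA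
  have hXH : X ≤ H := hX.trans inf_le_left
  have hXQ : X ≤ centralizer (Q : Set G) := by
    refine Coprime.thompson_pxq q (zpowers z) X Q ?_ hXq hQp ?_
      (((zpowers_le (g := z) (H := H)).2 hzH).trans hNQ) (hXH.trans hNQ) ?_
    · obtain ⟨k, hk⟩ := hz
      exact IsPGroup.of_card (n := k) (by rw [Nat.card_zpowers, hk])
    · rw [zpowers_le]
      exact mem_centralizer_iff.2 fun x hx => mem_centralizer_singleton_iff.1 (hX hx).2
    · rintro c ⟨hcQ, hcz⟩
      have hc : c ∈ H ⊓ centralizer ({z} : Set G) := ⟨hKH (hQK hcQ),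
        mem_centralizer_singleton_iff.2 (mem_centralizer_iff.1 hcz z (mem_zpowers z)).symm⟩
      refine mem_centralizer_iff.2 fun x hx => ?_
      have h1 : x * c * x⁻¹ * c⁻¹ ∈ X ⊓ Q := ⟨by
        have := X.mul_mem hx (Coprime.conj_mem_of_mem_normalizer (hXC hc) (X.inv_mem hx))
        simpa [mul_assoc] using this,
        Q.mul_mem (Coprime.conj_mem_of_mem_normalizer (hNQ (hXH hx)) hcQ) (Q.inv_mem hcQ)⟩
      rw [hdisj hXq, mem_bot, mul_inv_eq_one, mul_inv_eq_iff_eq_mul] at h1
      exact h1
  have hXK : X ⊓ K = ⊥ := by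
    rw [eq_bot_iff, ← hdisj hXq]
    exact fun x hx => ⟨hx.1, hCK ⟨hx.2, hXQ hx.1⟩⟩
  refine ⟨?_, ?_⟩
  swap
  · rw [eq_bot_iff, ← hXK]
    exact le_inf (Coprime.commutator_le_of_le_normalizer hXP) (commutator_mono hXH le_rfl)
  set U := W ⊓ centralizer (Q : Set G) with hUdef
  have hUH : U ≤ H := inf_le_left.trans (hW.trans inf_le_left)
  have hUq : (Nat.card U).Coprime q := hWq.coprime_dvd_left (card_dvd_of_le inf_le_left)
  have hNC : H ≤ normalizer ((centralizer (Q : Set G) : Subgroup G) : Set G) :=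
    Coprime.le_normalizer_centralizer hNQ
  have hUK : ∀ u ∈ U, ∀ k ∈ K, u * k = k * u := by
    intro u hu k hk
    set c := u * k * u⁻¹ * k⁻¹ with hcdef
    have hcQ : c ∈ Q := hCK ⟨K.mul_mem (Coprime.conj_mem_of_mem_normalizer (hHK (hUH hu)) hk)
        (K.inv_mem hk), by
      have := mul_mem hu.2 (Coprime.conj_mem_of_mem_normalizer (hNC (hKH hk)) (inv_mem hu.2))
      simpa [hcdef, mul_assoc] using this⟩
    have huc : u * c = c * u := (mem_centralizer_iff.1 hu.2 c hcQ).symm
    have hpow : ∀ j : ℕ, u ^ j * k * (u ^ j)⁻¹ = c ^ j * k := by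
      intro j
      induction j with
      | zero => simp
      | succ j ih =>
        calc u ^ (j + 1) * k * (u ^ (j + 1))⁻¹ = u * (u ^ j * k * (u ^ j)⁻¹) * u⁻¹ := by
              rw [pow_succ']; group
          _ = (u * c ^ j) * k * u⁻¹ := by rw [ih]; group
          _ = c ^ j * (u * k * u⁻¹) := by
              rw [(show Commute u c from huc).pow_right j |>.eq]; group
          _ = c ^ (j + 1) * k := by rw [pow_succ, hcdef]; group
    have h1 : c ^ Nat.card U = 1 := by
      have hu1 : u ^ Nat.card U = 1 :=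
        congrArg Subtype.val (pow_card_eq_one' (x := (⟨u, hu⟩ : U)))
      have := hpow (Nat.card U)
      rw [hu1, one_mul, inv_one, mul_one] at this
      exact mul_eq_right.1 this.symm
    obtain ⟨n, hn⟩ := IsPGroup.iff_card.mp hQp
    have h2 : c ^ q ^ n = 1 := by
      rw [← hn]; exact congrArg Subtype.val (pow_card_eq_one' (x := (⟨c, hcQ⟩ : Q)))
    have : c = 1 := orderOf_eq_one_iff.1 (Nat.eq_one_of_dvd_coprimes (hUq.pow_right n)
      (orderOf_dvd_of_pow_eq_one h1) (orderOf_dvd_of_pow_eq_one h2))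
    rwa [hcdef, mul_inv_eq_one, mul_inv_eq_iff_eq_mul] at this
  have hUn : H ≤ normalizer (U : Set G) := by
    intro h hh
    obtain ⟨x, hx, c, hc, rfl⟩ :=
      Coprime.exists_commutator_mul_centralizer P H hPH hcop (Or.inl hP) h hh
    refine mul_mem ?_ (Coprime.le_normalizer_inf hWC (inf_le_left.trans hNC) hc)
    refine Subgroup.centralizer_le_normalizer _ (mem_centralizer_iff.2 fun u hu => hUK u hu x hx)
  have hU : U = ⊥ := hO U hUH hUn hUq
  rw [eq_bot_iff, ← hU]
  exact fun x hx => ⟨hx.2, hXQ hx.1⟩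

omit [Finite G] in
theorem map_le_normalizer_map {G' : Type*} [Group G'] (f : G →* G') {A B : Subgroup G}
    (h : A ≤ normalizer (B : Set G)) : A.map f ≤ normalizer ((B.map f : Subgroup G') : Set G') :=
  (Subgroup.map_mono h).trans (Subgroup.le_normalizer_map f)

/-- The general case. -/
theorem core_le {p : ℕ} [Fact p.Prime] (H P : Subgroup G) (hHn : H.Normal) (hPp : IsPGroup p P)
    (hHp : (Nat.card H).Coprime p) (hsol : Group.IsSolvable ↥⁅H, P⁆) (q : ℕ) [Fact q.Prime]
    (z : G) (hzH : z ∈ H) (hzP : z ∈ centralizer (P : Set G)) (hz : ∃ k : ℕ, orderOf z = q ^ k) :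
    ((pPrimeCore q ↥(H ⊓ centralizer ({z} : Set G))).map (H ⊓ centralizer ({z} : Set G)).subtype ⊓
        (pPrimeCore q ↥(H ⊓ centralizer (P : Set G))).map (H ⊓ centralizer (P : Set G)).subtype) ⊔
      ⁅(pPrimeCore q ↥(H ⊓ centralizer ({z} : Set G))).map (H ⊓ centralizer ({z} : Set G)).subtype, P⁆ ≤
    (pPrimeCore q ↥H).map H.subtype := by
  classical
  haveI := hHn
  set Cz := H ⊓ centralizer ({z} : Set G) with hCz
  set CP := H ⊓ centralizer (P : Set G) with hCP
  set X := (pPrimeCore q ↥Cz).map Cz.subtype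
  set W := (pPrimeCore q ↥CP).map CP.subtype
  set M := (pPrimeCore q ↥H).map H.subtype with hM
  haveI hMn : M.Normal := Thompson.map_subtype_normal_of_characteristic H _
  have hMH : M ≤ H := map_subtype_le _
  have hMq : (Nat.card M).Coprime q :=
    Thompson.card_pPrimeCore_coprime.coprime_dvd_left (card_map_dvd _ _)
  have hMmax : ∀ N : Subgroup G, N ≤ H → H ≤ normalizer (N : Set G) → (Nat.card N).Coprime q → N ≤ M := by
    intro N hN hNn hNq x hx
    haveI : (N.subgroupOf H).Normal := (Subgroup.normal_subgroupOf_iff_le_normalizer hN).2 hNn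
    exact ⟨⟨x, hN hx⟩, Thompson.le_pPrimeCore inferInstance
      (by rwa [Nat.card_congr (subgroupOfEquivOfLe hN).toEquiv]) hx, rfl⟩
  obtain ⟨nP, hnP⟩ := IsPGroup.iff_card.mp hPp
  have hPM : (Nat.card P).Coprime (Nat.card M) := by
    rw [hnP]; exact Nat.Coprime.pow_left nP (hHp.coprime_dvd_left (card_dvd_of_le hMH)).symm
  have hPs : Group.IsSolvable P := Coprime.isSolvable_of_isNilpotent' hPp.isNilpotent
  set f := QuotientGroup.mk' M with hf
  have hker : f.ker = M := QuotientGroup.ker_mk' M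
  have hcard : ∀ A : Subgroup G, (Nat.card A).Coprime q → (Nat.card (A.map f)).Coprime q :=
    fun A hA => hA.coprime_dvd_left (card_map_dvd _ _)
  have hlift : ∀ (A : Subgroup G), (Nat.card A).Coprime (Nat.card M) → Group.IsSolvable A →
      ∀ y ∈ H.map f ⊓ centralizer ((A.map f : Subgroup (G ⧸ M)) : Set (G ⧸ M)),
        y ∈ (H ⊓ centralizer (A : Set G)).map f := by
    rintro A hA hAs y ⟨⟨h, hh, rfl⟩, hy⟩
    obtain ⟨m, hm, hc⟩ := Coprime.exists_fixed_in_coset_of_normal A M
      (by rw [normalizer_eq_top]; exact le_top) hA (Or.inl hAs) h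
      (by rw [normalizer_eq_top]; exact mem_top h) (fun a ha => by
        rw [← hker, MonoidHom.mem_ker, map_mul, map_mul, map_mul, map_inv, map_inv,
          mem_centralizer_iff.1 hy (f a) ⟨a, ha, rfl⟩]
        group)
    refine ⟨h * m, ⟨H.mul_mem hh (hMH hm), hc⟩, ?_⟩
    rw [map_mul, (MonoidHom.mem_ker).1 (hker.ge hm), mul_one]
  have hzA : centralizer ((zpowers z : Subgroup G) : Set G) = centralizer ({z} : Set G) := by
    rw [zpowers_eq_closure, centralizer_closure]
  have hCz' : H.map f ⊓ centralizer ({f z} : Set (G ⧸ M)) ≤ Cz.map f := by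
    intro y hy
    obtain ⟨k, hk⟩ := hz
    have := hlift (zpowers z) (by rw [Nat.card_zpowers, hk]; exact (hMq.pow_right k).symm)
      (Group.isSolvable_of_comm fun a b => Subtype.ext (by
        obtain ⟨i, hi⟩ := mem_zpowers_iff.1 a.2
        obtain ⟨j, hj⟩ := mem_zpowers_iff.1 b.2
        show (a : G) * b = b * a
        rw [← hi, ← hj]; exact (Commute.zpow_zpow_self z i j).eq)) y (by
        rw [MonoidHom.map_zpowers, zpowers_eq_closure, centralizer_closure]; exact hy)
    rwa [hzA] at this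
  have hCP' : H.map f ⊓ centralizer ((P.map f : Subgroup (G ⧸ M)) : Set (G ⧸ M)) ≤ CP.map f :=
    fun y hy => hlift P hPM hPs y hy
  have hXC : Cz ≤ normalizer (X : Set G) :=
    le_normalizer.trans (Coprime.normalizer_le_normalizer_map Cz _)
  have hWC : CP ≤ normalizer (W : Set G) :=
    le_normalizer.trans (Coprime.normalizer_le_normalizer_map CP _)
  have hPC : P ≤ normalizer (Cz : Set G) :=
    Coprime.le_normalizer_inf (by rw [normalizer_eq_top]; exact le_top)
      ((show P ≤ centralizer ({z} : Set G) from fun a ha =>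
        mem_centralizer_singleton_iff.2 (mem_centralizer_iff.1 hzP a ha)).trans le_normalizer)
  have hXP : P ≤ normalizer (X : Set G) := hPC.trans (Coprime.normalizer_le_normalizer_map Cz _)
  obtain ⟨h1, h2⟩ := core_bot (G := G ⧸ M) (H.map f) (P.map f) q
    (by haveI := hPs; exact Group.isSolvable_of_surjective (f := f.subgroupMap P) (f.subgroupMap_surjective P))
    (hHn.map f (QuotientGroup.mk'_surjective M))
    ((Nat.Coprime.coprime_dvd_left (card_map_dvd _ _) (by
      rw [hnP]; exact Nat.Coprime.pow_left nP hHp.symm)).coprime_dvd_right (card_map_dvd _ _))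
    (by
      rw [← map_commutator]
      haveI := hsol
      exact Group.isSolvable_of_surjective (f := f.subgroupMap ⁅H, P⁆) (f.subgroupMap_surjective _))
    (by
      intro N hN hNn hNq
      have hcomap : N.comap f ≤ M := by
        refine hMmax _ ?_ ?_ ?_
        · refine (comap_mono hN).trans ?_
          rw [comap_map_eq, hker]
          exact sup_le le_rfl hMH
        · intro h hh
          refine mem_normalizer_iff.2 fun x => ?_
          simp only [mem_comap, map_mul, map_inv]
          exact mem_normalizer_iff.1 (hNn ⟨h, hh, rfl⟩) (f x)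
        · rw [Thompson.card_comap_quotient]; exact hNq.mul_left hMq
      rw [← map_comap_eq_self_of_surjective (QuotientGroup.mk'_surjective M) N, Subgroup.map_eq_bot_iff, hker]
      exact hcomap)
    (f z) ⟨z, hzH, rfl⟩ (by
      refine mem_centralizer_iff.2 ?_
      rintro _ ⟨a, ha, rfl⟩
      rw [← map_mul, ← map_mul, mem_centralizer_iff.1 hzP a ha])
    (by
      obtain ⟨k, hk⟩ := hz
      obtain ⟨j, -, hj⟩ := (Nat.dvd_prime_pow (Fact.out : q.Prime)).1 (hk ▸ orderOf_map_dvd f z)
      exact ⟨j, hj⟩)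
    (X.map f) (W.map f)
    (le_inf (map_mono ((map_subtype_le _).trans inf_le_left)) (by
      rintro _ ⟨x, hx, rfl⟩
      rw [mem_centralizer_singleton_iff, ← map_mul, ← map_mul,
        mem_centralizer_singleton_iff.1 ((map_subtype_le _ hx : x ∈ Cz)).2]))
    (hcard X (Thompson.card_pPrimeCore_coprime.coprime_dvd_left (card_map_dvd _ _)))
    (hCz'.trans (map_le_normalizer_map f hXC)) (map_le_normalizer_map f hXP)
    (le_inf (map_mono ((map_subtype_le _).trans inf_le_left)) (by
      rintro _ ⟨x, hx, rfl⟩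
      refine mem_centralizer_iff.2 ?_
      rintro _ ⟨a, ha, rfl⟩
      rw [← map_mul, ← map_mul, mem_centralizer_iff.1 ((map_subtype_le _ hx : x ∈ CP)).2 a ha]))
    (hcard W (Thompson.card_pPrimeCore_coprime.coprime_dvd_left (card_map_dvd _ _)))
    (hCP'.trans (map_le_normalizer_map f hWC))
  refine sup_le ?_ ?_
  · rw [← hker, ← Subgroup.map_eq_bot_iff, eq_bot_iff, ← h1]
    exact Subgroup.map_inf_le _ _ f
  · rw [← hker, ← Subgroup.map_eq_bot_iff, map_commutator, h2]

end Cfsg.Agent.FG75.FlavellCore
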