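/-
Normal `p`-complements from the order of the Frattini quotient.
-/
import Cfsg.Agent.Lib.Transfer.Frobenius
import Cfsg.Agent.Lib.Coprime.Action
import Cfsg.Agent.Lib.Coprime.Hall
import Cfsg.Agent.Lib.PGroup.Basic
import Mathlib

set_option autoImplicit false
set_option linter.all false

open Cfsg

namespace Cfsg.Agent.FG75

variable {G : Type*} [Group G] [Finite G] {p : ℕ} [hp : Fact p.Prime]

/-- A `q`-element normalizing a `p`-group `P` with `|P/Φ(P)| ∣ p^d` centralizes it if `q` divides
no `p^i - 1` with `1 ≤ i ≤ d`. -/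
theorem mem_centralizer_of_frattini_index {P : Subgroup G} (hP : IsPGroup p P) {d : ℕ}
    (hd : (frattini P).index ∣ p ^ d) {q : ℕ} (hq : q.Prime) (hqp : q ≠ p)
    (h : ∀ i, 1 ≤ i → i ≤ d → ¬ q ∣ p ^ i - 1) {g : G} {k : ℕ} (hg : orderOf g = q ^ k)
    (hgN : g ∈ Subgroup.normalizer (P : Set G)) :
    g ∈ Subgroup.centralizer (P : Set G) := by
  let N := Subgroup.normalizer (P : Set G)
  let P' := P.subgroupOf N
  let Φ : Subgroup N := ((frattini P).map P.subtype).subgroupOf N
  have hΦle : (frattini P).map P.subtype ≤ N :=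
    (Subgroup.map_subtype_le _).trans Subgroup.le_normalizer
  haveI hΦn : Φ.Normal := Subgroup.normal_subgroupOf_of_le_normalizer
    (Coprime.normalizer_le_normalizer_map P (frattini P))
  let π := QuotientGroup.mk' Φ
  let g' : N := ⟨g, hgN⟩
  have hcard : Nat.card (P'.map π) ∣ p ^ d := by
    let f : P →* P'.map π :=
      (π.comp (Subgroup.inclusion Subgroup.le_normalizer)).codRestrict _ fun x =>
        Subgroup.mem_map_of_mem π (show Subgroup.inclusion Subgroup.le_normalizer x ∈ P' from x.2)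
    have hf : Function.Surjective f := by
      rintro ⟨_, x, hx, rfl⟩
      exact ⟨⟨x.1, hx⟩, Subtype.ext rfl⟩
    have hker : frattini P ≤ f.ker := fun x hx => by
      refine MonoidHom.mem_ker.2 (Subtype.ext ?_)
      show π _ = 1
      exact (QuotientGroup.eq_one_iff _).2 (Subgroup.mem_map_of_mem P.subtype hx)
    rw [show Nat.card (P'.map π) = f.ker.index from ?_]
    · exact (Subgroup.index_dvd_of_le hker).trans hd
    · rw [Subgroup.index_ker, MonoidHom.range_eq_top.2 hf, Subgroup.card_top]
  have hpow : IsPGroup p (P'.map π) := (hP.of_equiv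
    (Subgroup.subgroupOfEquivOfLe Subgroup.le_normalizer).symm).map π
  obtain ⟨j, -, hj⟩ := (Nat.dvd_prime_pow hq).1 (hg ▸ (by
    rw [← Subgroup.orderOf_mk g hgN]
    exact orderOf_map_dvd π g' : orderOf (π g') ∣ orderOf g))
  have hgN' : π g' ∈ Subgroup.normalizer ((P'.map π : Subgroup (N ⧸ Φ)) : Set (N ⧸ Φ)) :=
    Subgroup.le_normalizer_map π ⟨g', by
      haveI : P'.Normal := Subgroup.normal_in_normalizer
      rw [Subgroup.normalizer_eq_top]; trivial, rfl⟩
  have hcent := Transfer.mem_centralizer_of_not_dvd_pow_sub_one hpow hq hqp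
    (fun i hi hdvd => h i hi ((Nat.pow_dvd_pow_iff_le_right hp.out.one_lt).1 (hdvd.trans hcard)))
    hj hgN'
  have hzN : Subgroup.zpowers g ≤ N := Subgroup.zpowers_le.2 hgN
  have hcop : (Nat.card (Subgroup.zpowers g)).Coprime (Nat.card (frattini P)) := by
    obtain ⟨n, hn⟩ := IsPGroup.iff_card.1 (hP.to_subgroup (frattini P))
    rw [Nat.card_zpowers, hg, hn]
    exact Nat.coprime_pow_primes _ _ hq hp.out hqp
  refine Coprime.le_centralizer_of_frattini (Subgroup.zpowers g) P hzN hcop ?_
    (Subgroup.mem_zpowers g)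
  rintro a ⟨m, rfl⟩ x hx
  have hxN : x ∈ N := Subgroup.le_normalizer hx
  have hc : Commute (π g') (π ⟨x, hxN⟩) := (Subgroup.mem_centralizer_iff.1 hcent _
    (Subgroup.mem_map_of_mem π (show (⟨x, hxN⟩ : N) ∈ P' from hx))).symm
  have h1 : π (g' ^ m * ⟨x, hxN⟩ * (g' ^ m)⁻¹ * (⟨x, hxN⟩ : N)⁻¹) = 1 := by
    rw [map_mul, map_mul, map_mul, map_inv, map_inv, map_zpow, (hc.zpow_left m).eq]
    group
  have h2 := (QuotientGroup.eq_one_iff _).1 h1
  simpa [Φ, Subgroup.mem_subgroupOf] using h2

omit hp in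
/-- All elements normalizing `P` of order prime to `p` centralize it, once all of prime power
order do. -/
theorem mem_centralizer_of_prime_powers {P : Subgroup G}
    (h : ∀ q : ℕ, q.Prime → q ≠ p → ∀ (g : G) (k : ℕ), orderOf g = q ^ k →
      g ∈ Subgroup.normalizer (P : Set G) → g ∈ Subgroup.centralizer (P : Set G))
    {g : G} (hgN : g ∈ Subgroup.normalizer (P : Set G)) (hgp : (orderOf g).Coprime p) :
    g ∈ Subgroup.centralizer (P : Set G) := by
  have htop : (Subgroup.centralizer (P : Set G)).subgroupOf (Subgroup.zpowers g) = ⊤ := by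
    refine Transfer.eq_top_of_prime_pow_orderOf_mem fun q hq x ⟨k, hk⟩ => ?_
    rw [Subgroup.mem_subgroupOf]
    have hord : orderOf (x : G) = q ^ k := by rw [Subgroup.orderOf_coe, hk]
    rcases Nat.eq_zero_or_pos k with hk0 | hk0
    · rw [hk0, pow_zero, orderOf_eq_one_iff] at hord
      rw [hord]; exact one_mem _
    refine h q hq ?_ x k hord ((Subgroup.zpowers_le.2 hgN) x.2)
    rintro rfl
    have h1 : q ∣ orderOf g := by
      have := orderOf_dvd_natCard x
      rw [Nat.card_zpowers] at this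
      exact ((dvd_pow_self q hk0.ne').trans (hk ▸ dvd_rfl)).trans this
    exact hq.not_dvd_one (hgp ▸ Nat.dvd_gcd h1 dvd_rfl)
  exact Subgroup.subgroupOf_eq_top.1 htop (Subgroup.mem_zpowers g)

/-- Burnside's criterion, with the Frattini quotient of the abelian Sylow subgroup. -/
theorem hasNormalPComplement_of_frattini_index (P : Sylow p G) (hP : IsMulCommutative P) {d : ℕ}
    (hd : (frattini (P : Subgroup G)).index ∣ p ^ d)
    (h : ∀ q : ℕ, q.Prime → q ∣ Nat.card G → q ≠ p → ∀ i, 1 ≤ i → i ≤ d → ¬ q ∣ p ^ i - 1) :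
    HasNormalPComplement p G := by
  set N := Subgroup.normalizer ((P : Subgroup G) : Set G)
  have hC : (Subgroup.centralizer ((P : Subgroup G) : Set G)).subgroupOf N = ⊤ := by
    rw [eq_top_iff, ← Transfer.sylow_sup_eq_top_of_coprime_mem
      (P.subtype (Subgroup.le_normalizer (H := (P : Subgroup G))))
      (C := (Subgroup.centralizer ((P : Subgroup G) : Set G)).subgroupOf N) fun z hz => ?_]
    · exact sup_le (fun x hx => P.le_centralizer hx) le_rfl
    rw [Subgroup.mem_subgroupOf]
    refine mem_centralizer_of_prime_powers (p := p) (fun q hq hqp g k hk hg => ?_) z.2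
      (by rwa [Subgroup.orderOf_coe])
    rcases Nat.eq_zero_or_pos k with hk0 | hk0
    · rw [hk0, pow_zero, orderOf_eq_one_iff] at hk
      rw [hk]; exact one_mem _
    exact mem_centralizer_of_frattini_index P.2 hd hq hqp
      (h q hq ((dvd_pow_self q hk0.ne').trans (hk ▸ orderOf_dvd_natCard g)) hqp) hk hg
  exact ⟨P, _, inferInstance,
    MonoidHom.ker_transferSylow_isComplement' P (Subgroup.subgroupOf_eq_top.mp hC)⟩

/-- The Frattini quotient of an abelian `p`-group on `r` generators has order dividing `p^r`. -/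
theorem frattini_index_dvd_pow_rank {P : Subgroup G} (hP : IsPGroup p P) :
    (frattini P).index ∣ p ^ Group.rank P := by
  letI : CommGroup (P ⧸ frattini P) :=
    { (inferInstance : Group (P ⧸ frattini P)) with
      mul_comm := fun a b => (PGroup.quotient_frattini_commute hP a b).eq }
  rw [Subgroup.index_eq_card]
  exact (card_dvd_exponent_pow_rank' (P ⧸ frattini P) fun g => PGroup.quotient_frattini_pow hP g).trans
    (pow_dvd_pow p (Group.rank_le_of_surjective (QuotientGroup.mk' (frattini P))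
      (QuotientGroup.mk'_surjective _)))

/-- A 2-group with a cyclic subgroup of index at most two has Frattini index dividing four. -/
theorem frattini_index_dvd_four {Q : Subgroup G} (hQ : IsPGroup 2 Q) (C : Subgroup Q) [hC : IsCyclic C]
    (hi : C.index ≤ 2) : (frattini Q).index ∣ 2 ^ 2 := by
  haveI : Fact (Nat.Prime 2) := ⟨Nat.prime_two⟩
  let π := QuotientGroup.mk' (frattini Q)
  have h1 : Nat.card (C.map π) ≤ 2 := by
    obtain ⟨c, hc⟩ := (Subgroup.isCyclic_iff_exists_zpowers_eq_top C).1 hC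
    rw [← hc, MonoidHom.map_zpowers, Nat.card_zpowers]
    exact Nat.le_of_dvd two_pos (orderOf_dvd_of_pow_eq_one (PGroup.quotient_frattini_pow hQ _))
  have h2 : (C.map π).index ≤ C.index := Nat.le_of_dvd (Nat.pos_of_ne_zero
    Subgroup.index_ne_zero_of_finite) (Subgroup.index_map_dvd C (QuotientGroup.mk'_surjective _))
  obtain ⟨n, hn⟩ := hQ.index (frattini Q)
  have h3 := Subgroup.card_mul_index (C.map π)
  rw [show Nat.card (Q ⧸ frattini Q) = (frattini Q).index from (Subgroup.index_eq_card _).symm,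
    hn] at h3
  rw [hn]
  refine Nat.pow_dvd_pow 2 ((Nat.pow_le_pow_iff_right (a := 2) (by norm_num)).1 ?_)
  rw [← h3]
  calc Nat.card (C.map π) * (C.map π).index ≤ 2 * 2 := Nat.mul_le_mul h1 (h2.trans hi)
    _ = 2 ^ 2 := by norm_num

end Cfsg.Agent.FG75
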