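import Mathlib
import Cfsg.Agent.S0643
import Cfsg.Agent.FGS79.RegularP
import Cfsg.Agent.OddLocal43.MetacyclicAction
import Cfsg.Agent.MetacyclicP.Arith
import Cfsg.Agent.Lib.Fusion.Normal
import Cfsg.Agent.Lib.Coprime.Action

/-!
# A strongly closed metacyclic `p`-subgroup, `p` odd, lies in every essential subgroup
-/

set_option autoImplicit false
set_option linter.all false
set_option maxHeartbeats 1600000

namespace Cfsg.Agent.FG75.MetaClosed

open Cfsg
open Cfsg.Agent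
open Cfsg.Agent.Fusion
open Cfsg.FusionSystem (normalizerIn centralizerIn)
open scoped commutatorElement

variable {p : ℕ} [hp : Fact p.Prime]

theorem cm {G : Type*} [Group G] (x y : G) : ⁅x, y⁆ ∈ commutator G := by
  rw [_root_.commutator_def]
  exact Subgroup.commutator_mem_commutator trivial trivial

/-- A finite `p`-group, `p` odd, with cyclic derived subgroup is regular. -/
theorem regular_of_cyclic_commutator {G : Type*} [Group G] [Finite G] (hp2 : p ≠ 2)
    (hG : IsPGroup p G) (hc : IsCyclic ↥(commutator G)) : Cfsg.IsRegularPGroup p G := by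
  refine (S0643.result hG).mpr fun a b => ?_
  set H := Subgroup.closure ({a, b} : Set G)
  set D := commutator ↥H with hD
  haveI : IsCyclic ↥D := by
    have h1 : D.map H.subtype ≤ commutator G := by
      rw [hD, Subgroup.map_subtype_commutator]
      exact Subgroup.commutator_mono le_top le_top
    haveI := hc
    haveI : IsCyclic ↥(D.map H.subtype) := Subgroup.isCyclic_of_le h1
    exact isCyclic_of_surjective (D.equivMapOfInjective H.subtype H.subtype_injective).symm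
      (D.equivMapOfInjective H.subtype H.subtype_injective).symm.surjective
  obtain ⟨⟨c0, hc0⟩, hgen⟩ := IsCyclic.exists_generator (α := ↥D)
  have hDgen : ∀ d ∈ D, ∃ k : ℤ, c0 ^ k = d := fun d hd => by
    obtain ⟨k, hk⟩ := Subgroup.mem_zpowers_iff.mp (hgen ⟨d, hd⟩)
    exact ⟨k, congrArg Subtype.val hk⟩
  set K := Subgroup.zpowers (c0 ^ p) with hK
  haveI hKn : K.Normal := by
    refine ⟨fun y hy g => ?_⟩
    obtain ⟨i, rfl⟩ := Subgroup.mem_zpowers_iff.mp hy
    obtain ⟨k, hk⟩ := hDgen _ ((inferInstance : D.Normal).conj_mem c0 hc0 g)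
    refine Subgroup.mem_zpowers_iff.mpr ⟨k * i, ?_⟩
    rw [← conj_zpow, ← conj_pow, ← hk]
    simp only [← zpow_natCast, ← zpow_mul]
    congr 1
    ring
  set π := QuotientGroup.mk' K with hπ
  have hπs := QuotientGroup.mk'_surjective K
  have hQ : IsPGroup p (↥H ⧸ K) := (hG.to_subgroup H).to_quotient K
  have hcp : π c0 ^ p = 1 := by
    rw [← map_pow]; exact (QuotientGroup.eq_one_iff _).mpr (Subgroup.mem_zpowers _)
  have hcomm : commutator (↥H ⧸ K) ≤ Subgroup.zpowers (π c0) := by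
    rw [commutator_def (↥H ⧸ K), ← Subgroup.map_top_of_surjective π hπs, ← Subgroup.map_commutator,
      Subgroup.map_le_iff_le_comap]
    intro d hd
    obtain ⟨k, rfl⟩ := hDgen d hd
    exact Subgroup.mem_comap.mpr (Subgroup.mem_zpowers_iff.mpr ⟨k, (map_zpow π c0 k).symm⟩)
  have hcen : commutator (↥H ⧸ K) ≤ Subgroup.center (↥H ⧸ K) := by
    have hd : Nat.card ↥(commutator (↥H ⧸ K)) ∣ p :=
      (Subgroup.card_dvd_of_le hcomm).trans (by rw [Nat.card_zpowers]; exact orderOf_dvd_of_pow_eq_one hcp)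
    rcases (Nat.dvd_prime hp.out).mp hd with h | h
    · rw [Subgroup.card_eq_one] at h; rw [h]; exact bot_le
    · exact PGroup.le_center_of_card_eq_prime hQ h
  set a' : ↥H := ⟨a, Subgroup.subset_closure (by simp)⟩
  set b' : ↥H := ⟨b, Subgroup.subset_closure (by simp)⟩
  have hab : (π a' * π b') ^ p = π a' ^ p * π b' ^ p := by
    refine PGroup.mul_pow_prime_classTwo hcen hp.out hp2 ?_
    obtain ⟨k, hk⟩ := Subgroup.mem_zpowers_iff.mp (hcomm (cm (π b') (π a')))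
    rw [← hk, ← zpow_natCast, ← zpow_mul, mul_comm, zpow_mul, zpow_natCast, hcp, one_zpow]
  have hmem : (a' ^ p * b' ^ p)⁻¹ * (a' * b') ^ p ∈ K := by
    refine (QuotientGroup.eq_one_iff _).mp ?_
    change π _ = 1
    rw [map_mul, map_inv, map_mul, map_pow, map_pow, map_pow, map_mul, hab, inv_mul_cancel]
  obtain ⟨i, hi⟩ := Subgroup.mem_zpowers_iff.mp hmem
  refine ⟨((c0 ^ i : ↥H) : G), ?_, ?_⟩
  · rw [← Subgroup.map_subtype_commutator]
    exact ⟨_, D.zpow_mem hc0 i, rfl⟩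
  · have h2 : (a' * b') ^ p = a' ^ p * b' ^ p * (c0 ^ i) ^ p := by
      rw [← zpow_natCast (c0 ^ i), ← zpow_mul, mul_comm, zpow_mul, zpow_natCast, hi, mul_inv_cancel_left]
    exact congrArg Subtype.val h2

variable {Ω : Type*} [Group Ω]

/-- Facts about a metacyclic `p`-subgroup. -/
structure Facts (p : ℕ) (P : Subgroup Ω) : Prop where
  pow_iff : ∀ (i : ℕ) (x y : Ω), x ∈ P → y ∈ P → (x ^ p ^ i = y ^ p ^ i ↔ (x * y⁻¹) ^ p ^ i = 1)
  omega : ∀ T : Set Ω, (∀ x ∈ T, x ∈ P ∧ x ^ p = 1) → T.ncard ≤ p ^ 2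
  comm_cyclic : ∃ d ∈ P, ∀ x ∈ P, ∀ y ∈ P, ∃ k : ℤ, ⁅x, y⁆ = d ^ k
  finite : Finite P
  isPGroup : IsPGroup p P

theorem facts_of_metacyclic {P : Subgroup Ω} [Finite P] (hp2 : p ≠ 2) (hP : IsPGroup p P)
    (hm : Cfsg.IsMetacyclic ↥P) : Facts p P := by
  obtain ⟨u, v, -, hder⟩ := OddLocal43.exists_generators_of_isMetacyclic hm
  have hcyc : IsCyclic ↥(commutator ↥P) := Subgroup.isCyclic_of_le hder
  have hreg := regular_of_cyclic_commutator hp2 hP hcyc
  obtain ⟨W, hW, hWmem⟩ := OddLocal43.exists_omega_of_metacyclic hp2 hP hm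
  refine ⟨fun i x y hx hy => ?_, fun T hT => ?_, ?_, inferInstance, hP⟩
  · have := FGS79.pow_eq_iff hreg (⟨x, hx⟩ : P) ⟨y, hy⟩ i
    simpa [Subtype.ext_iff] using this
  · have hsub : T ⊆ Subtype.val '' (W : Set ↥P) := fun x hx =>
      ⟨⟨x, (hT x hx).1⟩, hWmem _ (Subtype.ext (hT x hx).2), rfl⟩
    refine (Set.ncard_le_ncard hsub (Set.toFinite _)).trans ?_
    rw [Set.ncard_image_of_injective _ Subtype.val_injective]
    exact (Nat.card_coe_set_eq _).symm.trans_le hW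
  · refine ⟨(u : Ω), u.2, fun x hx y hy => ?_⟩
    obtain ⟨k, hk⟩ := Subgroup.mem_zpowers_iff.mp
      (hder (cm (⟨x, hx⟩ : P) ⟨y, hy⟩))
    exact ⟨k, (congrArg Subtype.val hk).symm⟩

/-- Normal `p`-subgroups lie in the `p`-core. -/
theorem mem_pCore {Γ : Type*} [Group Γ] (N : Subgroup Γ) (hN : N.Normal) (hNp : IsPGroup p N) :
    N ≤ pCore p Γ :=
  le_sSup ⟨hN, hNp⟩

/-- A unipotent matrix fact: `1 + x + ... + x^(p-1)` is not divisible by `p²` when `x ≡ 1 mod p`. -/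
theorem gsum_prime_ne_zero (hp2 : p ≠ 2) {x : ℤ} (hx : (p : ℤ) ∣ x - 1) :
    ¬ ((p : ℤ) ^ 2 ∣ ∑ i ∈ Finset.range p, x ^ i) := by
  intro h
  have h1 : (p : ZMod (p ^ 2)) ∣ (x : ZMod (p ^ 2)) - 1 := by
    have := map_dvd (Int.castRingHom (ZMod (p ^ 2))) hx
    simpa using this
  obtain ⟨e, he, het⟩ := MetacyclicP.gsum_eq_mul_unit (p := p) (N := 2) hp2 p h1
  have h0 : MetacyclicP.gsum (x : ZMod (p ^ 2)) p = 0 := by
    rw [show (MetacyclicP.gsum (x : ZMod (p ^ 2)) p) = ((∑ i ∈ Finset.range p, x ^ i : ℤ) : ZMod (p ^ 2)) by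
      simp [MetacyclicP.gsum]]
    rw [ZMod.intCast_zmod_eq_zero_iff_dvd]
    exact_mod_cast h
  rw [h0] at het
  have hu := MetacyclicP.isUnit_of_dvd_sub_one (p := p) (N := 2) he
  have hp0 : (p : ZMod (p ^ 2)) = 0 := hu.mul_left_eq_zero.mp het.symm
  rw [ZMod.natCast_eq_zero_iff] at hp0
  have := Nat.le_of_dvd hp.out.pos hp0
  nlinarith [hp.out.two_le]

/-- An automorphism of `p`-power order fixes an invariant subgroup of order dividing `p` pointwise. -/
theorem aut_fixes {B : Type*} [Group B] [Finite B] (φ : MulAut B) {k : ℕ} (hk : φ ^ p ^ k = 1)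
    (L : Subgroup B) (hL : ∀ y ∈ L, φ y ∈ L) (hc : Nat.card L ∣ p) : ∀ x ∈ L, φ x = x := by
  intro x hx
  by_cases h1 : x = 1
  · subst h1; exact map_one φ
  have hord : orderOf (⟨x, hx⟩ : L) = p := by
    rcases (Nat.dvd_prime hp.out).mp ((orderOf_dvd_natCard (⟨x, hx⟩ : L)).trans hc) with h | h
    · exact absurd (congrArg Subtype.val (orderOf_eq_one_iff.mp h)) h1
    · exact h
  have hgen : Subgroup.zpowers (⟨x, hx⟩ : L) = ⊤ := by
    refine Subgroup.eq_top_of_le_card _ ?_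
    rw [Nat.card_zpowers, hord]
    exact Nat.le_of_dvd hp.out.pos hc
  obtain ⟨i, hi⟩ := Subgroup.mem_zpowers_iff.mp (hgen ▸ Subgroup.mem_top (⟨φ x, hL x hx⟩ : L) :
    (⟨φ x, hL x hx⟩ : L) ∈ Subgroup.zpowers (⟨x, hx⟩ : L))
  have hi' : φ x = x ^ i := (congrArg Subtype.val hi).symm
  have hxo : orderOf x = p := by rw [← hord, Subgroup.orderOf_mk]
  have hiter : ∀ m : ℕ, (φ ^ m) x = x ^ (i ^ m) := by
    intro m
    induction m with
    | zero => simp
    | succ m ih => rw [pow_succ', MulAut.mul_apply, ih, map_zpow, hi', ← zpow_mul, pow_succ']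
  have h2 := hiter (p ^ k)
  rw [hk, MulAut.one_apply] at h2
  have h3 : ((i ^ p ^ k : ℤ) : ZMod p) = ((1 : ℤ) : ZMod p) := by
    rw [ZMod.intCast_eq_intCast_iff]
    have := zpow_eq_zpow_iff_modEq.mp (h2.symm.trans (zpow_one x).symm)
    rwa [hxo] at this
  push_cast at h3
  rw [ZMod.pow_card_pow] at h3
  rw [hi']
  conv_rhs => rw [← zpow_one x]
  rw [zpow_eq_zpow_iff_modEq, hxo, ← ZMod.intCast_eq_intCast_iff]
  push_cast
  exact h3

/-- An automorphism of `p`-power order is trivial on an invariant quotient of order dividing `p`. -/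
theorem aut_trivial_quotient {B : Type*} [Group B] [Finite B] (φ : MulAut B) {k : ℕ} (hk : φ ^ p ^ k = 1)
    (L : Subgroup B) [hn : L.Normal] (hL : ∀ y ∈ L, φ y ∈ L) (hc : Nat.card (B ⧸ L) ∣ p) (x : B) :
    x⁻¹ * φ x ∈ L := by
  have hmap : L.map (φ : B ≃* B).toMonoidHom = L :=
    Subgroup.eq_of_le_of_card_ge (by rintro _ ⟨y, hy, rfl⟩; exact hL y hy)
      (Nat.card_congr (L.equivMapOfInjective _ φ.injective).toEquiv).le
  let q : MulAut (B ⧸ L) := QuotientGroup.congr L L φ hmap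
  have hq : ∀ (m : ℕ) (y : B), (q ^ m) (QuotientGroup.mk y) = QuotientGroup.mk ((φ ^ m) y) := by
    intro m
    induction m with
    | zero => simp
    | succ m ih => intro y; rw [pow_succ', pow_succ', MulAut.mul_apply, MulAut.mul_apply, ih]; rfl
  have hqk : q ^ p ^ k = 1 := MulEquiv.ext fun z => by
    obtain ⟨y, rfl⟩ := QuotientGroup.mk_surjective z
    rw [hq, hk]; rfl
  have := aut_fixes q hqk ⊤ (fun _ _ => Subgroup.mem_top _) (by rwa [Subgroup.card_top])
    (QuotientGroup.mk x) (Subgroup.mem_top _)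
  exact QuotientGroup.eq.mp this.symm

/-- An automorphism of `p`-power order of a nontrivial `p`-group fixes a nontrivial element. -/
theorem exists_fixed {B : Type*} [Group B] [Finite B] [Nontrivial B] (hB : IsPGroup p B) (φ : MulAut B)
    {k : ℕ} (hk : φ ^ p ^ k = 1) : ∃ e : B, e ≠ 1 ∧ φ e = e := by
  classical
  have hp' : IsPGroup p (Subgroup.zpowers φ) := by
    rintro ⟨_, i, rfl⟩
    refine ⟨k, Subtype.ext ?_⟩
    show (φ ^ i) ^ p ^ k = 1
    rw [← zpow_natCast, ← zpow_mul, mul_comm, zpow_mul, zpow_natCast, hk, one_zpow]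
  obtain ⟨n, hn0, hn⟩ := hB.nontrivial_iff_card.mp inferInstance
  have hd : p ∣ Nat.card B := hn ▸ dvd_pow_self p hn0.ne'
  have hone : (1 : B) ∈ MulAction.fixedPoints (Subgroup.zpowers φ) B := fun ψ => map_one (ψ : MulAut B)
  obtain ⟨e, he, hne⟩ := hp'.exists_fixed_point_of_prime_dvd_card_of_fixed_point B hd hone
  exact ⟨e, hne.symm, he ⟨φ, Subgroup.mem_zpowers φ⟩⟩

/-- A suitable power of a transvection is the standard one. -/
theorem exists_shear {B : Type*} [Group B] [Finite B] (hBp : ∀ x : B, x ^ p = 1)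
    (hBc : ∀ x y : B, x * y = y * x) (Λ : Subgroup (MulAut B)) (u : ↥Λ) (e₁ e₂ : B)
    (h1 : (u : MulAut B) e₁ = e₁) (h2 : e₂⁻¹ * (u : MulAut B) e₂ ∈ Subgroup.zpowers e₁)
    (h3 : (u : MulAut B) e₂ ≠ e₂) :
    ∃ U : ↥Λ, (U : MulAut B) e₁ = e₁ ∧ (U : MulAut B) e₂ = e₂ * e₁ := by
  obtain ⟨i, hi⟩ := Subgroup.mem_zpowers_iff.mp h2
  have hu2 : (u : MulAut B) e₂ = e₂ * e₁ ^ i := by rw [hi, mul_inv_cancel_left]
  have hi0 : (i : ZMod p) ≠ 0 := by
    intro h
    apply h3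
    rw [ZMod.intCast_zmod_eq_zero_iff_dvd] at h
    obtain ⟨j, rfl⟩ := h
    rw [hu2, zpow_mul, zpow_natCast, hBp, one_zpow, mul_one]
  have hiter : ∀ m : ℕ, ((u : MulAut B) ^ m) e₁ = e₁ ∧ ((u : MulAut B) ^ m) e₂ = e₂ * e₁ ^ (i * m) := by
    intro m
    induction m with
    | zero => simp
    | succ m ih =>
      constructor
      · rw [pow_succ, MulAut.mul_apply, h1, ih.1]
      · rw [pow_succ, MulAut.mul_apply, hu2, map_mul, map_zpow, ih.1, ih.2, mul_assoc, ← zpow_add]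
        congr 2
        push_cast; ring
  refine ⟨u ^ ((i : ZMod p)⁻¹).val, ?_, ?_⟩
  · rw [SubmonoidClass.coe_pow]; exact (hiter _).1
  · rw [SubmonoidClass.coe_pow, (hiter _).2]
    congr 1
    conv_rhs => rw [← zpow_one e₁]
    rw [zpow_eq_zpow_iff_modEq]
    refine Int.ModEq.of_dvd (Int.natCast_dvd_natCast.mpr (orderOf_dvd_of_pow_eq_one (hBp e₁))) ?_
    rw [← ZMod.intCast_eq_intCast_iff]
    push_cast
    rw [ZMod.natCast_zmod_val, mul_inv_cancel₀ hi0]

/-- Frattini argument: lift an element centralizing the image to one normalizing a Sylow subgroup. -/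
theorem exists_lift_normalizing {Γ M : Type*} [Group Γ] [Finite Γ] [Group M] (f : Γ →* M) (P : Sylow p Γ)
    (α : Γ) (c : M) (hα : f α = c) (hc : ∀ m, c * m = m * c) :
    ∃ β : Γ, f β = c ∧ β ∈ Subgroup.normalizer ((P : Subgroup Γ) : Set Γ) := by
  let H : Subgroup Γ := ((P : Subgroup Γ).map f).comap f
  have hPH : (P : Subgroup Γ) ≤ H := Subgroup.le_comap_map f _
  have hQH : ((α • P : Sylow p Γ) : Subgroup Γ) ≤ H := by
    intro y hy
    rw [Sylow.coe_subgroup_smul, Subgroup.mem_pointwise_smul_iff_inv_smul_mem] at hy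
    refine Subgroup.mem_comap.mpr ⟨_, hy, ?_⟩
    show f (α⁻¹ * y * α) = f y
    rw [map_mul, map_mul, map_inv, hα, mul_assoc, ← hc, inv_mul_cancel_left]
  obtain ⟨h, hh⟩ := MulAction.exists_smul_eq ↥H ((α • P).subtype hQH) (P.subtype hPH)
  obtain ⟨q, hq, hqh⟩ := Subgroup.mem_map.mp (Subgroup.mem_comap.mp h.2)
  refine ⟨q⁻¹ * h * α, by rw [map_mul, map_mul, map_inv, hqh, inv_mul_cancel, one_mul, hα], ?_⟩
  have h1 : (h : Γ) • (α • P) = P := by
    refine Sylow.subtype_injective (N := H) (hP := ?_) (hQ := hPH) ?_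
    · intro y hy
      rw [Sylow.coe_subgroup_smul, Subgroup.mem_pointwise_smul_iff_inv_smul_mem] at hy
      have := hQH hy
      change (h : Γ)⁻¹ * y * (h : Γ) ∈ H at this
      have h3 := H.mul_mem (H.mul_mem h.2 this) (H.inv_mem h.2)
      simpa [mul_assoc] using h3
    · rw [← hh]
      exact (Sylow.smul_subtype hQH h).symm
  refine Sylow.smul_eq_iff_mem_normalizer.mp ?_
  rw [mul_smul, mul_smul, h1]
  exact Sylow.smul_eq_iff_mem_normalizer.mpr (Subgroup.inv_mem _ (Subgroup.le_normalizer hq))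

variable {S : Subgroup Ω} [Finite S] {F : FusionSystem S}

/-- The main step. -/
theorem le_of_automized (hp2 : p ≠ 2) (hS : IsPGroup p S) {P R : Subgroup Ω}
    (hP : F.StronglyClosed P) (hPf : Facts p P) (hc : F.IsCentric R) (hr : F.IsRadical p R)
    (haut : F.IsFullyAutomized p R) (hrec : F.IsReceptive R) : P ≤ R := by
  haveI := hPf.finite
  haveI : Finite R := finite_of_le hc.1
  haveI : Finite (MulAut R) := finite_mulAut R
  have hRN : R ≤ Subgroup.normalizer (P : Set Ω) := hc.1.trans (stronglyClosed_le_normalizer hP)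
  refine le_of_normalizer_le hS hc.1 hP.1 hRN fun g₀ hgP₀ hgN₀ => ?_
  by_contra hg₀
  -- an element `g` outside `R` whose `p`-th power is in `R`
  obtain ⟨g, hgP, hgN, hgR, hgpR⟩ : ∃ g, g ∈ P ∧ g ∈ Subgroup.normalizer (R : Set Ω) ∧ g ∉ R ∧ g ^ p ∈ R := by
    classical
    obtain ⟨k, hk⟩ := hPf.isPGroup ⟨g₀, hgP₀⟩
    have hex : ∃ j, g₀ ^ p ^ j ∈ R := ⟨k, by
      have : g₀ ^ p ^ k = 1 := by simpa using congrArg Subtype.val hk
      rw [this]; exact R.one_mem⟩
    have hspec := Nat.find_spec hex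
    have hne : Nat.find hex ≠ 0 := fun h => hg₀ (by rw [h] at hspec; simpa using hspec)
    obtain ⟨j, hj⟩ : ∃ j, Nat.find hex = j + 1 := ⟨Nat.find hex - 1, by omega⟩
    refine ⟨g₀ ^ p ^ j, P.pow_mem hgP₀ _, Subgroup.pow_mem _ hgN₀ _, Nat.find_min hex (by omega), ?_⟩
    rw [← pow_mul, ← pow_succ, ← hj]
    exact hspec
  let Γ := F.autGroup R
  let T : Subgroup Ω := P ⊓ R
  haveI : Finite ↥(P ⊓ R : Subgroup Ω) := finite_of_le (inf_le_left : P ⊓ R ≤ P)
  have hTinv : ∀ α ∈ F.autGroup R, ∀ x ∈ T, autFun α x ∈ T := fun α hα x hx => by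
    rw [← SetLike.mem_coe, ← closed_autFun_image hP hc.1 hα]
    exact ⟨x, hx, rfl⟩
  let Om : ℕ → Subgroup Ω := fun i =>
    { carrier := {x | x ∈ T ∧ x ^ p ^ i = 1}
      one_mem' := ⟨T.one_mem, one_pow _⟩
      inv_mem' := fun {x} hx => ⟨T.inv_mem hx.1, by rw [inv_pow, hx.2, inv_one]⟩
      mul_mem' := fun {x y} hx hy => ⟨T.mul_mem hx.1 hy.1, by
        have := (hPf.pow_iff i x y⁻¹ hx.1.1 (P.inv_mem hy.1.1)).mp (by rw [inv_pow, hx.2, hy.2, inv_one])
        rwa [inv_inv] at this⟩ }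
  let E : Subgroup Ω := Om 1
  have hE : ∀ x, x ∈ E ↔ x ∈ T ∧ x ^ p = 1 := fun x => by
    show (x ∈ T ∧ x ^ p ^ 1 = 1) ↔ _
    rw [pow_one]
  let E' : Subgroup ↥R := E.subgroupOf R
  have happ : ∀ (α : MulAut ↥R) (x : ↥R), autFun α (x : Ω) = (α x : Ω) := fun α x => autFun_coe α x
  have hEinv : ∀ (α : Γ) (x : ↥R), x ∈ E' → (α : MulAut ↥R) x ∈ E' := fun α x hx => by
    obtain ⟨h1, h2⟩ := (hE _).mp hx
    refine (hE _).mpr ⟨?_, ?_⟩
    · show (((α : MulAut ↥R) x : ↥R) : Ω) ∈ T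
      rw [← happ]; exact hTinv _ α.2 _ h1
    show (((α : MulAut ↥R) x : ↥R) : Ω) ^ p = 1
    have h3 : x ^ p = 1 := Subtype.ext (by simpa using h2)
    rw [← Subgroup.coe_pow, ← map_pow, h3, map_one]; rfl
  let ψ : Γ →* MulAut ↥E' :=
    { toFun := fun α =>
        { toFun := fun x => ⟨(α : MulAut ↥R) x, hEinv α x x.2⟩
          invFun := fun x => ⟨((α⁻¹ : Γ) : MulAut ↥R) x, hEinv α⁻¹ x x.2⟩
          left_inv := fun x => Subtype.ext ((α : MulAut ↥R).symm_apply_apply x)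
          right_inv := fun x => Subtype.ext ((α : MulAut ↥R).apply_symm_apply x)
          map_mul' := fun x y => Subtype.ext (map_mul (α : MulAut ↥R) (x : ↥R) y) }
      map_one' := rfl
      map_mul' := fun α β => rfl }
  haveI : Finite (MulAut ↥E') := finite_mulAut _
  have hcmem : ∀ {y : Ω}, y ∈ normalizerIn S R → ∃ α : Γ, ∀ x : ↥R, ((α : MulAut ↥R) x : Ω) = y * x * y⁻¹ :=
    fun {y} hy => ⟨⟨conjAutHom S R ⟨y, hy⟩, autInducedBy_le_autGroup hc.1 (by
      rw [← range_conjAutHom]; exact ⟨_, rfl⟩)⟩, fun x => rfl⟩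
  -- normal `p`-subgroups of the image on `E`
  have keyA : ∀ M : Subgroup ↥ψ.range, M.Normal → IsPGroup p M → ∀ y ∈ P, y ∈ Subgroup.normalizer (R : Set Ω) →
      ∀ α : Γ, (∀ x : ↥R, ((α : MulAut ↥R) x : Ω) = y * x * y⁻¹) → ψ.rangeRestrict α ∈ M → y ∈ R := by
    intro M hMn hMp y hyP hyN α hα hαM
    obtain ⟨n, hn⟩ := IsPGroup.iff_card.mp (hPf.isPGroup.to_le (inf_le_left : T ≤ P))
    let D : ℕ → Subgroup Ω := fun i => if i ≤ n then Om i else R
    have hDR : ∀ i, D i ≤ R := fun i => by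
      dsimp only [D]
      split
      · exact fun x hx => hx.1.2
      · exact le_rfl
    have hinv : ∀ i ≤ n + 1, ∀ α ∈ F.autGroup R, autFun α '' (D i : Set Ω) = (D i : Set Ω) := by
      intro i _ α hα
      by_cases h : i ≤ n
      · have hD : D i = Om i := if_pos h
        have hm : ∀ β ∈ F.autGroup R, ∀ x ∈ Om i, autFun β x ∈ Om i := fun β hβ x hx => by
          refine ⟨hTinv β hβ x hx.1, ?_⟩
          rw [← ((mem_autGroup hc.1).mp hβ).1.map_pow hx.1.2, hx.2, ((mem_autGroup hc.1).mp hβ).1.map_one]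
        rw [hD]
        refine Set.Subset.antisymm ?_ fun x hx => ⟨autFun α⁻¹ x, hm _ (inv_mem hα) x hx, ?_⟩
        · rintro _ ⟨x, hx, rfl⟩; exact hm α hα x hx
        · have := autFun_mul α α⁻¹ (hx.1.2 : x ∈ R)
          rw [mul_inv_cancel, autFun_one (hx.1.2 : x ∈ R)] at this
          exact this.symm
      · have hD : D i = R := if_neg h
        rw [hD]; exact autFun_image α
    have hD0 : D 0 = ⊥ := by
      show (if 0 ≤ n then Om 0 else R) = ⊥
      rw [if_pos (Nat.zero_le n), eq_bot_iff]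
      intro x hx
      have : x ^ p ^ 0 = 1 := hx.2
      simpa using this
    have hDn : D (n + 1) = R := if_neg (by omega)
    let U : Subgroup Γ :=
      { carrier := {β | ∀ x : ↥R, (x : Ω)⁻¹ * ((β : MulAut ↥R) x : Ω) ∈ T}
        one_mem' := fun x => by simp [T.one_mem]
        mul_mem' := fun {β γ} hb hg x => by
          have := T.mul_mem (hg x) (hb ((γ : MulAut ↥R) x))
          simpa [mul_assoc] using this
        inv_mem' := fun {β} hb x => by
          have := T.inv_mem (hb (((β : MulAut ↥R))⁻¹ x))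
          simpa using this }
    have hUn : U.Normal := by
      refine ⟨fun β hb γ x => ?_⟩
      have h1 := hTinv _ γ.2 _ (hb (((γ : MulAut ↥R))⁻¹ x))
      have e : ((((γ : MulAut ↥R))⁻¹ x : ↥R) : Ω)⁻¹ * ((β : MulAut ↥R) (((γ : MulAut ↥R))⁻¹ x) : Ω) =
          (((((γ : MulAut ↥R))⁻¹ x)⁻¹ * (β : MulAut ↥R) (((γ : MulAut ↥R))⁻¹ x) : ↥R) : Ω) := rfl
      rw [e, happ, map_mul, map_inv, MulAut.apply_inv_self] at h1
      simpa using h1
    let N : Subgroup Γ := U ⊓ M.comap ψ.rangeRestrict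
    have hN : N.Normal := by
      haveI := hUn
      haveI := hMn
      exact inferInstance
    have hNp : IsPGroup p N := by
      rintro ⟨β, hβU, hβM⟩
      obtain ⟨a, ha⟩ := hMp ⟨_, hβM⟩
      have hψ : ψ.rangeRestrict (β ^ p ^ a) = 1 := by
        rw [map_pow]; exact congrArg Subtype.val ha
      have hfix : ∀ x : ↥R, (x : Ω) ∈ E → ((β ^ p ^ a : Γ) : MulAut ↥R) x = x := fun x hx => by
        have h1 : ψ (β ^ p ^ a) = 1 := congrArg Subtype.val hψ
        exact congrArg Subtype.val (MulEquiv.congr_fun h1 ⟨x, hx⟩)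
      have hU' : β ^ p ^ a ∈ U := U.pow_mem hβU _
      have hstab : β ^ p ^ a ∈ chainStab F D (n + 1) hinv hDR := by
        intro i hi x hx
        have hxR : x ∈ R := hDR _ hx
        rw [autFun_of_mem _ hxR]
        set w : Ω := (((β ^ p ^ a : Γ) : MulAut ↥R) ⟨x, hxR⟩ : Ω) with hw
        have hT' : x⁻¹ * w ∈ T := hU' ⟨x, hxR⟩
        have hi' : i ≤ n := by omega
        show x⁻¹ * w ∈ (if i ≤ n then Om i else R)
        rw [if_pos hi']
        refine ⟨hT', ?_⟩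
        by_cases hin : i + 1 ≤ n
        · have hxO : x ∈ Om (i + 1) := by
            change x ∈ (if i + 1 ≤ n then Om (i + 1) else R) at hx
            rwa [if_pos hin] at hx
          have hwT : w ∈ T := by
            have := T.mul_mem hxO.1 hT'
            rwa [mul_inv_cancel_left] at this
          have hxE : x ^ p ^ i ∈ E := (hE _).mpr ⟨T.pow_mem hxO.1 _, by rw [← pow_mul, ← pow_succ]; exact hxO.2⟩
          have hpow : w ^ p ^ i = x ^ p ^ i := by
            rw [hw, ← Subgroup.coe_pow, ← map_pow,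
              hfix (⟨x, hxR⟩ ^ p ^ i) (by simpa using hxE), Subgroup.coe_pow]
          have h2 := (hPf.pow_iff i w x hwT.1 hxO.1.1).mp hpow
          rw [show x⁻¹ * w = x⁻¹ * (w * x⁻¹) * x⁻¹⁻¹ by group, conj_pow, h2]
          group
        · obtain rfl : i = n := by omega
          have : orderOf (⟨x⁻¹ * w, hT'⟩ : T) ∣ p ^ i := hn ▸ orderOf_dvd_natCard _
          simpa using congrArg Subtype.val (orderOf_dvd_iff_pow_eq_one.mp this)
      obtain ⟨b, hb⟩ := chainStab_isPGroup (hS.to_le hc.1) D (n + 1) hinv hDR hD0 hDn ⟨_, hstab⟩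
      refine ⟨a + b, Subtype.ext ?_⟩
      have h2 : (β ^ p ^ a) ^ p ^ b = 1 := congrArg Subtype.val hb
      rw [← pow_mul, ← pow_add] at h2
      simpa using h2
    refine mem_of_normal_pSubgroup hc hr N hN hNp ⟨hP.1 hyP, hyN⟩ α ⟨fun x => ?_, hαM⟩ hα
    rw [hα]
    refine ⟨?_, R.mul_mem (R.inv_mem x.2) (conj_mem_of_mem_normalizer hyN x.2)⟩
    have h1 := conj_mem_of_mem_normalizer (hRN (R.inv_mem x.2)) hyP
    have h2 := P.mul_mem h1 (P.inv_mem hyP)
    simpa [mul_assoc] using h2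
  obtain ⟨γ, hγ⟩ := hcmem ⟨hP.1 hgP, hgN⟩
  set u : ↥ψ.range := ψ.rangeRestrict γ with hu_def
  have hu : ∀ M : Subgroup ↥ψ.range, M.Normal → IsPGroup p M → u ∉ M := fun M h1 h2 h3 =>
    hgR (keyA M h1 h2 g hgP hgN γ hγ h3)
  have hu_app : ∀ x : ↥E', (((u : MulAut ↥E') x : ↥R) : Ω) = g * (x : ↥R) * g⁻¹ := fun x => hγ x.1
  have hgT : g ^ p ∈ T := ⟨P.pow_mem hgP p, hgpR⟩
  -- abelian action of `T` is trivial on `E`
  have hE'card : Nat.card ↥E' ≤ p ^ 2 := by
    rw [Nat.card_congr (Subgroup.subgroupOfEquivOfLe (fun x (hx : x ∈ E) => hx.1.2)).toEquiv]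
    exact (Nat.card_coe_set_eq _).trans_le (hPf.omega (E : Set Ω) fun x hx => ⟨hx.1.1, ((hE x).mp hx).2⟩)
  have hE'p : IsPGroup p ↥E' := (hS.to_le hc.1).to_subgroup E'
  -- `u` has `p`-power order
  have hupow : ∃ k, u ^ p ^ k = 1 := by
    obtain ⟨k, hk⟩ := hPf.isPGroup ⟨g, hgP⟩
    have hg1 : g ^ p ^ k = 1 := by simpa using congrArg Subtype.val hk
    refine ⟨k, Subtype.ext (MulEquiv.ext fun x => Subtype.ext (Subtype.ext ?_))⟩
    have : ∀ m : ℕ, ((((u : MulAut ↥E') ^ m) x : ↥R) : Ω) = g ^ m * (x : ↥R) * (g ^ m)⁻¹ := by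
      intro m
      induction m with
      | zero => simp
      | succ m ih => rw [pow_succ', MulAut.mul_apply, hu_app, ih, pow_succ', mul_inv_rev]; group
    rw [SubmonoidClass.coe_pow, this, hg1]
    simp
  have hune : u ≠ 1 := fun h => hu ⊥ inferInstance (IsPGroup.of_bot) (by rw [h]; exact one_mem _)
  -- no invariant subgroup of order `p`
  have hirr : ∀ L : Subgroup ↥E', (∀ l : ↥ψ.range, ∀ x ∈ L, (l : MulAut ↥E') x ∈ L) → Nat.card L ≠ p := by
    intro L hL hLc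
    haveI hLn : L.Normal := by
      refine ⟨fun x hx y => ?_⟩
      obtain ⟨α, hα⟩ := hcmem ⟨hc.1 (y : ↥R).2, Subgroup.le_normalizer (y : ↥R).2⟩
      have h1 := hL (ψ.rangeRestrict α) x hx
      have e : (ψ α) x = y * x * y⁻¹ := Subtype.ext (Subtype.ext (hα x.1))
      change (ψ α) x ∈ L at h1
      rwa [e] at h1
    have hq : Nat.card (↥E' ⧸ L) ∣ p := by
      obtain ⟨k, hk⟩ := IsPGroup.iff_card.mp hE'p
      have h1 := Subgroup.card_mul_index L
      rw [hLc, hk] at h1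
      rw [← Subgroup.index_eq_card]
      have hk2 : k ≤ 2 := (Nat.pow_le_pow_iff_right hp.out.one_lt).mp (hk ▸ hE'card)
      have h2 : p * L.index ∣ p * p := by
        rw [h1, ← pow_two]; exact pow_dvd_pow p hk2
      exact Nat.dvd_of_mul_dvd_mul_left hp.out.pos h2
    let M : Subgroup ↥ψ.range :=
      { carrier := {l | (∀ x ∈ L, (l : MulAut ↥E') x = x) ∧ ∀ x : ↥E', x⁻¹ * (l : MulAut ↥E') x ∈ L}
        one_mem' := ⟨fun x _ => rfl, fun x => by simp⟩
        mul_mem' := fun {l m} hl hm => ⟨fun x hx => by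
            rw [Subgroup.coe_mul, MulAut.mul_apply, hm.1 x hx, hl.1 x hx],
          fun x => by
            have := L.mul_mem (hm.2 x) (hl.2 ((m : MulAut ↥E') x))
            simpa [mul_assoc] using this⟩
        inv_mem' := fun {l} hl => ⟨fun x hx => by
            have h := congrArg (⇑((l : MulAut ↥E')⁻¹ : MulAut ↥E')) (hl.1 x hx)
            exact h.symm.trans ((l : MulAut ↥E').symm_apply_apply x),
          fun x => by
            have := L.inv_mem (hl.2 ((l : MulAut ↥E')⁻¹ x))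
            simpa using this⟩ }
    have hMn : M.Normal := by
      refine ⟨fun l hl m => ⟨fun x hx => ?_, fun x => ?_⟩⟩
      · simp only [Subgroup.coe_mul, Subgroup.coe_inv, MulAut.mul_apply]
        have hx' : (m : MulAut ↥E')⁻¹ x ∈ L := hL m⁻¹ x hx
        rw [hl.1 _ hx', MulAut.apply_inv_self]
      · simp only [Subgroup.coe_mul, Subgroup.coe_inv, MulAut.mul_apply]
        have h := hL m _ (hl.2 ((m : MulAut ↥E')⁻¹ x))
        rw [map_mul, map_inv, MulAut.apply_inv_self] at h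
        exact h
    have hMp : IsPGroup p M := by
      intro l
      refine ⟨1, Subtype.ext (Subtype.ext (MulEquiv.ext fun x => ?_))⟩
      obtain ⟨c, hc⟩ : ∃ c, c = x⁻¹ * ((l : ↥ψ.range) : MulAut ↥E') x := ⟨_, rfl⟩
      have hcL : c ∈ L := hc ▸ l.2.2 x
      have hit : ∀ m : ℕ, (((l : ↥ψ.range) : MulAut ↥E') ^ m) x = x * c ^ m := by
        intro m
        induction m with
        | zero => simp
        | succ m ih =>
          rw [pow_succ', MulAut.mul_apply, ih, map_mul, map_pow, l.2.1 c hcL, pow_succ', ← mul_assoc]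
          congr 1
          rw [hc, mul_inv_cancel_left]
      have hcp : c ^ p = 1 := by
        have : orderOf (⟨c, hcL⟩ : L) ∣ p := hLc ▸ orderOf_dvd_natCard _
        simpa using congrArg Subtype.val (orderOf_dvd_iff_pow_eq_one.mp this)
      rw [pow_one]
      simp only [Subgroup.coe_pow, hit, hcp, mul_one]
      rfl
    refine hu M hMn hMp ?_
    obtain ⟨k, hk⟩ := hupow
    have hk' : (u : MulAut ↥E') ^ p ^ k = 1 := by rw [← SubmonoidClass.coe_pow, hk]; rfl
    exact ⟨fun x hx => aut_fixes _ hk' L (fun y hy => hL u y hy) (dvd_of_eq hLc) x hx,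
      fun x => aut_trivial_quotient _ hk' L (fun y hy => hL u y hy) hq x⟩
  -- `E` has order `p²`, is abelian
  have hbot : ∀ x, x ∈ P → x ^ p = 1 → x ∈ R → x ∈ E := fun x h1 h2 h3 => (hE x).mpr ⟨⟨h1, h3⟩, h2⟩
  have hEcard : Nat.card ↥E' = p ^ 2 := by
    obtain ⟨k, hk⟩ := IsPGroup.iff_card.mp hE'p
    have hk2 : k ≤ 2 := (Nat.pow_le_pow_iff_right hp.out.one_lt).mp (hk ▸ hE'card)
    rcases lt_or_eq_of_le hk2 with h | h
    · exfalso
      apply hune
      obtain ⟨a, ha⟩ := hupow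
      refine Subtype.ext (MulEquiv.ext fun x => ?_)
      refine aut_fixes _ (by rw [← SubmonoidClass.coe_pow, ha]; rfl) ⊤ (fun _ _ => Subgroup.mem_top _) ?_ x
        (Subgroup.mem_top x)
      rw [Subgroup.card_top, hk]
      exact (pow_dvd_pow p (show k ≤ 1 by omega)).trans (dvd_of_eq (pow_one p))
    · rw [hk, h]
  have hEp : ∀ x : ↥E', x ^ p = 1 := fun x => Subtype.ext (Subtype.ext (by simpa using ((hE _).mp x.2).2))
  have hEcomm : ∀ x y : ↥E', x * y = y * x := fun x y =>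
    (IsPGroup.isMulCommutative_of_card_eq_prime_sq hEcard).is_comm.comm x y
  have hnt : Nontrivial ↥E' := Finite.one_lt_card_iff_nontrivial.mp (by rw [hEcard]; nlinarith [hp.out.two_le])
  -- a fixed point `e₁` of `u` and its line
  obtain ⟨e₁, he₁, he₁u⟩ : ∃ e₁ : ↥E', e₁ ≠ 1 ∧ (u : MulAut ↥E') e₁ = e₁ := by
    obtain ⟨a, ha⟩ := hupow
    exact exists_fixed hE'p _ (by rw [← SubmonoidClass.coe_pow, ha]; rfl)
  set L₁ := Subgroup.zpowers e₁ with hL₁
  have hL₁c : Nat.card L₁ = p := by rw [hL₁, Nat.card_zpowers, orderOf_eq_prime (hEp e₁) he₁]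
  obtain ⟨l, hl⟩ : ∃ l : ↥ψ.range, (l : MulAut ↥E') e₁ ∉ L₁ := by
    by_contra hno
    push Not at hno
    refine hirr L₁ (fun l x hx => ?_) hL₁c
    obtain ⟨i, rfl⟩ := Subgroup.mem_zpowers_iff.mp hx
    rw [map_zpow]
    exact Subgroup.zpow_mem _ (hno l) i
  set e₂ := (l : MulAut ↥E') e₁ with he₂def
  have he₂ : e₂ ≠ 1 := fun h => hl (h ▸ one_mem _)
  set L₂ := Subgroup.zpowers e₂
  have hL₂c : Nat.card L₂ = p := by
    rw [show L₂ = Subgroup.zpowers e₂ from rfl, Nat.card_zpowers, orderOf_eq_prime (hEp e₂) he₂]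
  have hspan : ∀ x : ↥E', ∃ a b : ℤ, x = e₁ ^ a * e₂ ^ b := by
    intro x
    have hdis : L₁ ⊓ L₂ = ⊥ := by
      by_contra h
      have h1 : Nat.card ↥(L₁ ⊓ L₂) ∣ p := hL₂c ▸ Subgroup.card_dvd_of_le inf_le_right
      rcases (Nat.dvd_prime hp.out).mp h1 with h1 | h1
      · exact h (Subgroup.card_eq_one.mp h1)
      · have h2 : L₁ ⊓ L₂ = L₂ := Subgroup.eq_of_le_of_card_ge inf_le_right (by rw [h1, hL₂c])
        exact hl (h2.ge (Subgroup.mem_zpowers e₂)).1
    have hsurj : Function.Surjective (fun q : L₁ × L₂ => (q.1 : ↥E') * q.2) := by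
      refine ((Nat.bijective_iff_injective_and_card _).mpr ⟨?_, ?_⟩).2
      · rintro ⟨a, b⟩ ⟨c, d⟩ h
        simp only at h
        have h1 : (c : ↥E')⁻¹ * a = d * (b : ↥E')⁻¹ := by
          rw [eq_mul_inv_iff_mul_eq, mul_assoc, h, inv_mul_cancel_left]
        have h2 : (c : ↥E')⁻¹ * a ∈ L₁ ⊓ L₂ :=
          ⟨L₁.mul_mem (L₁.inv_mem c.2) a.2, h1 ▸ L₂.mul_mem d.2 (L₂.inv_mem b.2)⟩
        rw [hdis, Subgroup.mem_bot] at h2
        exact Prod.ext (Subtype.ext (inv_mul_eq_one.mp h2).symm)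
          (Subtype.ext (mul_inv_eq_one.mp (h1.symm.trans h2)).symm)
      · rw [Nat.card_prod, hL₁c, hL₂c, hEcard, sq]
    obtain ⟨⟨⟨a, ha⟩, ⟨b, hb⟩⟩, rfl⟩ := hsurj x
    obtain ⟨i, rfl⟩ := Subgroup.mem_zpowers_iff.mp ha
    obtain ⟨j, rfl⟩ := Subgroup.mem_zpowers_iff.mp hb
    exact ⟨i, j, rfl⟩
  have hquot : ∀ x : ↥E', x⁻¹ * (u : MulAut ↥E') x ∈ L₁ := by
    obtain ⟨a, ha⟩ := hupow
    intro x
    haveI : L₁.Normal := ⟨fun x hx y => by rwa [hEcomm y x, mul_inv_cancel_right]⟩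
    refine aut_trivial_quotient _ (show (u : MulAut ↥E') ^ p ^ a = 1 by rw [← SubmonoidClass.coe_pow, ha]; rfl) L₁ (fun y hy => ?_) ?_ x
    · obtain ⟨i, rfl⟩ := Subgroup.mem_zpowers_iff.mp hy
      rw [map_zpow, he₁u]
      exact Subgroup.zpow_mem _ (Subgroup.mem_zpowers _) i
    · have h1 := Subgroup.card_mul_index L₁
      rw [hL₁c, hEcard, sq] at h1
      rw [← Subgroup.index_eq_card, Nat.eq_of_mul_eq_mul_left hp.out.pos h1]
  -- minus the identity is induced
  obtain ⟨ι, hι⟩ : ∃ ι : ↥ψ.range, ∀ x : ↥E', (ι : MulAut ↥E') x = x⁻¹ := by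
    obtain ⟨U, hU1, hU2⟩ : ∃ U : ↥ψ.range, (U : MulAut ↥E') e₁ = e₁ ∧ (U : MulAut ↥E') e₂ = e₂ * e₁ :=
      exists_shear hEp hEcomm ψ.range u e₁ e₂ he₁u (hquot e₂) fun h => hune (Subtype.ext (MulEquiv.ext fun x => by
        obtain ⟨a, b, rfl⟩ := hspan x
        rw [map_mul, map_zpow, map_zpow, he₁u, h]
        rfl))
    obtain ⟨V, hV2, hV1⟩ : ∃ V : ↥ψ.range, (V : MulAut ↥E') e₂ = e₂ ∧ (V : MulAut ↥E') e₁ = e₁ * e₂⁻¹ := by
      set v := l * u * l⁻¹ with hv
      have hv_app : ∀ x, (v : MulAut ↥E') x = (l : MulAut ↥E') ((u : MulAut ↥E') ((l : MulAut ↥E')⁻¹ x)) := fun x => rfl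
      have hv2 : (v : MulAut ↥E') e₂ = e₂ := by rw [hv_app, he₂def, MulAut.inv_apply_self, he₁u]
      have hvq : e₁⁻¹ * (v : MulAut ↥E') e₁ ∈ L₂ := by
        obtain ⟨i, hi⟩ := Subgroup.mem_zpowers_iff.mp (hquot ((l : MulAut ↥E')⁻¹ e₁))
        refine Subgroup.mem_zpowers_iff.mpr ⟨i, ?_⟩
        rw [hv_app, he₂def, ← map_zpow, hi, map_mul, map_inv, MulAut.apply_inv_self]
      obtain ⟨V, h1, h2⟩ := exists_shear hEp hEcomm ψ.range v e₂⁻¹ e₁ (by rw [map_inv, hv2])
        (by rw [Subgroup.zpowers_inv]; exact hvq) (fun h => hune (by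
          have : v = 1 := Subtype.ext (MulEquiv.ext fun x => by
            obtain ⟨a, b, rfl⟩ := hspan x
            rw [map_mul, map_zpow, map_zpow, hv2, h]
            rfl)
          rw [hv, mul_inv_eq_one, mul_eq_left] at this
          exact this))
      exact ⟨V, by rw [map_inv, inv_inj] at h1; exact h1, h2⟩
    have hW : ((U * V * U : ↥ψ.range) : MulAut ↥E') e₂ = e₁ ∧ ((U * V * U : ↥ψ.range) : MulAut ↥E') e₁ = e₂⁻¹ := by
      have h21 : e₂ * (e₁ * e₂⁻¹) = e₁ := by rw [← mul_assoc, hEcomm e₂ e₁, mul_inv_cancel_right]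
      have h12 : e₁ * (e₂ * e₁)⁻¹ = e₂⁻¹ := by rw [mul_inv_rev, mul_inv_cancel_left]
      constructor
      · rw [Subgroup.coe_mul, Subgroup.coe_mul, MulAut.mul_apply, MulAut.mul_apply, hU2, map_mul, hV2, hV1, h21, hU1]
      · rw [Subgroup.coe_mul, Subgroup.coe_mul, MulAut.mul_apply, MulAut.mul_apply, hU1, hV1, map_mul, hU1, map_inv, hU2, h12]
    refine ⟨(U * V * U) * (U * V * U), fun x => ?_⟩
    obtain ⟨a, b, rfl⟩ := hspan x
    rw [Subgroup.coe_mul, MulAut.mul_apply]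
    simp only [map_mul, map_zpow, hW.1, hW.2, map_inv]
    rw [inv_zpow, inv_zpow, ← mul_inv_rev, hEcomm (e₂ ^ b)]
  -- no invariant proper nontrivial subgroup
  have hirr' : ∀ A : Subgroup ↥E', (∀ l : ↥ψ.range, ∀ x ∈ A, (l : MulAut ↥E') x ∈ A) → A = ⊥ ∨ A = ⊤ := by
    intro A hA
    obtain ⟨k, hk, hk'⟩ := (Nat.dvd_prime_pow hp.out).mp (hEcard ▸ Subgroup.card_subgroup_dvd_card A)
    interval_cases k
    · exact Or.inl (Subgroup.card_eq_one.mp (by simpa using hk'))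
    · exact absurd (by simpa using hk') (hirr A hA)
    · exact Or.inr ((Subgroup.card_eq_iff_eq_top A).mp (hk'.trans hEcard.symm))
  have hmem_range : ∀ (A : Subgroup ↥E'), (∀ α : Γ, ∀ x ∈ A, (ψ α) x ∈ A) →
      ∀ l : ↥ψ.range, ∀ x ∈ A, (l : MulAut ↥E') x ∈ A := by
    rintro A hA ⟨_, α, rfl⟩ x hx
    exact hA α x hx
  have hER : ∀ x, x ∈ E → x ∈ R := fun x hx => hx.1.2
  -- `R` centralises `E`
  have hRC : ∀ r ∈ R, ∀ x ∈ E, r * x = x * r := by
    let A : Subgroup ↥E' := (Subgroup.center ↥R).subgroupOf E'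
    have hAinv : ∀ α : Γ, ∀ x ∈ A, (ψ α) x ∈ A := fun α x hx => by
      show ((α : MulAut ↥R) (x : ↥R)) ∈ Subgroup.center ↥R
      rw [← Subgroup.characteristic_iff_map_eq.mp (inferInstance : (Subgroup.center ↥R).Characteristic) (α : MulAut ↥R)]
      exact ⟨_, hx, rfl⟩
    rcases hirr' A (hmem_range A hAinv) with h | h
    · exfalso
      haveI : Nontrivial ↥E' := hnt
      have hEn : E'.Normal := by
        refine ⟨fun x hx r => ?_⟩
        obtain ⟨α, hα⟩ := hcmem ⟨hc.1 r.2, Subgroup.le_normalizer r.2⟩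
        have := hEinv α x hx
        rwa [show (α : MulAut ↥R) x = r * x * r⁻¹ from Subtype.ext (hα x)] at this
      haveI := hEn
      have := PGroup.inf_center_ne_bot (hS.to_le hc.1) ((Subgroup.nontrivial_iff_ne_bot E').mp hnt)
      apply this
      rw [eq_bot_iff]
      rintro x ⟨hx1, hx2⟩
      have : (⟨x, hx1⟩ : ↥E') ∈ A := hx2
      rw [h, Subgroup.mem_bot] at this
      exact Subgroup.mem_bot.mpr (congrArg Subtype.val this)
    · intro r hr' x hx
      have hxA : (⟨⟨x, hER x hx⟩, hx⟩ : ↥E') ∈ A := h ▸ Subgroup.mem_top _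
      exact congrArg Subtype.val (Subgroup.mem_center_iff.mp hxA ⟨r, hr'⟩)
  -- `T` is abelian
  obtain ⟨d, hdP, hd⟩ := hPf.comm_cyclic
  have hTab : ∀ x ∈ T, ∀ y ∈ T, x * y = y * x := by
    by_contra hno
    push Not at hno
    obtain ⟨x₀, hx₀, y₀, hy₀, hne⟩ := hno
    let T' : Subgroup Ω := ⁅T, T⁆
    have hT'T : T' ≤ T := Subgroup.commutator_le_self T
    let A : Subgroup ↥E' := (T'.subgroupOf R).subgroupOf E'
    have hAinv : ∀ α : Γ, ∀ x ∈ A, (ψ α) x ∈ A := by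
      intro α x hx
      show (((α : MulAut ↥R) (x : ↥R)) : Ω) ∈ T'
      have hm := ((mem_autGroup hc.1).mp α.2).1
      let J : Subgroup Ω :=
        { carrier := {y | y ∈ R ∧ autFun (α : MulAut ↥R) y ∈ T'}
          one_mem' := ⟨R.one_mem, by rw [hm.map_one]; exact T'.one_mem⟩
          mul_mem' := fun {y z} hy hz => ⟨R.mul_mem hy.1 hz.1, by rw [hm.map_mul hy.1 hz.1]; exact T'.mul_mem hy.2 hz.2⟩
          inv_mem' := fun {y} hy => ⟨R.inv_mem hy.1, by rw [hm.map_inv hy.1]; exact T'.inv_mem hy.2⟩ }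
      have hle : T' ≤ J := Subgroup.commutator_le.mpr fun y hy z hz =>
        ⟨(hT'T (Subgroup.commutator_mem_commutator hy hz)).2, by
          rw [commutatorElement_def, hm.map_mul (R.mul_mem (R.mul_mem hy.2 hz.2) (R.inv_mem hy.2)) (R.inv_mem hz.2),
            hm.map_conj hy.2 hz.2, hm.map_inv hz.2, ← commutatorElement_def]
          exact Subgroup.commutator_mem_commutator (hTinv _ α.2 _ hy) (hTinv _ α.2 _ hz)⟩
      have := (hle (show ((x : ↥R) : Ω) ∈ T' from hx)).2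
      rwa [happ] at this
    rcases hirr' A (hmem_range A hAinv) with h | h
    · -- an element of order `p` in `T'`
      have hT'p : IsPGroup p T' := hS.to_le (hT'T.trans (inf_le_right.trans hc.1))
      haveI : Finite T' := finite_of_le (hT'T.trans (inf_le_right.trans hc.1))
      haveI : Nontrivial T' := ⟨⟨⟨⁅x₀, y₀⁆, Subgroup.commutator_mem_commutator hx₀ hy₀⟩, 1, fun h1 => hne
        (commutatorElement_eq_one_iff_mul_comm.mp (congrArg Subtype.val h1))⟩⟩
      obtain ⟨k, hk0, hk⟩ := hT'p.nontrivial_iff_card.mp inferInstance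
      obtain ⟨z, hz⟩ := exists_prime_orderOf_dvd_card' p (G := T') (hk ▸ dvd_pow_self p hk0.ne')
      have hzT : (z : Ω) ∈ T := hT'T z.2
      have hzE : (z : Ω) ∈ E := (hE _).mpr ⟨hzT, by rw [← Subgroup.coe_pow, ← hz, pow_orderOf_eq_one]; rfl⟩
      have hzA : (⟨⟨z, hER _ hzE⟩, hzE⟩ : ↥E') ∈ A := z.2
      rw [h, Subgroup.mem_bot] at hzA
      have h1 : z = 1 := Subtype.ext (congrArg (fun q : ↥E' => ((q : ↥R) : Ω)) hzA)
      rw [h1, orderOf_one] at hz
      exact hp.out.one_lt.ne hz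
    · -- `E` would be cyclic
      have hle : (E' : Subgroup ↥R).map R.subtype ≤ Subgroup.zpowers d := by
        rintro _ ⟨x, hx, rfl⟩
        have hxA : (⟨x, hx⟩ : ↥E') ∈ A := h ▸ Subgroup.mem_top _
        exact (Subgroup.commutator_le.mpr fun y hy z hz => by
          obtain ⟨k, hk⟩ := hd y hy.1 z hz.1
          exact Subgroup.mem_zpowers_iff.mpr ⟨k, hk.symm⟩ : T' ≤ Subgroup.zpowers d) hxA
      haveI : IsCyclic ↥(E'.map R.subtype) := Subgroup.isCyclic_of_le hle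
      have hEc : IsCyclic ↥E' := isCyclic_of_surjective (E'.equivMapOfInjective R.subtype R.subtype_injective).symm
        (E'.equivMapOfInjective R.subtype R.subtype_injective).symm.surjective
      obtain ⟨e, he⟩ := hEc.exists_generator
      have : orderOf e = p ^ 2 := by rw [orderOf_eq_card_of_forall_mem_zpowers he, hEcard]
      have h2 := Nat.le_of_dvd hp.out.pos (this ▸ orderOf_dvd_of_pow_eq_one (hEp e))
      nlinarith [hp.out.two_le]
  -- `T = E`
  have hgx : ∀ x ∈ T, g * x * g⁻¹ ∈ T := fun x hx =>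
    ⟨conj_mem_of_mem_normalizer (P.le_normalizer hgP) hx.1, conj_mem_of_mem_normalizer hgN hx.2⟩
  have hTE : ∀ x ∈ T, x ^ p = 1 := by
    by_contra hno
    push Not at hno
    obtain ⟨x₁, hx₁, hne⟩ := hno
    let pw : ↥(Om 2) →* Ω :=
      { toFun := fun x => (x : Ω) ^ p
        map_one' := one_pow _
        map_mul' := fun x y => Commute.mul_pow (hTab _ x.2.1 _ y.2.1) p }
    let A : Subgroup ↥E' := (pw.range.subgroupOf R).subgroupOf E'
    have hAinv : ∀ α : Γ, ∀ x ∈ A, (ψ α) x ∈ A := by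
      intro α x hx
      obtain ⟨y, hy⟩ := MonoidHom.mem_range.mp (show ((x : ↥R) : Ω) ∈ pw.range from hx)
      have hm := ((mem_autGroup hc.1).mp α.2).1
      refine MonoidHom.mem_range.mpr ⟨⟨autFun (α : MulAut ↥R) y, hTinv _ α.2 _ y.2.1, ?_⟩, ?_⟩
      · show autFun (α : MulAut ↥R) (y : Ω) ^ p ^ 2 = 1
        rw [← hm.map_pow y.2.1.2, y.2.2, hm.map_one]
      · show autFun (α : MulAut ↥R) (y : Ω) ^ p = _
        change (y : Ω) ^ p = _ at hy
        rw [← hm.map_pow y.2.1.2, hy]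
        exact happ _ _
    have hAtop : A = ⊤ := by
      refine (hirr' A (hmem_range A hAinv)).resolve_left fun h => ?_
      have hord : ∃ x ∈ T, x ^ p ≠ 1 ∧ x ^ p ^ 2 = 1 := by
        obtain ⟨k, hk⟩ := hPf.isPGroup ⟨x₁, hx₁.1⟩
        classical
        have hex : ∃ j, x₁ ^ p ^ j = 1 := ⟨k, by simpa using congrArg Subtype.val hk⟩
        have hs := Nat.find_spec hex
        have h0 : 2 ≤ Nat.find hex := by
          by_contra hlt
          apply hne
          interval_cases hj : Nat.find hex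
          · simp at hs; rw [hs, one_pow]
          · simpa using hs
        obtain ⟨j, hj⟩ := Nat.exists_eq_add_of_le h0
        refine ⟨x₁ ^ p ^ j, T.pow_mem hx₁ _, ?_, ?_⟩
        · rw [← pow_mul, ← pow_succ]; exact Nat.find_min hex (by omega)
        · rw [← pow_mul, ← pow_add, add_comm j 2, ← hj]; exact hs
      obtain ⟨x, hxT, hxp, hxp2⟩ := hord
      have hxE : x ^ p ∈ E := (hE _).mpr ⟨T.pow_mem hxT p, by rw [← pow_mul, ← pow_two]; exact hxp2⟩
      have hxA : (⟨⟨x ^ p, hER _ hxE⟩, hxE⟩ : ↥E') ∈ A := MonoidHom.mem_range.mpr ⟨⟨x, hxT, hxp2⟩, rfl⟩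
      rw [h, Subgroup.mem_bot] at hxA
      exact hxp (congrArg (fun q : ↥E' => ((q : ↥R) : Ω)) hxA)
    -- `e₂` is a `p`-th power
    have he₂A : e₂ ∈ A := hAtop ▸ Subgroup.mem_top _
    obtain ⟨⟨x, hxT, hxp2⟩, hx⟩ := MonoidHom.mem_range.mp (show ((e₂ : ↥R) : Ω) ∈ pw.range from he₂A)
    change x ^ p = _ at hx
    obtain ⟨c, hc_def⟩ : ∃ c, c = g * x * g⁻¹ * x⁻¹ := ⟨_, rfl⟩
    have hcT : c ∈ T := hc_def ▸ T.mul_mem (hgx x hxT) (T.inv_mem hxT)
    have hgc : g * x * g⁻¹ = c * x := by rw [hc_def, inv_mul_cancel_right]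
    obtain ⟨b, hb⟩ : ∃ b : ↥E', b = e₂⁻¹ * (u : MulAut ↥E') e₂ := ⟨_, rfl⟩
    have hcp : c ^ p = ((b : ↥R) : Ω) := by
      rw [hc_def, Commute.mul_pow (hTab _ (hgx x hxT) _ (T.inv_mem hxT)), conj_pow, inv_pow, hx, hb,
        hEcomm e₂⁻¹]
      simp [hu_app]
    have hb1 : b ≠ 1 := fun h => hune (Subtype.ext (MulEquiv.ext fun z => by
      obtain ⟨i, j, rfl⟩ := hspan z
      rw [map_mul, map_zpow, map_zpow, he₁u, inv_mul_eq_one.mp (hb.symm.trans h) |>.symm]
      rfl))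
    have hub : (u : MulAut ↥E') b = b := by
      obtain ⟨i, hi⟩ := Subgroup.mem_zpowers_iff.mp (hb ▸ hquot e₂ : b ∈ L₁)
      rw [← hi, map_zpow, he₁u]
    obtain ⟨s, hs⟩ : ∃ s : ℤ, g * c * g⁻¹ = c ^ s := by
      obtain ⟨kc, hkc⟩ := hd g hgP x hxT.1
      rw [commutatorElement_def, ← hc_def] at hkc
      obtain ⟨t, ht⟩ : ∃ t : ℤ, g * d * g⁻¹ = d ^ t := by
        obtain ⟨t, ht⟩ := hd g hgP d hdP
        exact ⟨t + 1, by rw [zpow_add_one, ← ht, commutatorElement_def, inv_mul_cancel_right]⟩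
      exact ⟨t, by rw [hkc, ← conj_zpow, ht, ← zpow_mul, ← zpow_mul, mul_comm]⟩
    have hcp2 : c ^ p ^ 2 = 1 := by
      rw [sq, pow_mul, hcp, ← Subgroup.coe_pow, ← Subgroup.coe_pow, hEp]
      rfl
    have hcord : orderOf c = p ^ 2 := by
      refine orderOf_eq_prime_pow ?_ hcp2
      rw [pow_one, hcp]
      intro h
      exact hb1 (Subtype.ext (Subtype.ext h))
    have hs1 : (p : ℤ) ∣ s - 1 := by
      have h1 : ((b : ↥R) : Ω) ^ s = ((b : ↥R) : Ω) := by
        have h2 := hu_app b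
        rw [hub] at h2
        rw [← zpow_natCast] at hcp
        conv_rhs => rw [h2]
        rw [← hcp, ← zpow_mul, mul_comm, zpow_mul, ← hs, conj_zpow]
      have h3 : ((b : ↥R) : Ω) ^ (s - 1) = 1 := by rw [zpow_sub_one, h1, mul_inv_cancel]
      rw [← orderOf_dvd_iff_zpow_eq_one, Subgroup.orderOf_coe, Subgroup.orderOf_coe,
        orderOf_eq_prime (hEp b) hb1] at h3
      exact h3
    have hiter : ∀ n : ℕ, g ^ n * x * (g ^ n)⁻¹ = c ^ (∑ i ∈ Finset.range n, s ^ i) * x := by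
      intro n
      induction n with
      | zero => simp
      | succ n ih =>
        rw [pow_succ', mul_inv_rev,
          show g * g ^ n * x * ((g ^ n)⁻¹ * g⁻¹) = g * (g ^ n * x * (g ^ n)⁻¹) * g⁻¹ by group, ih,
          show g * (c ^ (∑ i ∈ Finset.range n, s ^ i) * x) * g⁻¹ =
            (g * c ^ (∑ i ∈ Finset.range n, s ^ i) * g⁻¹) * (g * x * g⁻¹) by group,
          ← conj_zpow, hs, hgc, ← zpow_mul, ← mul_assoc, ← zpow_add_one, Finset.sum_range_succ',
          Finset.mul_sum]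
        simp only [pow_succ', pow_zero]
    have h1 := hiter p
    rw [hTab _ hgT _ hxT, mul_inv_cancel_right, right_eq_mul, ← orderOf_dvd_iff_zpow_eq_one, hcord] at h1
    exact gsum_prime_ne_zero hp2 hs1 (by exact_mod_cast h1)
  have hTE' : ∀ x ∈ T, x ∈ E := fun x hx => (hE x).mpr ⟨hx, hTE x hx⟩
  -- the centralizer of `E` in `P` is `E`
  have hCPE : ∀ y ∈ P, (∀ x ∈ E, y * x = x * y) → y ∈ E := by
    intro y hyP hy
    let Q : Subgroup Ω := P ⊓ Subgroup.centralizer (E : Set Ω)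
    have hQR : Q ≤ R := by
      refine le_of_normalizer_le hS hc.1 (inf_le_left.trans hP.1) ?_ ?_
      · refine Coprime.le_normalizer_inf hRN ?_
        exact fun r hr' => Subgroup.le_normalizer
          (Subgroup.mem_centralizer_iff.mpr fun x hx => (hRC r hr' x hx).symm)
      · intro z hz hzN
        obtain ⟨α, hα⟩ := hcmem ⟨hP.1 hz.1, hzN⟩
        refine keyA ⊥ inferInstance IsPGroup.of_bot z hz.1 hzN α hα ?_
        refine Subgroup.mem_bot.mpr (Subtype.ext (MulEquiv.ext fun x => Subtype.ext (Subtype.ext ?_)))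
        show (((α : MulAut ↥R) (x : ↥R)) : Ω) = _
        rw [hα]
        have := Subgroup.mem_centralizer_iff.mp hz.2 _ x.2
        change z * ((x : ↥R) : Ω) * z⁻¹ = ((x : ↥R) : Ω)
        replace this : ((x : ↥R) : Ω) * z = z * ((x : ↥R) : Ω) := this
        rw [← this, mul_inv_cancel_right]

    have hyQ : y ∈ Q := ⟨hyP, Subgroup.mem_centralizer_iff.mpr fun x hx => (hy x hx).symm⟩
    exact hTE' y ⟨hyP, hQR hyQ⟩
  -- an automorphism inverting `E` normalising `Aut_S(R)`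
  obtain ⟨-, Sg, hSg⟩ := haut
  obtain ⟨α₀, hα₀⟩ : ∃ α₀ : Γ, ψ α₀ = (ι : MulAut ↥E') := MonoidHom.mem_range.mp ι.2
  have hιc : ∀ m : MulAut ↥E', (ι : MulAut ↥E') * m = m * (ι : MulAut ↥E') := fun m =>
    MulEquiv.ext fun x => by simp [MulAut.mul_apply, hι]
  obtain ⟨β, hβι, hβn⟩ : ∃ β : Γ, ψ β = (ι : MulAut ↥E') ∧ β ∈ Subgroup.normalizer ((Sg : Subgroup Γ) : Set Γ) :=
    exists_lift_normalizing ψ Sg α₀ _ hα₀ hιc
  -- extend it to `N_S(R)`
  have hext : IsExtendable S R (autFun (β : MulAut ↥R)) (normalizerIn S R) := by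
    refine ⟨inf_le_left, fun y hy => ⟨hy.2, ?_⟩⟩
    obtain ⟨α, hα⟩ := hcmem hy
    have hαSg : α ∈ (Sg : Subgroup Γ) := by
      rw [hSg, Subgroup.mem_subgroupOf, mem_autInducedBy]
      exact ⟨y, hy.1, hα⟩
    have hconj := (Subgroup.mem_normalizer_iff.mp hβn α).mp hαSg
    replace hconj : β * α * β⁻¹ ∈ (Sg : Subgroup Γ) := hconj
    rw [hSg, Subgroup.mem_subgroupOf, mem_autInducedBy] at hconj
    obtain ⟨h, hh, hheq⟩ := hconj
    refine ⟨h, hh, fun x hx => ?_⟩
    have h1 := hheq ((β : MulAut ↥R) ⟨x, hx⟩)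
    rw [Subgroup.coe_mul, Subgroup.coe_mul, Subgroup.coe_inv, MulAut.mul_apply, MulAut.mul_apply,
      MulAut.inv_apply_self] at h1
    rw [autFun_of_mem _ hx, autFun_of_mem _ (conj_mem_of_mem_normalizer hy.2 hx), ← h1]
    congr 2
    exact Subtype.ext (hα ⟨x, hx⟩).symm
  obtain ⟨f, hf, hfR⟩ := receptive_extend hrec ((mem_autGroup hc.1).mp β.2) hext
  have hgm : g ∈ R ⊔ normalizerIn S R := Subgroup.mem_sup_right ⟨hP.1 hgP, hgN⟩
  have hfgP : f g ∈ P := Fusion92.closed_apply hP hf hgm hgP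
  have hfE : ∀ x ∈ E, f x = x⁻¹ := fun x hx => by
    rw [hfR (hER x hx), autFun_of_mem _ (hER x hx)]
    have h1 : (ψ β) (⟨⟨x, hER x hx⟩, hx⟩ : ↥E') = (⟨⟨x, hER x hx⟩, hx⟩ : ↥E')⁻¹ := by rw [hβι, hι]
    exact congrArg (fun q : ↥E' => ((q : ↥R) : Ω)) h1
  have hgE : ∀ x ∈ E, g * x * g⁻¹ ∈ E := fun x hx => (hE _).mpr ⟨hgx x hx.1, by
    rw [conj_pow, ((hE x).mp hx).2, mul_one, mul_inv_cancel]⟩
  -- `f g` acts as `g` on `E`
  have he : f g * g⁻¹ ∈ E := by
    refine hCPE _ (P.mul_mem hfgP (P.inv_mem hgP)) fun x hx => ?_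
    have hy : g⁻¹ * x * g ∈ E := by
      refine (hE _).mpr ⟨⟨?_, ?_⟩, ?_⟩
      · exact P.mul_mem (P.mul_mem (P.inv_mem hgP) hx.1.1) hgP
      · simpa using conj_mem_of_mem_normalizer (Subgroup.inv_mem _ hgN) hx.1.2
      · have := conj_pow (a := g⁻¹) (b := x) (i := p)
        rw [inv_inv] at this
        rw [this, ((hE x).mp hx).2]; group
    have h1 : f (g * (g⁻¹ * x * g) * g⁻¹) = f g * f (g⁻¹ * x * g) * (f g)⁻¹ :=
      hf.map_conj hgm (Subgroup.mem_sup_left (hER _ hy))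
    rw [show g * (g⁻¹ * x * g) * g⁻¹ = x by group, hfE x hx, hfE _ hy] at h1
    have h2 : x = f g * (g⁻¹ * x * g) * (f g)⁻¹ := by
      have h3 := congrArg (·⁻¹) h1
      simpa [mul_assoc] using h3
    calc f g * g⁻¹ * x = (f g * (g⁻¹ * x * g) * (f g)⁻¹) * (f g * g⁻¹) := by group
      _ = x * (f g * g⁻¹) := by rw [← h2]
  have hz : g ^ p ∈ E := hTE' _ hgT
  have hfz : f (g ^ p) = g ^ p := by
    rw [hf.map_pow hgm]
    have := (hPf.pow_iff 1 (f g) g hfgP hgP).mpr (by rw [pow_one]; exact ((hE _).mp he).2)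
    rwa [pow_one] at this
  have hz1 : g ^ p = 1 := by
    have h1 := (hfE _ hz).symm.trans hfz
    have h2 : (g ^ p) ^ 2 = 1 := by rw [sq]; nth_rewrite 1 [← h1]; exact inv_mul_cancel _
    have h3 := ((hE _).mp hz).2
    have h4 := Nat.dvd_gcd (orderOf_dvd_of_pow_eq_one h2) (orderOf_dvd_of_pow_eq_one h3)
    rw [show Nat.gcd 2 p = 1 from (Nat.coprime_primes Nat.prime_two hp.out).mpr hp2.symm] at h4
    exact orderOf_eq_one_iff.mp (Nat.dvd_one.mp h4)
  have hcount := hPf.omega (insert g (E : Set Ω)) (by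
    rintro x (rfl | hx)
    · exact ⟨hgP, hz1⟩
    · exact ⟨hx.1.1, ((hE x).mp hx).2⟩)
  haveI : Finite E := finite_of_le (fun x (hx : x ∈ E) => hc.1 hx.1.2)
  rw [Set.ncard_insert_of_notMem (fun h => hgR (hER g h)) (Set.toFinite _), ← Nat.card_coe_set_eq] at hcount
  have hcardE : Nat.card (E : Set Ω) = p ^ 2 := by
    rw [← hEcard]
    exact (Nat.card_congr (Subgroup.subgroupOfEquivOfLe (fun x (hx : x ∈ E) => hx.1.2)).toEquiv).symm
  omega

end Cfsg.Agent.FG75.MetaClosed
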