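import Mathlib
import Cfsg.Prelude.Def_Transfer
import Cfsg.Agent.Lib.PGroup.Basic
import Cfsg.Agent.Lib.PGroup.Commutator
import Cfsg.Agent.Lib.Involution.Dihedral
import Cfsg.Agent.FG75.MetaClosed

/-!
# Strongly closed generalized extraspecial subgroups: the derived subgroup is strongly closed
-/

set_option autoImplicit false
set_option linter.all false
set_option maxHeartbeats 800000

namespace Cfsg.Agent.FG75.GenExtraClosed

open Cfsg
open Cfsg.Agent
open Cfsg.Agent.Fusion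
open Cfsg.FusionSystem (normalizerIn centralizerIn)
open scoped commutatorElement

variable {p : ℕ} [hp : Fact p.Prime]

/-- A nonabelian group of order `p³` and exponent `p` is extraspecial. -/
theorem extraspecial_of {G : Type*} [Group G] [Finite G] (hcard : Nat.card G = p ^ 3)
    (hexp : ∀ x : G, x ^ p = 1) {a b : G} (hab : a * b ≠ b * a) :
    Cfsg.IsExtraspecial p G ∧ Monoid.exponent G = p := by
  have hG : IsPGroup p G := fun x => ⟨1, by rw [pow_one]; exact hexp x⟩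
  haveI : Nontrivial G := ⟨⟨a, b, fun h => hab (by rw [h])⟩⟩
  haveI := hG.center_nontrivial
  have hne : Subgroup.center G ≠ ⊤ := fun h => hab
    ((Subgroup.mem_center_iff.mp (h ▸ Subgroup.mem_top b) a))
  obtain ⟨k, hk, hck⟩ := (hG.to_subgroup (Subgroup.center G)).nontrivial_iff_card.mp inferInstance
  have hidx : (Subgroup.center G).index = p ^ (3 - k) ∧ k ≤ 3 := by
    have h := Subgroup.card_mul_index (Subgroup.center G)
    rw [hck, hcard] at h
    have hk3 : k ≤ 3 := (Nat.pow_le_pow_iff_right hp.out.one_lt).mp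
      (Nat.le_of_dvd (pow_pos hp.out.pos 3) (h ▸ dvd_mul_right _ _))
    refine ⟨Nat.eq_of_mul_eq_mul_left (pow_pos hp.out.pos k) ?_, hk3⟩
    rw [h, ← pow_add]; congr 1; omega
  have hcyc : ¬ IsCyclic (G ⧸ Subgroup.center G) := fun h => hab
    ((commutative_of_cyclic_center_quotient (QuotientGroup.mk' (Subgroup.center G)) (by simp)) a b)
  have hk1 : k = 1 := by
    rcases hidx with ⟨hi, hk3⟩
    interval_cases k
    · rfl
    · exfalso; apply hcyc
      exact isCyclic_of_prime_card (p := p) (by rw [← Subgroup.index_eq_card, hi, pow_one])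
    · exfalso; apply hne
      rw [← Subgroup.index_eq_one, hi]; rfl
  subst hk1
  rw [pow_one] at hck
  have hcle : commutator G ≤ Subgroup.center G := by
    haveI := IsPGroup.isMulCommutative_of_card_eq_prime_sq (p := p) (G := G ⧸ Subgroup.center G)
      (by rw [← Subgroup.index_eq_card, hidx.1])
    exact Subgroup.Normal.quotient_commutative_iff_commutator_le.mp this
  have hceq : commutator G = Subgroup.center G := by
    refine Subgroup.eq_of_le_of_card_ge hcle ?_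
    rcases (Nat.dvd_prime hp.out).mp (hck ▸ Subgroup.card_dvd_of_le hcle) with h | h
    · exfalso
      rw [Subgroup.card_eq_one] at h
      have := MetaClosed.cm a b
      rw [h, Subgroup.mem_bot, commutatorElement_eq_one_iff_mul_comm] at this
      exact hab this
    · rw [hck, h]
  refine ⟨⟨⟨hG, le_antisymm ?_ ?_, hceq⟩, hck⟩, ?_⟩
  · exact PGroup.frattini_le_of_quotient (p := p) hcle fun x => by rw [hexp]; exact one_mem _
  · rw [← hceq]; exact PGroup.commutator_le_frattini hG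
  · rcases (Nat.dvd_prime hp.out).mp (Monoid.exponent_dvd_of_forall_pow_eq_one hexp) with h | h
    · exfalso
      refine hab ?_
      have : ∀ x : G, x = 1 := fun x => by
        have := Monoid.pow_exponent_eq_one x
        rwa [h, pow_one] at this
      rw [this a, this b]
    · exact h

variable {Ω : Type*} [Group Ω] {S : Subgroup Ω} [Finite S] {F : FusionSystem S}

/-- The data of a counterexample. -/
theorem derived_closed (hS : IsPGroup p S) (hF : F.IsSaturated p) {P : Subgroup Ω} [Finite P]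
    (hP : F.StronglyClosed P) (hge : frattini ↥P = commutator ↥P) (hZ0 : Nat.card ↥(commutator ↥P) = p)
    (h2 : p = 2 → ¬ ∃ (A : Type) (_ : CommGroup A), (∀ a : A, a ^ 2 = 1) ∧ Nonempty (↥P ≃* DihedralGroup 4 × A))
    (hodd : p ≠ 2 → ¬ ∃ (E : Type) (_ : Group E) (A : Type) (_ : CommGroup A),
      Cfsg.IsExtraspecial p E ∧ Nat.card E = p ^ 3 ∧ Monoid.exponent E = p ∧ (∀ a : A, a ^ p = 1) ∧
        Nonempty (↥P ≃* E × A)) :
    F.StronglyClosed ((commutator ↥P).map P.subtype) := by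
  set Z0 := (commutator ↥P).map P.subtype with hZ0def
  have hPS : P ≤ S := hP.1
  have hPp : IsPGroup p P := hS.to_le hPS
  have hZ0P : Z0 ≤ P := Subgroup.map_subtype_le _
  have hZ0c : Nat.card Z0 = p := by
    rw [← hZ0]
    exact (Nat.card_congr ((commutator ↥P).equivMapOfInjective P.subtype P.subtype_injective).toEquiv).symm
  have hcomm : ∀ a ∈ P, ∀ b ∈ P, ⁅a, b⁆ ∈ Z0 := fun a ha b hb =>
    ⟨⁅(⟨a, ha⟩ : P), ⟨b, hb⟩⁆, MetaClosed.cm _ _, rfl⟩
  have hpow : ∀ a ∈ P, a ^ p ∈ Z0 := fun a ha =>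
    ⟨(⟨a, ha⟩ : P) ^ p, hge ▸ PGroup.pow_mem_frattini hPp _, rfl⟩
  have hZ0cen : ∀ s ∈ S, ∀ z ∈ Z0, s * z = z * s := by
    intro s hs z hz
    have hn : (Z0.subgroupOf S).Normal := by
      refine ⟨fun x hx t => ?_⟩
      obtain ⟨w, hw, hwx⟩ := (show ((x : ↥S) : Ω) ∈ Z0 from hx)
      have htN : (t : Ω) ∈ Subgroup.normalizer (P : Set Ω) := stronglyClosed_le_normalizer hP t.2
      let cj : ↥P ≃* ↥P :=
        { toFun := fun y => ⟨(t : Ω) * y * (t : Ω)⁻¹, conj_mem_of_mem_normalizer htN y.2⟩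
          invFun := fun y => ⟨(t : Ω)⁻¹ * y * (t : Ω), by
            simpa using conj_mem_of_mem_normalizer (Subgroup.inv_mem _ htN) y.2⟩
          left_inv := fun y => by ext; simp [mul_assoc]
          right_inv := fun y => by ext; simp [mul_assoc]
          map_mul' := fun a b => by ext; simp [mul_assoc] }
      refine ⟨cj w, ?_, ?_⟩
      · rw [← Subgroup.characteristic_iff_map_eq.mp (inferInstance : (commutator ↥P).Characteristic) cj]
        exact ⟨w, hw, rfl⟩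
      · show (t : Ω) * (w : Ω) * (t : Ω)⁻¹ = ((t * x * t⁻¹ : ↥S) : Ω)
        rw [show (w : Ω) = (x : Ω) from hwx]; rfl
    have hle := PGroup.le_center_of_card_eq_prime hS (N := Z0.subgroupOf S)
      (by rw [Nat.card_congr (Subgroup.subgroupOfEquivOfLe (hZ0P.trans hPS)).toEquiv, hZ0c])
    exact congrArg Subtype.val (Subgroup.mem_center_iff.mp (hle (x := ⟨z, hPS (hZ0P hz)⟩) hz) ⟨s, hs⟩)
  have hgen : ∀ z ∈ Z0, z ≠ 1 → orderOf z = p ∧ ∀ w ∈ Z0, ∃ i : ℤ, z ^ i = w := by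
    intro z hz hz1
    haveI : Finite Z0 := finite_of_le hZ0P
    have hord : orderOf z = p := by
      rcases (Nat.dvd_prime hp.out).mp (hZ0c ▸ Subgroup.orderOf_dvd_natCard Z0 hz) with h | h
      · exact absurd (orderOf_eq_one_iff.mp h) hz1
      · exact h
    refine ⟨hord, fun w hw => ?_⟩
    have : Subgroup.zpowers z = Z0 := Subgroup.eq_of_le_of_card_ge (Subgroup.zpowers_le.mpr hz)
      (by rw [hZ0c, Nat.card_zpowers, hord])
    exact Subgroup.mem_zpowers_iff.mp (this.ge hw)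
  refine stronglyClosed_iff.mpr ⟨hZ0P.trans hPS, fun R f hf z hzR hzZ => ?_⟩
  by_contra hyZ
  have hz1 : z ≠ 1 := fun h => hyZ (by rw [h, hf.map_one]; exact one_mem _)
  obtain ⟨hzord, hzgen⟩ := hgen z hzZ hz1
  set y := f z with hydef
  have hyP : y ∈ P := Fusion92.closed_apply hP hf hzR (hZ0P hzZ)
  -- any fused image of `z` outside `Z0` yields a map back, defined on its centralizer
  have back : ∀ y' : Ω, y' ∈ P → y' ∉ Z0 → (∃ R' f', IsMap F R' f' ∧ z ∈ R' ∧ f' z = y') →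
      ∃ g M, IsMap F M g ∧ g y' = z ∧ (∀ c ∈ P, c * y' = y' * c → c ∈ M) := by
    rintro y' hy'P hy'Z ⟨R', f', hf', hzR', hfz⟩
    have hiso : IsIso F (Subgroup.zpowers z) (Subgroup.zpowers y') f' := by
      have hm := hf'.mono (Subgroup.zpowers_le.mpr hzR')
      refine ⟨hm, Set.ext fun w => ⟨?_, fun hw => ?_⟩⟩
      · rintro ⟨u, hu, rfl⟩
        obtain ⟨i, rfl⟩ := Subgroup.mem_zpowers_iff.mp hu
        refine Subgroup.mem_zpowers_iff.mpr ⟨i, ?_⟩
        let h : ↥(Subgroup.zpowers z) →* Ω := MonoidHom.mk' (fun u => f' u) fun a b => hm.map_mul a.2 b.2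
        rw [← hfz]
        exact (map_zpow h ⟨z, Subgroup.mem_zpowers z⟩ i).symm
      · obtain ⟨i, rfl⟩ := Subgroup.mem_zpowers_iff.mp hw
        refine ⟨z ^ i, Subgroup.zpow_mem _ (Subgroup.mem_zpowers z) i, ?_⟩
        let h : ↥(Subgroup.zpowers z) →* Ω := MonoidHom.mk' (fun u => f' u) fun a b => hm.map_mul a.2 b.2
        rw [← hfz]
        exact map_zpow h ⟨z, Subgroup.mem_zpowers z⟩ i
    obtain ⟨g, hg, hgf, -⟩ := hiso.exists_inv
    have hzS : z ∈ S := hPS (hZ0P hzZ)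
    have hfc : F.IsFullyCentralized (Subgroup.zpowers z) := by
      refine ⟨Subgroup.zpowers_le.mpr hzS, fun Q _ => ?_⟩
      refine (Subgroup.card_le_of_le (inf_le_left : centralizerIn S Q ≤ S)).trans ?_
      haveI : Finite (centralizerIn S (Subgroup.zpowers z)) := finite_of_le (inf_le_left : centralizerIn S _ ≤ S)
      refine Subgroup.card_le_of_le (le_inf le_rfl fun s hs => Subgroup.mem_centralizer_iff.mpr ?_)
      rintro _ ⟨i, rfl⟩
      exact ((show Commute s z from hZ0cen s hs z hzZ).zpow_right i).eq.symm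
    obtain ⟨g', hg', hgg⟩ := receptive_extend (receptive_of_fullyCentralized hS hF hfc) hg
      (isExtendable_centralizerIn g)
    refine ⟨g', _, hg', ?_, fun c hc hcy => Subgroup.mem_sup_right ⟨hPS hc, Subgroup.mem_centralizer_iff.mpr ?_⟩⟩
    · rw [hgg (Subgroup.mem_zpowers y'), ← hfz, hgf z (Subgroup.mem_zpowers z)]
    · rintro _ ⟨i, rfl⟩
      exact ((show Commute c y' from hcy).zpow_right i).eq.symm
  -- a map with `y' ↦ z` keeps no nontrivial element of `Z0` in `Z0`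
  have clash : ∀ (y' : Ω), y' ∉ Z0 → ∀ g M, IsMap F M g → y' ∈ M → g y' = z →
      ∀ w ∈ Z0, w ∈ M → g w ∈ Z0 → w = 1 := by
    intro y' hy'Z g M hg hy'M hgy w hw hwM hgw
    by_contra hw1
    obtain ⟨-, hwgen⟩ := hgen w hw hw1
    obtain ⟨i, hi⟩ := hzgen (g w) hgw
    have h1 : g (y' ^ i) = g w := by
      let h : ↥M →* Ω := MonoidHom.mk' (fun u => g u) fun a b => hg.map_mul a.2 b.2
      rw [← hi, ← hgy]
      exact map_zpow h ⟨y', hy'M⟩ i
    have h2 : y' ^ i = w := hg.injOn (M.zpow_mem hy'M i) hwM h1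
    by_cases hip : (p : ℤ) ∣ i
    · apply hw1
      obtain ⟨j, rfl⟩ := hip
      have : g w = 1 := by rw [← hi, zpow_mul, zpow_natCast, ← hzord, pow_orderOf_eq_one, one_zpow]
      exact hg.injOn hwM M.one_mem (this.trans hg.map_one.symm)
    · apply hy'Z
      have hy'p : y' ^ p = 1 := by
        refine hg.injOn (M.pow_mem hy'M p) M.one_mem ?_
        rw [hg.map_pow hy'M, hgy, hg.map_one, ← hzord, pow_orderOf_eq_one]
      obtain ⟨u, v, huv⟩ := (Nat.prime_iff_prime_int.mp hp.out).coprime_iff_not_dvd.mpr hip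
      have : y' = w ^ v := by
        rw [← h2, ← zpow_mul]
        calc y' = y' ^ ((p : ℤ) * u + i * v) := by rw [mul_comm (p : ℤ) u, mul_comm i v, huv, zpow_one]
          _ = _ := by rw [zpow_add, zpow_mul, zpow_natCast, hy'p, one_zpow, one_mul]
      rw [this]
      exact Z0.zpow_mem hw v
  -- centralizers of fused images are elementary abelian
  have struct : ∀ y' : Ω, y' ∈ P → y' ∉ Z0 → (∃ R' f', IsMap F R' f' ∧ z ∈ R' ∧ f' z = y') →
      (∀ a ∈ P, a * y' = y' * a → ∀ b ∈ P, b * y' = y' * b → a * b = b * a) ∧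
      (∀ a ∈ P, a * y' = y' * a → a ^ p = 1) ∧ ∃ a ∈ P, a * y' ≠ y' * a := by
    intro y' hy'P hy'Z hfus
    obtain ⟨g, M, hg, hgy, hM⟩ := back y' hy'P hy'Z hfus
    have hy'M : y' ∈ M := hM y' hy'P rfl
    have hab : ∀ a ∈ P, a * y' = y' * a → ∀ b ∈ P, b * y' = y' * b → a * b = b * a := by
      intro a ha hay b hb hby
      have hga := Fusion92.closed_apply hP hg (hM a ha hay) ha
      have hgb := Fusion92.closed_apply hP hg (hM b hb hby) hb
      have hmem : ⁅a, b⁆ ∈ M := by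
        rw [commutatorElement_def]
        exact M.mul_mem (M.mul_mem (M.mul_mem (hM a ha hay) (hM b hb hby)) (M.inv_mem (hM a ha hay)))
          (M.inv_mem (hM b hb hby))
      have := clash y' hy'Z g M hg hy'M hgy _ (hcomm a ha b hb) hmem (by
        rw [commutatorElement_def, hg.map_mul (M.mul_mem (M.mul_mem (hM a ha hay) (hM b hb hby))
          (M.inv_mem (hM a ha hay))) (M.inv_mem (hM b hb hby)), hg.map_conj (hM a ha hay) (hM b hb hby),
          hg.map_inv (hM b hb hby), ← commutatorElement_def]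
        exact hcomm _ hga _ hgb)
      exact commutatorElement_eq_one_iff_mul_comm.mp this
    refine ⟨hab, fun a ha hay => ?_, ?_⟩
    · have hga := Fusion92.closed_apply hP hg (hM a ha hay) ha
      exact clash y' hy'Z g M hg hy'M hgy _ (hpow a ha) (M.pow_mem (hM a ha hay) p)
        (by rw [hg.map_pow (hM a ha hay)]; exact hpow _ hga)
    · by_contra hno
      push Not at hno
      haveI : Nontrivial ↥(commutator ↥P) :=
        Finite.one_lt_card_iff_nontrivial.mp (hZ0 ▸ hp.out.one_lt)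
      have h1 : commutator ↥P = ⊥ := by
        rw [_root_.commutator_def, eq_bot_iff, Subgroup.commutator_le]
        intro a _ b _
        rw [Subgroup.mem_bot, commutatorElement_eq_one_iff_mul_comm]
        exact Subtype.ext (hab _ a.2 (hno _ a.2) _ b.2 (hno _ b.2))
      exact (Subgroup.nontrivial_iff_ne_bot _).mp inferInstance h1
  obtain ⟨hCab, hCexp, a₀, ha₀, ha₀y⟩ := struct y hyP hyZ ⟨R, f, hf, hzR, rfl⟩
  let C : Subgroup Ω := P ⊓ Subgroup.centralizer {y}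
  have hC : ∀ c, c ∈ C ↔ c ∈ P ∧ c * y = y * c := fun c =>
    and_congr_right fun _ => by simp [Subgroup.mem_centralizer_iff, eq_comm]
  let Z : Subgroup Ω := P ⊓ Subgroup.centralizer (P : Set Ω)
  have hZ : ∀ c, c ∈ Z ↔ c ∈ P ∧ ∀ b ∈ P, b * c = c * b := fun c =>
    and_congr_right fun _ => Subgroup.mem_centralizer_iff
  have hZC : Z ≤ C := fun c hc => (hC c).mpr ⟨hc.1, (((hZ c).mp hc).2 y hyP).symm⟩
  have hzZ' : z ∈ Z := (hZ z).mpr ⟨hZ0P hzZ, fun b hb => hZ0cen b (hPS hb) z hzZ⟩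
  have hyC : y ∈ C := (hC y).mpr ⟨hyP, rfl⟩
  have hcs : ∀ c ∈ P, ∀ b ∈ P, ∀ d ∈ P, ⁅c, b * d⁆ = ⁅c, b⁆ * ⁅c, d⁆ := by
    intro c hc b hb d hd
    rw [commutatorElement_mul_right_eq_mul_conj, mul_assoc (⁅c, b⁆) b, mul_assoc (⁅c, b⁆),
      hZ0cen b (hPS hb) _ (hcomm c hc d hd)]
    group
  have hcl : ∀ b ∈ P, ∀ c ∈ P, ∀ d ∈ P, ⁅b * c, d⁆ = ⁅b, d⁆ * ⁅c, d⁆ := by
    intro b hb c hc d hd
    have h := congrArg (·⁻¹) (hcs d hd b hb c hc)
    simp only [commutatorElement_inv, mul_inv_rev] at h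
    rw [h]
    exact hZ0cen _ (hPS (hZ0P (hcomm c hc d hd))) _ (hcomm b hb d hd)
  have hcpow : ∀ b ∈ P, ∀ d ∈ P, ∀ i : ℤ, ⁅b ^ i, d⁆ = ⁅b, d⁆ ^ i := by
    intro b hb d hd i
    let h : ↥P →* Ω := MonoidHom.mk' (fun u => ⁅(u : Ω), d⁆) fun u v => hcl _ u.2 _ v.2 d hd
    exact map_zpow h ⟨b, hb⟩ i
  set w := ⁅a₀, y⁆ with hw
  have hw1 : w ≠ 1 := fun h => ha₀y (commutatorElement_eq_one_iff_mul_comm.mp h)
  obtain ⟨hword, hwgen⟩ := hgen w (hcomm a₀ ha₀ y hyP) hw1
  -- `P` is generated by `a₀` over `C`, and `C = ⟨y⟩ Z`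
  have hdec1 : ∀ b ∈ P, ∃ i : ℤ, ∃ c ∈ C, b = a₀ ^ i * c := by
    intro b hb
    obtain ⟨i, hi⟩ := hwgen _ (hcomm b hb y hyP)
    refine ⟨i, a₀ ^ (-i) * b, (hC _).mpr ⟨P.mul_mem (P.zpow_mem ha₀ _) hb, ?_⟩, by group⟩
    refine commutatorElement_eq_one_iff_mul_comm.mp ?_
    rw [hcl _ (P.zpow_mem ha₀ _) b hb y hyP, hcpow a₀ ha₀ y hyP, ← hi, ← hw, ← zpow_add, neg_add_cancel, zpow_zero]
  have hdec2 : ∀ c ∈ C, ∃ j : ℤ, ∃ ζ ∈ Z, c = y ^ j * ζ := by
    intro c hc
    obtain ⟨j, hj⟩ := hwgen _ (hcomm a₀ ha₀ c hc.1)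
    have hmem : y ^ (-j) * c ∈ C := C.mul_mem (C.zpow_mem hyC _) hc
    refine ⟨j, y ^ (-j) * c, (hZ _).mpr ⟨hmem.1, fun b hb => ?_⟩, by group⟩
    obtain ⟨i, d, hd, rfl⟩ := hdec1 b hb
    have h1 : a₀ * (y ^ (-j) * c) = (y ^ (-j) * c) * a₀ := by
      refine commutatorElement_eq_one_iff_mul_comm.mp ?_
      rw [hcs a₀ ha₀ _ (P.zpow_mem hyP _) c hc.1, ← commutatorElement_inv (y ^ (-j)), hcpow y hyP a₀ ha₀,
        ← commutatorElement_inv a₀ y, ← hw, ← hj, inv_zpow, inv_inv, ← zpow_add, neg_add_cancel, zpow_zero]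
    have h2 : d * (y ^ (-j) * c) = (y ^ (-j) * c) * d :=
      hCab d hd.1 ((hC d).mp hd).2 _ hmem.1 ((hC _).mp hmem).2
    exact ((show Commute a₀ _ from h1).zpow_left i).mul_left h2
  -- a complement of `⟨z⟩` in `Z`
  haveI : Finite Z := finite_of_le (inf_le_left : Z ≤ P)
  have hZexp : ∀ c ∈ Z, c ^ p = 1 := fun c hc => hCexp c hc.1 ((hC c).mp (hZC hc)).2
  obtain ⟨A, hAZ, hzA, hAmax⟩ : ∃ A : Subgroup Ω, A ≤ Z ∧ z ∉ A ∧ ∀ c ∈ Z, ∃ i : ℤ, z ^ i * c ∈ A := by
    classical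
    let T : Set (Subgroup Z) := {A | (⟨z, hzZ'⟩ : Z) ∉ A}
    obtain ⟨A, hA, hmax⟩ := (Set.toFinite T).exists_maximal ⟨⊥, by
      show (⟨z, hzZ'⟩ : Z) ∉ (⊥ : Subgroup Z)
      simp [Subgroup.mem_bot, hz1]⟩
    refine ⟨A.map Z.subtype, Subgroup.map_subtype_le _, fun ⟨u, hu, hu'⟩ => hA (by rwa [show (⟨z, hzZ'⟩ : Z) = u from Subtype.ext hu'.symm]), fun c hc => ?_⟩
    by_cases hcA : (⟨c, hc⟩ : Z) ∈ A
    · exact ⟨0, by rw [zpow_zero, one_mul]; exact ⟨_, hcA, rfl⟩⟩
    have hz' : (⟨z, hzZ'⟩ : Z) ∈ A ⊔ Subgroup.zpowers (⟨c, hc⟩ : Z) := by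
      by_contra h
      exact hcA ((hmax h le_sup_left) (Subgroup.mem_sup_right (Subgroup.mem_zpowers _)))
    have hcommZ : ∀ u v : Z, u * v = v * u := fun u v => Subtype.ext (((hZ v).mp v.2).2 u u.2.1)
    haveI : A.Normal := ⟨fun u hu v => by rwa [hcommZ v u, mul_inv_cancel_right]⟩
    obtain ⟨u, hu, v, hv, huv⟩ := Subgroup.mem_sup_of_normal_left.mp hz'
    obtain ⟨i, rfl⟩ := Subgroup.mem_zpowers_iff.mp hv
    have hip : ¬ (p : ℤ) ∣ i := by
      rintro ⟨j, rfl⟩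
      apply hA
      show (⟨z, hzZ'⟩ : Z) ∈ A
      have hcp : (⟨c, hc⟩ : Z) ^ ((p : ℤ) * j) = 1 := by
        rw [zpow_mul, zpow_natCast, show (⟨c, hc⟩ : Z) ^ p = 1 from Subtype.ext (by simpa using hZexp c hc), one_zpow]
      rw [← huv, hcp, mul_one]
      exact hu
    obtain ⟨s, t, hst⟩ := (Nat.prime_iff_prime_int.mp hp.out).coprime_iff_not_dvd.mpr hip
    refine ⟨-t, ⟨u ^ (-t), A.zpow_mem hu _, ?_⟩⟩
    have hkey : (⟨z, hzZ'⟩ : Z) ^ (-t) * ⟨c, hc⟩ = u ^ (-t) := by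
      rw [← huv, (show Commute u _ from hcommZ _ _).mul_zpow, mul_assoc, ← zpow_mul, ← zpow_add_one,
        show i * -t + 1 = (p : ℤ) * s by linear_combination -hst, zpow_mul, zpow_natCast,
        show (⟨c, hc⟩ : Z) ^ p = 1 from Subtype.ext (by simpa using hZexp c hc), one_zpow, mul_one]
    exact (congrArg Subtype.val hkey).symm.trans (by simp)
  have hdec3 : ∀ b ∈ P, ∃ i j k : ℤ, ∃ α ∈ A, b = a₀ ^ i * (y ^ j * (z ^ k * α)) := by
    intro b hb
    obtain ⟨i, c, hc, rfl⟩ := hdec1 b hb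
    obtain ⟨j, ζ, hζ, rfl⟩ := hdec2 c hc
    obtain ⟨k, hk⟩ := hAmax ζ hζ
    exact ⟨i, j, -k, _, hk, by group⟩
  have hzp : z ^ p = 1 := by rw [← hzord, pow_orderOf_eq_one]
  have hyp : y ^ p = 1 := hCexp y hyP rfl
  -- product decomposition when `a₀` may be chosen of order `p`
  have hprod : ∀ a ∈ P, a * y ≠ y * a → a ^ p = 1 →
      ∃ E : Subgroup Ω, E = Subgroup.closure {a, y} ∧ Finite E ∧
        Nonempty (↥P ≃* ↥E × ↥A) ∧ ∀ α ∈ A, ∀ e ∈ E, α * e = e * α := by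
    intro a ha hay hap
    set E := Subgroup.closure ({a, y} : Set Ω) with hE
    have hEP : E ≤ P := (Subgroup.closure_le P).mpr (by simp [Set.insert_subset_iff, ha, hyP])
    have haE : a ∈ E := Subgroup.subset_closure (by simp)
    have hyE : y ∈ E := Subgroup.subset_closure (by simp)
    set v := ⁅a, y⁆ with hv
    obtain ⟨hvord, hvgen⟩ := hgen v (hcomm a ha y hyP) fun h => hay (commutatorElement_eq_one_iff_mul_comm.mp h)
    have hvE : v ∈ E := by
      rw [hv, commutatorElement_def]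
      exact E.mul_mem (E.mul_mem (E.mul_mem haE hyE) (E.inv_mem haE)) (E.inv_mem hyE)
    have hzE : z ∈ E := by
      obtain ⟨i, hi⟩ := hvgen z hzZ
      exact hi ▸ E.zpow_mem hvE i
    have hca : ∀ α ∈ A, ∀ e ∈ E, α * e = e * α := fun α hα e he => (((hZ α).mp (hAZ hα)).2 e (hEP he)).symm
    have hdis : ∀ e ∈ E, e ∈ A → e = 1 := by
      intro e he heA
      let N : Subgroup Ω :=
        { carrier := {u | u ∈ P ∧ ∃ i j k : ℤ, u = a ^ i * (y ^ j * z ^ k)}
          one_mem' := ⟨P.one_mem, 0, 0, 0, by simp⟩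
          mul_mem' := fun {u u'} hu hu' => by
            obtain ⟨hu, i, j, k, rfl⟩ := hu
            obtain ⟨hu', i', j', k', rfl⟩ := hu'
            refine ⟨P.mul_mem hu hu', i + i', ?_⟩
            obtain ⟨n, hn⟩ := hzgen _ (hcomm _ (P.zpow_mem hyP j) _ (P.zpow_mem ha i'))
            refine ⟨j + j', k + k' + n, ?_⟩
            have hz' : ∀ b ∈ P, ∀ m : ℤ, Commute (z ^ m) b := fun b hb m =>
              ((show Commute z b from (hZ0cen b (hPS hb) z hzZ).symm)).zpow_left m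
            have h1 : y ^ j * a ^ i' = z ^ n * (a ^ i' * y ^ j) := by
              rw [hn, commutatorElement_def]; group
            calc a ^ i * (y ^ j * z ^ k) * (a ^ i' * (y ^ j' * z ^ k'))
                = a ^ i * y ^ j * (z ^ k * a ^ i') * (y ^ j' * z ^ k') := by group
              _ = a ^ i * y ^ j * (a ^ i' * z ^ k) * (y ^ j' * z ^ k') := by rw [(hz' _ (P.zpow_mem ha i') k).eq]
              _ = a ^ i * (y ^ j * a ^ i') * (z ^ k * y ^ j') * z ^ k' := by group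
              _ = a ^ i * (z ^ n * (a ^ i' * y ^ j)) * (y ^ j' * z ^ k) * z ^ k' := by
                rw [h1, (hz' _ (P.zpow_mem hyP j') k).eq]
              _ = a ^ i * ((a ^ i' * y ^ j * y ^ j') * z ^ n) * z ^ k * z ^ k' := by
                rw [← (hz' _ (P.mul_mem (P.mul_mem (P.zpow_mem ha i') (P.zpow_mem hyP j)) (P.zpow_mem hyP j')) n).eq]
                group
              _ = a ^ (i + i') * (y ^ (j + j') * z ^ (k + k' + n)) := by group
          inv_mem' := fun {u} hu => by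
            obtain ⟨hu, i, j, k, rfl⟩ := hu
            refine ⟨P.inv_mem hu, -i, ?_⟩
            obtain ⟨n, hn⟩ := hzgen _ (hcomm _ (P.zpow_mem hyP (-j)) _ (P.zpow_mem ha (-i)))
            refine ⟨-j, n - k, ?_⟩
            have h1 : y ^ (-j) * a ^ (-i) = z ^ n * (a ^ (-i) * y ^ (-j)) := by
              rw [hn, commutatorElement_def]; group
            have hz' : ∀ b ∈ P, ∀ m : ℤ, Commute (z ^ m) b := fun b hb m =>
              ((show Commute z b from (hZ0cen b (hPS hb) z hzZ).symm)).zpow_left m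
            calc (a ^ i * (y ^ j * z ^ k))⁻¹ = z ^ (-k) * (y ^ (-j) * a ^ (-i)) := by group
              _ = z ^ (n - k) * (a ^ (-i) * y ^ (-j)) := by rw [h1]; group
              _ = (a ^ (-i) * y ^ (-j)) * z ^ (n - k) :=
                (hz' _ (P.mul_mem (P.zpow_mem ha _) (P.zpow_mem hyP _)) _).eq
              _ = _ := by group }
      have hle : E ≤ N := (Subgroup.closure_le N).mpr (by
        rintro u (rfl | rfl)
        · exact ⟨ha, 1, 0, 0, by simp⟩
        · exact ⟨hyP, 0, 1, 0, by simp⟩)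
      obtain ⟨-, i, j, k, rfl⟩ := hle he
      have hc1 := ((hZ _).mp (hAZ heA)).2
      have hzc : ∀ b ∈ P, ∀ m : ℤ, ⁅z ^ m, b⁆ = 1 := fun b hb m => by
        rw [commutatorElement_eq_one_iff_mul_comm]
        exact (((show Commute z b from (hZ0cen b (hPS hb) z hzZ).symm)).zpow_left m).eq
      have hi0 : a ^ i = 1 := by
        have h1 : ⁅a ^ i * (y ^ j * z ^ k), y⁆ = 1 := commutatorElement_eq_one_iff_mul_comm.mpr (hc1 y hyP).symm
        rw [hcl _ (P.zpow_mem ha i) _ (P.mul_mem (P.zpow_mem hyP j) (P.zpow_mem (hZ0P hzZ) k)) y hyP,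
          hcl _ (P.zpow_mem hyP j) _ (P.zpow_mem (hZ0P hzZ) k) y hyP, hcpow a ha y hyP, hcpow y hyP y hyP,
          commutatorElement_self, one_zpow, hzc y hyP, mul_one, mul_one, ← orderOf_dvd_iff_zpow_eq_one, hvord] at h1
        obtain ⟨m, rfl⟩ := h1
        rw [zpow_mul, zpow_natCast, hap, one_zpow]
      rw [hi0, one_mul] at heA hc1 ⊢
      have hj0 : y ^ j = 1 := by
        have h1 : ⁅y ^ j * z ^ k, a⁆ = 1 := commutatorElement_eq_one_iff_mul_comm.mpr (hc1 a ha).symm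
        rw [hcl _ (P.zpow_mem hyP j) _ (P.zpow_mem (hZ0P hzZ) k) a ha, hcpow y hyP a ha, hzc a ha, mul_one,
          ← commutatorElement_inv a y, ← hv, inv_zpow, inv_eq_one, ← orderOf_dvd_iff_zpow_eq_one, hvord] at h1
        obtain ⟨m, rfl⟩ := h1
        rw [zpow_mul, zpow_natCast, hyp, one_zpow]
      rw [hj0, one_mul] at heA ⊢
      by_contra hk
      obtain ⟨-, hg2⟩ := hgen _ (Z0.zpow_mem hzZ k) hk
      obtain ⟨m, hm⟩ := hg2 z hzZ
      exact hzA (hm ▸ A.zpow_mem heA m)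
    let φ : ↥E × ↥A →* ↥P := MonoidHom.mk'
      (fun q => ⟨(q.1 : Ω) * q.2, P.mul_mem (hEP q.1.2) (hAZ q.2.2).1⟩) fun q r => Subtype.ext (by
        show ((q.1 : Ω) * r.1) * ((q.2 : Ω) * r.2) = ((q.1 : Ω) * q.2) * ((r.1 : Ω) * r.2)
        rw [mul_assoc, ← mul_assoc (r.1 : Ω), ← hca _ q.2.2 _ r.1.2]
        group)
    refine ⟨E, rfl, finite_of_le hEP, ⟨(MulEquiv.ofBijective φ ⟨?_, ?_⟩).symm⟩, hca⟩
    · rw [injective_iff_map_eq_one]
      rintro ⟨⟨e, he⟩, ⟨α, hα⟩⟩ h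
      have h1 : e * α = 1 := congrArg Subtype.val h
      have he1 : e = 1 := hdis e he (by rw [eq_inv_of_mul_eq_one_left h1]; exact A.inv_mem hα)
      rw [he1, one_mul] at h1
      subst he1 h1
      rfl
    · rintro ⟨b, hb⟩
      obtain ⟨i, j, k, α, hα, rfl⟩ := hdec3 b hb
      -- rewrite `a₀` in terms of `a`
      obtain ⟨i', c, hc, ha0⟩ : ∃ i' : ℤ, ∃ c ∈ C, a₀ ^ i = a ^ i' * c := by
        obtain ⟨m, hm⟩ := hvgen _ (hcomm _ (P.zpow_mem ha₀ i) y hyP)
        refine ⟨m, a ^ (-m) * a₀ ^ i, (hC _).mpr ⟨P.mul_mem (P.zpow_mem ha _) (P.zpow_mem ha₀ _), ?_⟩, by group⟩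
        refine commutatorElement_eq_one_iff_mul_comm.mp ?_
        rw [hcl _ (P.zpow_mem ha _) _ (P.zpow_mem ha₀ i) y hyP, hcpow a ha y hyP, ← hm, ← hv, ← zpow_add,
          neg_add_cancel, zpow_zero]
      obtain ⟨j', ζ, hζ, rfl⟩ := hdec2 c hc
      obtain ⟨k', hk'⟩ := hAmax ζ hζ
      refine ⟨(⟨a ^ i' * y ^ j' * y ^ j * z ^ k * z ^ (-k'),
        E.mul_mem (E.mul_mem (E.mul_mem (E.mul_mem (E.zpow_mem haE _) (E.zpow_mem hyE _)) (E.zpow_mem hyE _))
          (E.zpow_mem hzE _)) (E.zpow_mem hzE _)⟩, ⟨z ^ k' * ζ * α, A.mul_mem hk' hα⟩), Subtype.ext ?_⟩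
      show _ = a₀ ^ i * (y ^ j * (z ^ k * α))
      rw [ha0]
      show a ^ i' * y ^ j' * y ^ j * z ^ k * z ^ (-k') * (z ^ k' * ζ * α) = _
      have hζc : Commute (y ^ j * z ^ k) ζ := ((hZ ζ).mp hζ).2 _ (P.mul_mem (P.zpow_mem hyP j) (P.zpow_mem (hZ0P hzZ) k))
      calc a ^ i' * y ^ j' * y ^ j * z ^ k * z ^ (-k') * (z ^ k' * ζ * α)
          = a ^ i' * y ^ j' * ((y ^ j * z ^ k) * ζ) * α := by group
        _ = a ^ i' * y ^ j' * (ζ * (y ^ j * z ^ k)) * α := by rw [hζc.eq]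
        _ = _ := by group
  haveI : Finite A := finite_of_le (hAZ.trans (inf_le_left : Z ≤ P))
  haveI : IsMulCommutative A := ⟨⟨fun u v => Subtype.ext (((hZ v.1).mp (hAZ v.2)).2 u.1 (hAZ u.2).1)⟩⟩
  have hAexp : ∀ u : A, u ^ p = 1 := fun u => Subtype.ext (by simpa using hZexp u.1 (hAZ u.2))
  letI : CommGroup ↥A := { (inferInstance : Group ↥A) with mul_comm := fun u v => mul_comm' u v }
  rcases eq_or_ne p 2 with hp2 | hp2
  · -- `P ≅ D₈ × A`
    subst hp2
    obtain ⟨a, ha, hay, hap⟩ : ∃ a ∈ P, a * y ≠ y * a ∧ a ^ 2 = 1 := by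
      by_cases h : a₀ ^ 2 = 1
      · exact ⟨a₀, ha₀, ha₀y, h⟩
      refine ⟨a₀ * y, P.mul_mem ha₀ hyP, fun h' => ha₀y (mul_right_cancel (h'.trans (mul_assoc y a₀ y).symm)), ?_⟩
      obtain ⟨i, hi⟩ := hgen _ (hpow a₀ ha₀) h |>.2 _ (hcomm a₀ ha₀ y hyP)
      rw [← hw] at hi
      have hi' : w = a₀ ^ 2 := by
        rcases Int.even_or_odd i with ⟨m, rfl⟩ | ⟨m, rfl⟩
        · exfalso
          apply hw1
          have hh : (a₀ ^ 2) ^ 2 = 1 := by
            have := pow_orderOf_eq_one (a₀ ^ 2)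
            rwa [(hgen _ (hpow a₀ ha₀) h).1] at this
          rw [← hi, ← two_mul, zpow_mul, zpow_ofNat, hh, one_zpow]
        · have hh : (a₀ ^ 2) ^ 2 = 1 := by
            have := pow_orderOf_eq_one (a₀ ^ 2)
            rwa [(hgen _ (hpow a₀ ha₀) h).1] at this
          rw [← hi, zpow_add_one, zpow_mul, zpow_ofNat, hh, one_zpow, one_mul]
      have h1 : y * a₀ = w⁻¹ * (a₀ * y) := by rw [hw, commutatorElement_def]; group
      calc (a₀ * y) ^ 2 = a₀ * (y * a₀) * y := by rw [sq]; group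
        _ = a₀ * (w⁻¹ * (a₀ * y)) * y := by rw [h1]
        _ = (a₀ * w⁻¹ * a₀⁻¹) * a₀ ^ 2 * y ^ 2 := by rw [sq, sq]; group
        _ = w⁻¹ * a₀ ^ 2 * y ^ 2 := by
          rw [hZ0cen a₀ (hPS ha₀) _ (Z0.inv_mem (hcomm a₀ ha₀ y hyP)), mul_inv_cancel_right]
        _ = 1 := by rw [← hi', inv_mul_cancel, one_mul, hyp]
    obtain ⟨E, hE, hEfin, ⟨e⟩, -⟩ := hprod a ha hay hap
    refine h2 rfl ⟨Shrink.{0} ↥A, inferInstance, fun u => ?_, ?_⟩
    · apply (Shrink.mulEquiv).injective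
      rw [map_pow, hAexp, map_one]
    have ha1 : a ≠ 1 := fun h => hay (by rw [h]; simp)
    have hy1 : y ≠ 1 := fun h => hay (by rw [h]; simp)
    have hoa : orderOf a = 2 := orderOf_eq_prime hap ha1
    have hoy : orderOf y = 2 := orderOf_eq_prime hyp hy1
    obtain ⟨d⟩ := Involution.closure_pair_equiv_dihedral hoa hoy
    have ho : orderOf (a * y) = 4 := by
      have hsq : (a * y) ^ 2 = ⁅a, y⁆ := by
        rw [sq, commutatorElement_def, inv_eq_of_mul_eq_one_right (by rw [← sq]; exact hap),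
          inv_eq_of_mul_eq_one_right (by rw [← sq]; exact hyp)]
        group
      obtain ⟨hv2, -⟩ := hgen _ (hcomm a ha y hyP) fun h => hay (commutatorElement_eq_one_iff_mul_comm.mp h)
      refine orderOf_eq_prime_pow (p := 2) (n := 1) ?_ ?_
      · rw [pow_one, hsq]; exact fun h => hay (commutatorElement_eq_one_iff_mul_comm.mp h)
      · rw [show 2 ^ (1 + 1) = 2 * 2 from rfl, pow_mul, hsq, ← hv2, pow_orderOf_eq_one]
    rw [ho, ← hE] at d
    exact ⟨e.trans (MulEquiv.prodCongr d (Shrink.mulEquiv).symm)⟩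
  -- `p` odd
  by_cases hall : ∀ b ∈ P, b ^ p = 1
  · obtain ⟨E, hE, hEfin, ⟨e⟩, -⟩ := hprod a₀ ha₀ ha₀y (hall a₀ ha₀)
    have haE : a₀ ∈ E := hE ▸ Subgroup.subset_closure (by simp)
    have hyE : y ∈ E := hE ▸ Subgroup.subset_closure (by simp)
    have hEP : E ≤ P := hE ▸ (Subgroup.closure_le P).mpr (by simp [Set.insert_subset_iff, ha₀, hyP])
    have hEcard : Nat.card E = p ^ 3 := by
      -- count `P`
      have hC' : Nat.card ↥(C.subgroupOf P) * p = Nat.card P := by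
        let h : ↥P →* Ω := MonoidHom.mk' (fun u => ⁅(u : Ω), y⁆) fun u v => hcl _ u.2 _ v.2 y hyP
        have hk : h.ker = C.subgroupOf P := by
          ext u
          rw [MonoidHom.mem_ker, Subgroup.mem_subgroupOf, hC, and_iff_right u.2]
          exact commutatorElement_eq_one_iff_mul_comm
        have hr : h.range = Z0 := le_antisymm
          (by rintro _ ⟨u, rfl⟩; exact hcomm _ u.2 y hyP) fun u hu => by
            obtain ⟨i, hi⟩ := hwgen u hu
            exact ⟨⟨a₀, ha₀⟩ ^ i, by rw [map_zpow, ← hi]; rfl⟩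
        rw [← Subgroup.card_mul_index h.ker, Subgroup.index_ker, hr, hZ0c, hk]
      have hZ' : Nat.card ↥(Z.subgroupOf C) * p = Nat.card C := by
        let h : ↥C →* Ω := MonoidHom.mk' (fun u => ⁅a₀, (u : Ω)⁆) fun u v => hcs a₀ ha₀ _ u.2.1 _ v.2.1
        have hk : h.ker = Z.subgroupOf C := by
          ext u
          rw [MonoidHom.mem_ker, Subgroup.mem_subgroupOf]
          refine ⟨fun hu => (hZ _).mpr ⟨u.2.1, fun b hb => ?_⟩, fun hu => ?_⟩
          · obtain ⟨i, d, hd, rfl⟩ := hdec1 b hb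
            exact ((show Commute a₀ (u : Ω) from commutatorElement_eq_one_iff_mul_comm.mp hu).zpow_left i).mul_left
              (hCab d hd.1 ((hC d).mp hd).2 _ u.2.1 ((hC _).mp u.2).2)
          · exact commutatorElement_eq_one_iff_mul_comm.mpr (((hZ _).mp hu).2 a₀ ha₀)
        have hr : h.range = Z0 := le_antisymm
          (by rintro _ ⟨u, rfl⟩; exact hcomm _ ha₀ _ u.2.1) fun u hu => by
            obtain ⟨i, hi⟩ := hwgen u hu
            exact ⟨⟨y, hyC⟩ ^ i, by rw [map_zpow, ← hi]; rfl⟩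
        rw [← Subgroup.card_mul_index h.ker, Subgroup.index_ker, hr, hZ0c, hk]
      have hA' : Nat.card A * p = Nat.card Z := by
        let φ : Subgroup.zpowers z × A → Z := fun q => ⟨(q.1 : Ω) * q.2,
          Z.mul_mem ((Subgroup.zpowers_le.mpr hzZ') q.1.2) (hAZ q.2.2)⟩
        have hb : Function.Bijective φ := by
          constructor
          · rintro ⟨⟨u, hu⟩, ⟨s, hs⟩⟩ ⟨⟨u', hu'⟩, ⟨s', hs'⟩⟩ h
            have h1 : u * s = u' * s' := congrArg Subtype.val h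
            have h2 : u'⁻¹ * u = s' * s⁻¹ := by
              rw [eq_mul_inv_iff_mul_eq, mul_assoc, h1, inv_mul_cancel_left]
            have h3 : u'⁻¹ * u = 1 := by
              by_contra h4
              have hin : u'⁻¹ * u ∈ Z0 := Z0.mul_mem (Z0.inv_mem ((Subgroup.zpowers_le.mpr hzZ) hu'))
                ((Subgroup.zpowers_le.mpr hzZ) hu)
              obtain ⟨m, hm⟩ := (hgen _ hin h4).2 z hzZ
              exact hzA (hm ▸ A.zpow_mem (h2 ▸ A.mul_mem hs' (A.inv_mem hs)) m)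
            have h5 : u' = u := inv_mul_eq_one.mp h3
            subst h5
            have h6 := mul_left_cancel h1
            subst h6
            rfl
          · rintro ⟨c, hc⟩
            obtain ⟨i, hi⟩ := hAmax c hc
            refine ⟨(⟨z ^ (-i), Subgroup.zpow_mem _ (Subgroup.mem_zpowers z) _⟩, ⟨_, hi⟩), Subtype.ext ?_⟩
            show z ^ (-i) * (z ^ i * c) = c
            group
        rw [← Nat.card_congr (Equiv.ofBijective φ hb), Nat.card_prod, Nat.card_zpowers, hzord, mul_comm]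
      rw [Nat.card_congr (Subgroup.subgroupOfEquivOfLe (inf_le_left : C ≤ P)).toEquiv] at hC'
      rw [Nat.card_congr (Subgroup.subgroupOfEquivOfLe hZC).toEquiv] at hZ'
      have hPc := Nat.card_congr e.toEquiv
      rw [Nat.card_prod, ← hC', ← hZ', ← hA'] at hPc
      refine Nat.eq_of_mul_eq_mul_right (Nat.card_pos (α := A)) ?_
      rw [← hPc]; ring
    haveI := hEfin
    obtain ⟨hx, hexp⟩ := extraspecial_of (G := Shrink.{0} ↥E) (a := Shrink.mulEquiv.symm ⟨a₀, haE⟩)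
      (b := Shrink.mulEquiv.symm ⟨y, hyE⟩) (by rw [Nat.card_congr (equivShrink.{0} ↥E).symm, hEcard])
      (fun u => by
        apply (Shrink.mulEquiv).injective
        rw [map_pow, map_one]
        exact Subtype.ext (by simpa using hall _ (hEP (Shrink.mulEquiv u).2)))
      (fun h => ha₀y (by
        have := congrArg (Shrink.mulEquiv) h
        simp only [map_mul, MulEquiv.apply_symm_apply] at this
        exact congrArg Subtype.val this))
    exact hodd hp2 ⟨Shrink.{0} ↥E, inferInstance, Shrink.{0} ↥A, inferInstance, hx,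
      (Nat.card_congr (equivShrink.{0} ↥E).symm).trans hEcard, hexp,
      fun u => by apply (Shrink.mulEquiv).injective; rw [map_pow, hAexp, map_one],
      ⟨e.trans (MulEquiv.prodCongr Shrink.mulEquiv.symm Shrink.mulEquiv.symm)⟩⟩
  -- exponent `p²`: `C` consists of all elements of order `p`
  push Not at hall
  obtain ⟨x, hx, hxp⟩ := hall
  have hxy : x * y ≠ y * x := fun h => hxp (hCexp x hx h)
  have hpowmul : ∀ b ∈ P, ∀ c ∈ P, (b * c) ^ p = b ^ p * c ^ p := by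
    intro b hb c hc
    have hcen : commutator ↥P ≤ Subgroup.center ↥P := PGroup.le_center_of_card_eq_prime hPp hZ0
    exact congrArg Subtype.val (PGroup.mul_pow_prime_classTwo hcen hp.out hp2 (a := (⟨b, hb⟩ : P)) (b := ⟨c, hc⟩)
      (by rw [← hZ0]; exact congrArg Subtype.val (pow_card_eq_one' (x := (⟨_, MetaClosed.cm _ _⟩ : commutator ↥P)))))
  have homega : ∀ b ∈ P, b ^ p = 1 → b ∈ C := by
    intro b hb hbp
    obtain ⟨hxpord, hxpgen⟩ := hgen _ (hpow x hx) hxp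
    obtain ⟨hvord, hvgen⟩ := hgen _ (hcomm x hx y hyP) fun h => hxy (commutatorElement_eq_one_iff_mul_comm.mp h)
    obtain ⟨i, hi⟩ := hvgen _ (hcomm b hb y hyP)
    have hc : x ^ (-i) * b ∈ C := by
      refine (hC _).mpr ⟨P.mul_mem (P.zpow_mem hx _) hb, commutatorElement_eq_one_iff_mul_comm.mp ?_⟩
      rw [hcl _ (P.zpow_mem hx _) b hb y hyP, hcpow x hx y hyP, ← hi, ← zpow_add, neg_add_cancel, zpow_zero]
    have h1 := hpowmul _ (P.zpow_mem hx i) _ hc.1
    rw [show x ^ i * (x ^ (-i) * b) = b by group, hbp, hCexp _ hc.1 ((hC _).mp hc).2, mul_one] at h1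
    have h2 : (x ^ p) ^ i = 1 := by rw [h1, ← zpow_natCast, ← zpow_natCast, ← zpow_mul, ← zpow_mul, mul_comm]
    rw [← orderOf_dvd_iff_zpow_eq_one, hxpord] at h2
    obtain ⟨m, rfl⟩ := h2
    have h3 : x ^ ((p : ℤ) * m) ∈ C := by
      rw [zpow_mul, zpow_natCast]
      exact C.zpow_mem (hZC ((hZ _).mpr ⟨P.pow_mem hx p, fun b hb => hZ0cen b (hPS hb) _ (hpow x hx)⟩)) m
    have := C.mul_mem h3 hc
    rwa [show x ^ ((p : ℤ) * m) * (x ^ (-((p : ℤ) * m)) * b) = b by group] at this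
  -- the automorphism carrying `y` to `z`
  obtain ⟨g, M, hg, hgy, hM⟩ := back y hyP hyZ ⟨R, f, hf, hzR, rfl⟩
  have hCM : C ≤ M := fun c hc => hM c hc.1 ((hC c).mp hc).2
  have hgC : ∀ c ∈ C, g c ∈ C := fun c hc => homega _ (Fusion92.closed_apply hP hg (hCM hc) hc.1)
    (by rw [← hg.map_pow (hCM hc), hCexp c hc.1 ((hC c).mp hc).2, hg.map_one])
  haveI : Finite C := finite_of_le (inf_le_left : C ≤ P)
  have hCS : C ≤ S := (inf_le_left : C ≤ P).trans hPS
  have hiso : IsIso F C C g := ⟨hg.mono hCM, Set.Subset.antisymm (by rintro _ ⟨c, hc, rfl⟩; exact hgC c hc)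
    (fun c hc => surjOn_of_card_le hCS (hg.mono hCM).injOn hgC le_rfl c hc)⟩
  obtain ⟨α, hα, hαg⟩ := hiso.exists_aut
  have hxC : ∀ c ∈ C, x * c * x⁻¹ ∈ C := fun c hc => homega _ (P.mul_mem (P.mul_mem hx hc.1) (P.inv_mem hx))
    (by rw [conj_pow, hCexp c hc.1 ((hC c).mp hc).2, mul_one, mul_inv_cancel])
  have hxC' : ∀ c ∈ C, x⁻¹ * c * x ∈ C := fun c hc => homega _ (P.mul_mem (P.mul_mem (P.inv_mem hx) hc.1) hx) (by
    have := conj_pow (a := x⁻¹) (b := c) (i := p)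
    rw [inv_inv] at this
    rw [this, hCexp c hc.1 ((hC c).mp hc).2]; group)
  let t : MulAut ↥C :=
    { toFun := fun c => ⟨x * c * x⁻¹, hxC c c.2⟩
      invFun := fun c => ⟨x⁻¹ * c * x, hxC' c c.2⟩
      left_inv := fun c => by ext; simp [mul_assoc]
      right_inv := fun c => by ext; simp [mul_assoc]
      map_mul' := fun a b => by ext; simp [mul_assoc] }
  have hxN : x ∈ Subgroup.normalizer (C : Set Ω) :=
    Subgroup.mem_normalizer_iff.mpr fun c => ⟨hxC c, fun hc => by simpa [mul_assoc] using hxC' _ hc⟩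
  have htA : t ∈ F.autGroup C := autInducedBy_le_autGroup hCS (mem_autInducedBy.mpr ⟨x, hPS hx, fun c => rfl⟩)
  set z' : ↥C := ⟨z, hZC hzZ'⟩
  set y' : ↥C := ⟨y, hyC⟩
  have hαy : α y' = z' := Subtype.ext (by rw [← autFun_coe α y', hαg hyC]; exact hgy)
  set t' : MulAut ↥C := α⁻¹ * t * α with ht'def
  have ht'A : t' ∈ F.autGroup C := mul_mem (mul_mem (inv_mem hα) htA) hα
  have hCcomm : ∀ a b : ↥C, a * b = b * a := fun a b =>
    Subtype.ext (hCab a a.2.1 ((hC _).mp a.2).2 b b.2.1 ((hC _).mp b.2).2)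
  have hCp : ∀ a : ↥C, a ^ p = 1 := fun a => Subtype.ext (by simpa using hCexp a a.2.1 ((hC _).mp a.2).2)
  have htZ : ∀ c : ↥C, (c : Ω) ∈ Z → t c = c := fun c hc => Subtype.ext (by
    show x * c * x⁻¹ = c
    rw [((hZ _).mp hc).2 x hx, mul_inv_cancel_right])
  have htq : ∀ c : ↥C, c⁻¹ * t c ∈ Subgroup.zpowers z' := by
    intro c
    obtain ⟨i, hi⟩ := hzgen _ (hcomm _ (P.inv_mem c.2.1) x hx)
    refine Subgroup.mem_zpowers_iff.mpr ⟨i, Subtype.ext ?_⟩
    show z ^ i = (c : Ω)⁻¹ * (x * c * x⁻¹)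
    rw [hi, commutatorElement_def]; group
  have ht'app : ∀ c : ↥C, t' c = α⁻¹ (t (α c)) := fun c => rfl
  have hαy' : α⁻¹ z' = y' := by rw [← hαy]; exact MulEquiv.symm_apply_apply α y'
  have ht'y : t' y' = y' := by rw [ht'app, hαy, htZ z' hzZ', hαy']
  have ht'q : ∀ c : ↥C, c⁻¹ * t' c ∈ Subgroup.zpowers y' := by
    intro c
    obtain ⟨i, hi⟩ := Subgroup.mem_zpowers_iff.mp (htq (α c))
    refine Subgroup.mem_zpowers_iff.mpr ⟨i, ?_⟩
    rw [← hαy', ← map_zpow, hi, map_mul, map_inv]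
    rw [ht'app c]
    congr 2
    exact MulEquiv.symm_apply_apply α c
  -- `α z` is not central
  have hαz : ¬ ((α z' : ↥C) : Ω) ∈ Z := by
    intro hz'
    have hmap : g z = ((α z' : ↥C) : Ω) := by rw [← autFun_coe α z']; exact (hαg z'.2).symm
    by_cases hin : ((α z' : ↥C) : Ω) ∈ Z0
    · exact hz1 (clash y hyZ g M hg (hCM hyC) hgy z hzZ (hCM z'.2) (hmap ▸ hin))
    · obtain ⟨-, -, a, ha, hne⟩ := struct _ ((α z' : ↥C).2.1) hin ⟨M, g, hg, hCM z'.2, hmap⟩
      exact hne (((hZ _).mp hz').2 a ha)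
  have ht'z : t' z' ≠ z' := by
    intro h
    apply hαz
    have h1 : t (α z') = α z' := by
      have h' := congrArg α h
      rw [ht'app] at h'
      exact (α.apply_symm_apply _).symm.trans h'
    obtain ⟨j, ζ, hζ, hdec⟩ := hdec2 _ (α z').2
    have h2 : x * ((α z' : ↥C) : Ω) * x⁻¹ = ((α z' : ↥C) : Ω) := congrArg Subtype.val h1
    rw [hdec] at h2 ⊢
    have h3 : ⁅y ^ j * ζ, x⁆ = 1 := commutatorElement_eq_one_iff_mul_comm.mpr (mul_inv_eq_iff_eq_mul.mp h2).symm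
    rw [hcl _ (P.zpow_mem hyP j) _ hζ.1 x hx, hcpow y hyP x hx,
      show ⁅ζ, x⁆ = 1 from commutatorElement_eq_one_iff_mul_comm.mpr (((hZ _).mp hζ).2 x hx).symm, mul_one,
      ← orderOf_dvd_iff_zpow_eq_one,
      (hgen _ (hcomm y hyP x hx) fun h => hxy (commutatorElement_eq_one_iff_mul_comm.mp h).symm).1] at h3
    obtain ⟨m, rfl⟩ := h3
    rw [zpow_mul, zpow_natCast, hyp, one_zpow, one_mul]
    exact hζ
  have hty : t y' ≠ y' := fun h => hxy (mul_inv_eq_iff_eq_mul.mp (congrArg Subtype.val h))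
  -- shears and minus one on `⟨y, z⟩`
  obtain ⟨⟨U, hUt⟩, hU1, hU2⟩ := MetaClosed.exists_shear hCp hCcomm (Subgroup.zpowers t)
    ⟨t, Subgroup.mem_zpowers t⟩ z' y' (htZ z' hzZ') (htq y') hty
  obtain ⟨⟨V, hVt⟩, hV1, hV2⟩ := MetaClosed.exists_shear hCp hCcomm (Subgroup.zpowers t')
    ⟨t', Subgroup.mem_zpowers t'⟩ y'⁻¹ z' (by rw [map_inv]; exact congrArg (·⁻¹) ht'y)
    (by rw [Subgroup.zpowers_inv]; exact ht'q z') ht'z
  replace hV1 : V y' = y' := by rw [map_inv, inv_inj] at hV1; exact hV1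
  change U z' = z' at hU1
  change U y' = y' * z' at hU2
  change V z' = z' * y'⁻¹ at hV2
  set ι : MulAut ↥C := (U * V * U) * (U * V * U) with hιdef
  have hWy : (U * V * U) y' = z' := by
    rw [MulAut.mul_apply, MulAut.mul_apply, hU2, map_mul, hV1, hV2, ← mul_assoc, hCcomm y' z', mul_inv_cancel_right, hU1]
  have hWz : (U * V * U) z' = y'⁻¹ := by
    rw [MulAut.mul_apply, MulAut.mul_apply, hU1, hV2, map_mul, hU1, map_inv, hU2, mul_inv_rev, mul_inv_cancel_left]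
  have hιy : ι y' = y'⁻¹ := by rw [hιdef, MulAut.mul_apply, hWy, hWz]
  have hιz : ι z' = z'⁻¹ := by rw [hιdef, MulAut.mul_apply, hWz, map_inv, hWy]
  have hfixpow : ∀ (s : MulAut ↥C) (c : ↥C), s c = c → ∀ u ∈ Subgroup.zpowers s, u c = c := by
    intro s c hs u hu
    exact (Subgroup.zpowers_le.mpr (show s ∈ MulAction.stabilizer (MulAut ↥C) c from hs)) hu
  have hιfix : ∀ c : ↥C, t c = c → t' c = c → ι c = c := by
    intro c h1 h2
    have hU' := hfixpow t c h1 U hUt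
    have hV' := hfixpow t' c h2 V hVt
    rw [hιdef]
    simp only [MulAut.mul_apply, hU', hV']
  -- `ι` commutes with `t`
  have hgenC : ∀ c : ↥C, ∃ j k : ℤ, ∃ h : ↥C, t h = h ∧ t' h = h ∧ c = y' ^ j * (z' ^ k * h) := by
    intro c
    obtain ⟨j, ζ, hζ, hc⟩ := hdec2 _ c.2
    set ζ' : ↥C := ⟨ζ, hZC hζ⟩
    obtain ⟨m, hm⟩ := Subgroup.mem_zpowers_iff.mp (ht'q ζ')
    obtain ⟨n, hn⟩ := Subgroup.mem_zpowers_iff.mp (ht'q z')
    have hn0 : ¬ (p : ℤ) ∣ n := by
      rintro ⟨q, rfl⟩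
      apply ht'z
      rw [zpow_mul, zpow_natCast, hCp, one_zpow] at hn
      exact (inv_mul_eq_one.mp hn.symm).symm
    obtain ⟨u, v, huv⟩ := (Nat.prime_iff_prime_int.mp hp.out).coprime_iff_not_dvd.mpr hn0
    refine ⟨j, m * v, (z' ^ (m * v))⁻¹ * ζ', ?_, ?_, Subtype.ext ?_⟩
    · rw [map_mul, map_inv, map_zpow, htZ z' hzZ', htZ ζ' hζ]
    · have e1 : t' z' = z' * y' ^ n := by rw [hn, mul_inv_cancel_left]
      have e2 : t' ζ' = ζ' * y' ^ m := by rw [hm, mul_inv_cancel_left]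
      rw [map_mul, map_inv, map_zpow, e1, e2, (show Commute z' (y' ^ n) from hCcomm _ _).mul_zpow, mul_inv_rev,
        ← zpow_mul]
      have e3 : y' ^ (n * (m * v)) = y' ^ m := by
        rw [show n * (m * v) = m + (p : ℤ) * (-(m * u)) by linear_combination m * huv, zpow_add, zpow_mul,
          zpow_natCast, hCp, one_zpow, mul_one]
      rw [e3, hCcomm ζ' (y' ^ m), ← mul_assoc, mul_assoc _ (z' ^ (m * v))⁻¹ (y' ^ m), hCcomm (z' ^ (m * v))⁻¹ (y' ^ m),
        ← mul_assoc, inv_mul_cancel, one_mul]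
    · show (c : Ω) = _
      rw [show z' ^ (m * v) * ((z' ^ (m * v))⁻¹ * ζ') = ζ' from mul_inv_cancel_left _ _]
      exact hc
  obtain ⟨n₀, hn₀⟩ := Subgroup.mem_zpowers_iff.mp (htq y')
  have hιt : ∀ c, ι (t c) = t (ι c) := by
    intro c
    obtain ⟨j, k, h, h1, h2, rfl⟩ := hgenC c
    have e : t y' = y' * z' ^ n₀ := by rw [hn₀, mul_inv_cancel_left]
    simp only [map_mul, map_zpow, e, htZ z' hzZ', h1, hιy, hιz, hιfix h h1 h2, map_inv]
    rw [mul_inv_rev, inv_zpow z' n₀, hCcomm (z' ^ n₀)⁻¹]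
  have hιA : ι ∈ F.autGroup C := by
    have hUA : U ∈ F.autGroup C := (Subgroup.zpowers_le.mpr htA) hUt
    have hVA : V ∈ F.autGroup C := (Subgroup.zpowers_le.mpr ht'A) hVt
    exact mul_mem (mul_mem (mul_mem hUA hVA) hUA) (mul_mem (mul_mem hUA hVA) hUA)
  -- extend to `x`
  have hfn : F.IsFullyNormalized C := by
    haveI : Finite (normalizerIn S C) := finite_of_le (inf_le_left : normalizerIn S C ≤ S)
    refine ⟨hCS, fun Q _ => (Subgroup.card_le_of_le (inf_le_left : normalizerIn S Q ≤ S)).trans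
      (Subgroup.card_le_of_le (le_inf le_rfl ?_))⟩
    refine Coprime.le_normalizer_of_conj_mem fun s hs c hc => ?_
    have hsP := conj_mem_of_mem_normalizer (stronglyClosed_le_normalizer hP hs) hc.1
    exact homega _ hsP (by rw [conj_pow, hCexp c hc.1 ((hC c).mp hc).2, mul_one, mul_inv_cancel])
  have hext : IsExtendable S C (autFun ι) (Subgroup.zpowers x) := by
    refine ⟨Subgroup.zpowers_le.mpr (hPS hx), fun s hs => ⟨(Subgroup.zpowers_le.mpr hxN) hs, s,
      (Subgroup.zpowers_le.mpr (hPS hx)) hs, fun c hc => ?_⟩⟩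
    obtain ⟨i, rfl⟩ := Subgroup.mem_zpowers_iff.mp hs
    have hti : ∀ m : ℤ, ∀ d : ↥C, (((t ^ m) d : ↥C) : Ω) = x ^ m * d * (x ^ m)⁻¹ := by
      intro m
      induction m using Int.induction_on with
      | zero => simp
      | succ m ih =>
        intro d
        rw [zpow_add_one, MulAut.mul_apply, ih, zpow_add_one]
        show x ^ (m : ℤ) * (x * d * x⁻¹) * (x ^ (m : ℤ))⁻¹ = _
        group
      | pred m ih =>
        intro d
        rw [zpow_sub_one, MulAut.mul_apply, ih, zpow_sub_one]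
        show x ^ (-(m : ℤ)) * (x⁻¹ * d * x) * (x ^ (-(m : ℤ)))⁻¹ = _
        group
    have hcm : Commute ι (t ^ i) := (show Commute ι t from MulEquiv.ext hιt).zpow_right i
    have h1 : ι ((t ^ i) ⟨c, hc⟩) = (t ^ i) (ι ⟨c, hc⟩) := MulEquiv.congr_fun hcm.eq ⟨c, hc⟩
    rw [autFun_of_mem _ (conj_mem_of_mem_normalizer ((Subgroup.zpowers_le.mpr hxN) hs) hc), autFun_of_mem _ hc,
      ← hti, ← h1]
    congr 2
    exact Subtype.ext (hti i ⟨c, hc⟩).symm
  obtain ⟨f', hf', hfC⟩ := receptive_extend (receptive_of_fullyNormalized hS hF hfn)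
    ((mem_autGroup hCS).mp hιA) hext
  have hxm : x ∈ C ⊔ Subgroup.zpowers x := Subgroup.mem_sup_right (Subgroup.mem_zpowers x)
  have hfxP : f' x ∈ P := Fusion92.closed_apply hP hf' hxm hx
  have hfc : x⁻¹ * f' x ∈ C := by
    refine (hC _).mpr ⟨P.mul_mem (P.inv_mem hx) hfxP, ?_⟩
    have h1 := hf'.map_conj hxm (Subgroup.mem_sup_left hyC)
    rw [hfC (hxC y hyC), hfC hyC, autFun_of_mem _ (hxC y hyC), autFun_of_mem _ hyC] at h1
    have h2 : ι (t y') = t (ι y') := hιt y'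
    change ((ι (t y') : ↥C) : Ω) = f' x * ((ι y' : ↥C) : Ω) * (f' x)⁻¹ at h1
    rw [h2, hιy] at h1
    have h3 : x * y⁻¹ * x⁻¹ = f' x * y⁻¹ * (f' x)⁻¹ := h1
    have h4 : x * y * x⁻¹ = f' x * y * (f' x)⁻¹ := by
      have := congrArg (·⁻¹) h3
      simpa [mul_assoc] using this
    calc x⁻¹ * f' x * y = x⁻¹ * (f' x * y * (f' x)⁻¹) * f' x := by group
      _ = x⁻¹ * (x * y * x⁻¹) * f' x := by rw [h4]
      _ = y * (x⁻¹ * f' x) := by group
  have hfp : f' (x ^ p) = x ^ p := by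
    rw [hf'.map_pow hxm, show f' x = x * (x⁻¹ * f' x) from (mul_inv_cancel_left _ _).symm,
      hpowmul _ hx _ hfc.1, hCexp _ hfc.1 ((hC _).mp hfc).2, mul_one]
  obtain ⟨i, hi⟩ := hzgen _ (hpow x hx)
  have hxC2 : x ^ p ∈ C := hi ▸ C.zpow_mem (hZC hzZ') i
  have hinv : f' (x ^ p) = (x ^ p)⁻¹ := by
    rw [hfC hxC2, autFun_of_mem _ hxC2, show (⟨x ^ p, hxC2⟩ : ↥C) = z' ^ i from Subtype.ext hi.symm,
      map_zpow, hιz]
    show z⁻¹ ^ i = _
    rw [inv_zpow, hi]
  apply hxp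
  have h2 : (x ^ p) ^ 2 = 1 := by rw [sq]; nth_rewrite 1 [hfp.symm.trans hinv]; exact inv_mul_cancel _
  have h4 := Nat.dvd_gcd (orderOf_dvd_of_pow_eq_one h2) (dvd_of_eq (hgen _ (hpow x hx) hxp).1)
  rw [show Nat.gcd 2 p = 1 from (Nat.coprime_primes Nat.prime_two hp.out).mpr hp2.symm] at h4
  exact orderOf_eq_one_iff.mp (Nat.dvd_one.mp h4)

end Cfsg.Agent.FG75.GenExtraClosed
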