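import Cfsg.Agent.Lib.Components.Basic
import Cfsg.Agent.Lib.OddOrderGlue.Basic

/-!
Groups in which cyclic subgroups of the same prime power order are conjugate have at most one component
(given the solvability of groups of odd order).
-/

set_option autoImplicit false
set_option linter.all false

namespace Cfsg.Agent.FG75.OneComponent

open Subgroup Cfsg

universe u

variable {G : Type u} [Group G] [Finite G]

lemma solvable_of_center_quotient {X : Type*} [Group X] [Group.IsSolvable (X ⧸ center X)] :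
    Group.IsSolvable X := by
  haveI : Group.IsSolvable ↥(center X) :=
    Group.isSolvable_of_comm fun a b => Subtype.ext (mem_center_iff.1 b.2 a)
  exact Group.isSolvable_of_ker_le_range (center X).subtype (QuotientGroup.mk' (center X))
    (by rw [QuotientGroup.ker_mk', Subgroup.range_subtype])

lemma card_even (hFT : OddOrderGlue.FeitThompson.{u}) {L : Subgroup G} (hL : IsComponent L) :
    2 ∣ Nat.card (↥L ⧸ center ↥L) := by
  by_contra h
  haveI := hFT (↥L ⧸ center ↥L) (Nat.not_even_iff_odd.1 fun he => h he.two_dvd)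
  haveI := hL.2.2
  refine Components.component_not_isSolvable hL ?_
  exact solvable_of_center_quotient

lemma exists_p_element (L : Subgroup G) {p : ℕ} (hp : p.Prime)
    (hdvd : p ∣ Nat.card (↥L ⧸ center ↥L)) :
    ∃ x : L, x ∉ center ↥L ∧ x ^ p ∈ center ↥L ∧ ∃ a, orderOf x = p ^ a := by
  haveI := Fact.mk hp
  obtain ⟨q, hq⟩ := exists_prime_orderOf_dvd_card' p hdvd
  obtain ⟨v, rfl⟩ := QuotientGroup.mk'_surjective (center ↥L) q
  obtain ⟨a, m, hm, hord⟩ := Nat.exists_eq_pow_mul_and_not_dvd (orderOf_pos v).ne' p hp.ne_one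
  have hm0 : m ≠ 0 := by rintro rfl; exact hm (dvd_zero p)
  have hqp : (QuotientGroup.mk' (center ↥L) v) ^ p = 1 := by
    conv_lhs => rw [← hq]
    exact pow_orderOf_eq_one _
  refine ⟨v ^ m, fun hc => hm ?_, ?_, a, ?_⟩
  · rw [← hq]
    refine orderOf_dvd_of_pow_eq_one ?_
    rw [← map_pow]
    exact (QuotientGroup.eq_one_iff _).2 hc
  · rw [← QuotientGroup.eq_one_iff]
    have : (QuotientGroup.mk' (center ↥L)) ((v ^ m) ^ p) = 1 := by
      rw [map_pow, map_pow, ← pow_mul, mul_comm, pow_mul, hqp, one_pow]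
    exact this
  · rw [orderOf_pow' v hm0, hord, Nat.gcd_eq_right (dvd_mul_left _ _),
      Nat.mul_div_cancel _ (Nat.pos_of_ne_zero hm0)]

/-- central part of the layer -/
def Zs (G : Type*) [Group G] : Subgroup G := Subgroup.centralizer ((layer G : Subgroup G) : Set G)

lemma Zs_conj {z : G} (hz : z ∈ Zs G) (g : G) : g * z * g⁻¹ ∈ Zs G := by
  refine mem_centralizer_iff.2 fun e he => ?_
  have hn : g⁻¹ * e * g ∈ layer G := by
    have := Components.map_layer_equiv (MulAut.conj g⁻¹ : G ≃* G)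
    rw [← this]
    exact ⟨e, he, by simp⟩
  have := mem_centralizer_iff.1 hz _ hn
  calc e * (g * z * g⁻¹) = g * ((g⁻¹ * e * g) * z) * g⁻¹ := by group
    _ = g * (z * (g⁻¹ * e * g)) * g⁻¹ := by rw [this]
    _ = g * z * g⁻¹ * e := by group

lemma conj_of_pelem
    (hP : ∀ (p : ℕ), p.Prime → ∀ A B : Subgroup G, IsCyclic ↥A → IsCyclic ↥B → IsPGroup p ↥A →
      Nat.card ↥A = Nat.card ↥B → ∃ g : G, B = A.map (MulAut.conj g).toMonoidHom)
    {p : ℕ} (hp : p.Prime) {x w : G} {a c : ℕ} (hx : orderOf x = p ^ a) (hw : orderOf w = p ^ c)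
    (hxn : x ∉ Zs G) (hwp : w ^ p ∈ Zs G) (hwn : w ∉ Zs G) (hxp : x ^ p ∈ Zs G) :
    ∃ (g : G) (k : ℤ), w = g * x ^ k * g⁻¹ := by
  haveI := Fact.mk hp
  have key : ∀ (x w : G) (a c : ℕ), orderOf x = p ^ a → orderOf w = p ^ c → c ≤ a →
      ∃ (g : G) (k : ℤ), w = g * (x ^ p ^ (a - c)) ^ k * g⁻¹ := by
    intro x w a c hx hw hle
    have ho : orderOf (x ^ p ^ (a - c)) = p ^ c := by
      rw [orderOf_pow_of_dvd (pow_ne_zero _ hp.ne_zero) (hx ▸ pow_dvd_pow p (Nat.sub_le _ _)), hx,
        Nat.pow_div (Nat.sub_le _ _) hp.pos, Nat.sub_sub_self hle]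
    obtain ⟨g, hg⟩ := hP p hp (zpowers (x ^ p ^ (a - c))) (zpowers w) inferInstance inferInstance
      (IsPGroup.of_card (n := c) (by rw [Nat.card_zpowers, ho]))
      (by rw [Nat.card_zpowers, Nat.card_zpowers, ho, hw])
    have hm : w ∈ (zpowers (x ^ p ^ (a - c))).map (MulAut.conj g).toMonoidHom :=
      hg ▸ mem_zpowers w
    obtain ⟨y, hy, hyw⟩ := hm
    obtain ⟨k, rfl⟩ := mem_zpowers_iff.1 hy
    exact ⟨g, k, hyw.symm⟩
  rcases lt_trichotomy a c with h | h | h
  · obtain ⟨g, k, hk⟩ := key w x c a hw hx h.le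
    refine absurd ?_ hxn
    rw [hk]
    refine Zs_conj (Subgroup.zpow_mem _ ?_ k) g
    rw [show c - a = c - a - 1 + 1 by omega, pow_succ', pow_mul]
    exact Subgroup.pow_mem _ hwp _
  · subst h
    obtain ⟨g, k, hk⟩ := key x w a a hx hw le_rfl
    exact ⟨g, k, by rwa [Nat.sub_self, pow_zero, pow_one] at hk⟩
  · obtain ⟨g, k, hk⟩ := key x w a c hx hw h.le
    refine absurd ?_ hwn
    rw [hk]
    refine Zs_conj (Subgroup.zpow_mem _ ?_ k) g
    rw [show a - c = a - c - 1 + 1 by omega, pow_succ', pow_mul]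
    exact Subgroup.pow_mem _ hxp _

theorem component_unique (hFT : OddOrderGlue.FeitThompson.{u})
    (hP : ∀ (p : ℕ), p.Prime → ∀ A B : Subgroup G, IsCyclic ↥A → IsCyclic ↥B → IsPGroup p ↥A →
      Nat.card ↥A = Nat.card ↥B → ∃ g : G, B = A.map (MulAut.conj g).toMonoidHom)
    {L M : Subgroup G} (hL : IsComponent L) (hM : IsComponent M) : L = M := by
  by_contra hne
  have hp := Nat.prime_two
  haveI := Fact.mk hp
  obtain ⟨x, hxn, hxp, a, hxa⟩ := exists_p_element L hp (card_even hFT hL)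
  obtain ⟨y, hyn, hyp, b, hyb⟩ := exists_p_element M hp (card_even hFT hM)
  have hcomm : ∀ l ∈ L, ∀ m ∈ M, m * l = l * m := fun l hl m hm =>
    mem_centralizer_iff.1 (Components.component_le_centralizer hL hM hne hl) m hm
  have hcent : ∀ {K : Subgroup G}, IsComponent K → ∀ {z : K}, z ∈ center ↥K → (z : G) ∈ Zs G := by
    intro K hK z hz
    refine mem_centralizer_iff.2 fun e he => ?_
    have hle : layer G ≤ Subgroup.centralizer ({(z : G)} : Set G) := by
      rw [Components.layer_le_iff]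
      intro J hJ j hj
      rw [mem_centralizer_singleton_iff]
      rcases eq_or_ne J K with rfl | hJK
      · exact congrArg Subtype.val (mem_center_iff.1 hz ⟨j, hj⟩)
      · exact (mem_centralizer_iff.1 (Components.component_le_centralizer hJ hK hJK hj) z z.2).symm
    exact mem_centralizer_singleton_iff.1 (hle he)
  have hxG : (x : G) ∉ Zs G := fun h => hxn (mem_center_iff.2 fun l => Subtype.ext
    (mem_centralizer_iff.1 h l (Components.component_le_layer hL l.2)))
  have hxy : Commute (x : G) (y : G) := (hcomm x x.2 y y.2).symm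
  have hwn : (x : G) * y ∉ Zs G := fun h => hxn (mem_center_iff.2 fun l => Subtype.ext (by
    have h1 := mem_centralizer_iff.1 h l (Components.component_le_layer hL l.2)
    rw [← mul_assoc, mul_assoc (x : G) y l, hcomm l l.2 y y.2, ← mul_assoc] at h1
    exact mul_right_cancel h1))
  have hwp : ((x : G) * y) ^ 2 ∈ Zs G := by
    rw [hxy.mul_pow]
    exact (Zs G).mul_mem (by simpa using hcent hL hxp) (by simpa using hcent hM hyp)
  obtain ⟨c, -, hc⟩ : ∃ c, c ≤ max a b ∧ orderOf ((x : G) * y) = 2 ^ c := by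
    refine (Nat.dvd_prime_pow hp).1 (orderOf_dvd_of_pow_eq_one ?_)
    rw [hxy.mul_pow, ← Subgroup.coe_pow, ← Subgroup.coe_pow,
      orderOf_dvd_iff_pow_eq_one.1 (hxa ▸ pow_dvd_pow 2 (le_max_left a b)),
      orderOf_dvd_iff_pow_eq_one.1 (hyb ▸ pow_dvd_pow 2 (le_max_right a b))]
    simp
  obtain ⟨g, k, hk⟩ := conj_of_pelem hP hp (by rw [Subgroup.orderOf_coe]; exact hxa) hc hxG hwp hwn
    (by simpa using hcent hL hxp)
  have hK := Components.component_map_conj g hL
  have hwK : (x : G) * y ∈ L.map (MulAut.conj g).toMonoidHom :=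
    ⟨(x : G) ^ k, L.zpow_mem x.2 k, hk.symm⟩
  rcases eq_or_ne (L.map (MulAut.conj g).toMonoidHom) L with h | h
  · refine hyn (mem_center_iff.2 fun m => Subtype.ext ?_)
    have hy : (y : G) ∈ L := by
      rw [h] at hwK
      simpa using L.mul_mem (L.inv_mem x.2) hwK
    exact hcomm _ hy m m.2
  · refine hxn (mem_center_iff.2 fun l => Subtype.ext ?_)
    have h1 := mem_centralizer_iff.1 (Components.component_le_centralizer hK hL h hwK) l l.2
    rw [← mul_assoc, mul_assoc (x : G) y l, hcomm l l.2 y y.2, ← mul_assoc] at h1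
    exact mul_right_cancel h1

theorem simple_layer_quotient (hFT : OddOrderGlue.FeitThompson.{u})
    (hP : ∀ (p : ℕ), p.Prime → ∀ A B : Subgroup G, IsCyclic ↥A → IsCyclic ↥B → IsPGroup p ↥A →
      Nat.card ↥A = Nat.card ↥B → ∃ g : G, B = A.map (MulAut.conj g).toMonoidHom)
    (hE : layer G ≠ ⊥) :
    IsSimpleGroup (↥(layer G) ⧸ center ↥(layer G)) ∧
      ¬ IsMulCommutative (↥(layer G) ⧸ center ↥(layer G)) := by
  obtain ⟨L, hL⟩ : ∃ L : Subgroup G, IsComponent L := by
    by_contra h
    push Not at h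
    exact hE (Components.layer_eq_bot_iff.2 h)
  have hEL : layer G = L := le_antisymm
    (Components.layer_le_iff.2 fun M hM => (component_unique hFT hP hL hM).ge)
    (Components.component_le_layer hL)
  rw [hEL]
  refine ⟨hL.2.2, fun h => Components.component_not_isSolvable hL ?_⟩
  haveI : Group.IsSolvable (↥L ⧸ center ↥L) :=
    Group.isSolvable_of_comm fun a b => h.is_comm.comm a b
  exact solvable_of_center_quotient

end Cfsg.Agent.FG75.OneComponent
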