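import Cfsg.Agent.FG75.TransMain
import Cfsg.Agent.FG75.AnisoGroup
import Cfsg.Agent.OutSolv23.Basic
import Cfsg.Agent.Lib.Coprime.Action
import Cfsg.Agent.Lib.Thompson.Cores
import Cfsg.Agent.Lib.LargeExtraspecial.Basic

/-!
Solvability of the outer automorphism group from properties of a Sylow `2`-subgroup, given the odd
order theorem.
-/

set_option autoImplicit false
set_option linter.style.haveILetI false

namespace Cfsg.Agent.FG75.OutCriteria

open Cfsg Subgroup OutSolv23

universe u

/-- Groups whose order divides `p ^ a * q ^ b` are solvable. -/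
theorem solvable_of_dvd {X : Type*} [Group X] [Finite X] {p q a b : ℕ} (hp : p.Prime) (hq : q.Prime)
    (h : Nat.card X ∣ p ^ a * q ^ b) : Group.IsSolvable X := by
  obtain ⟨m, n, hm, hn, he⟩ := Nat.dvd_mul.1 h
  obtain ⟨i, -, rfl⟩ := (Nat.dvd_prime_pow hp).1 hm
  obtain ⟨j, -, rfl⟩ := (Nat.dvd_prime_pow hq).1 hn
  exact S0144.result p q i j hp hq he.symm

/-- A group is solvable when the kernel and the image of a homomorphism are. -/
theorem solvable_of_ker_range {X Y : Type*} [Group X] [Group Y] (f : X →* Y)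
    (hk : Group.IsSolvable f.ker) (hr : Group.IsSolvable f.range) : Group.IsSolvable X :=
  Group.isSolvable_of_ker_le_range f.ker.subtype f.rangeRestrict
    (by rw [MonoidHom.ker_rangeRestrict, range_subtype])

section frattiniAut

variable {P : Type u} [Group P]

/-- The action on the Frattini quotient. -/
noncomputable def frattiniAut : MulAut P →* MulAut (P ⧸ frattini P) :=
  MonoidHom.mk' (fun φ => QuotientGroup.congr (frattini P) (frattini P) φ
      (Subgroup.characteristic_iff_map_eq.1 inferInstance φ))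
    fun a b => MulEquiv.ext fun x => by
      obtain ⟨y, rfl⟩ := QuotientGroup.mk'_surjective (frattini P) x
      rfl

theorem eq_one_of_frattiniAut [Finite P] (hP : IsPGroup 2 P) {α : MulAut P}
    (ho : (orderOf α).Coprime 2) (h : frattiniAut α = 1) : α = 1 := by
  haveI : Fact (Nat.Prime 2) := ⟨Nat.prime_two⟩
  haveI : Finite (T51.HolP P) := T51.finite_holP
  set K := (SemidirectProduct.inl : P →* T51.HolP P).range
  set y : T51.HolP P := SemidirectProduct.inr α
  have hinj := (SemidirectProduct.inl_injective : Function.Injective (SemidirectProduct.inl : P →* T51.HolP P))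
  let e : P ≃* K := MonoidHom.ofInjective hinj
  have hA : zpowers y ≤ normalizer (K : Set (T51.HolP P)) := by
    rw [zpowers_le, mem_normalizer_iff]
    intro z
    constructor
    · rintro ⟨x, rfl⟩
      exact ⟨α x, (T51.holP_conj α x).symm⟩
    · rintro ⟨x, hx⟩
      refine ⟨α⁻¹ x, (MulAut.conj y).injective ?_⟩
      show y * SemidirectProduct.inl (α⁻¹ x) * y⁻¹ = y * z * y⁻¹
      rw [← hx, T51.holP_conj, MulAut.apply_inv_self]
  have hcen := Coprime.le_centralizer_of_frattini (zpowers y) K hA ?_ ?_ (mem_zpowers y)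
  · refine MulEquiv.ext fun x => hinj ?_
    rw [MulAut.one_apply, ← T51.holP_conj, mul_inv_eq_iff_eq_mul]
    exact (mem_centralizer_iff.1 hcen _ ⟨x, rfl⟩).symm
  · obtain ⟨j, hj⟩ := IsPGroup.iff_card.1 ((hP.of_equiv e).to_subgroup (frattini K))
    rw [Nat.card_zpowers, hj,
      orderOf_injective (SemidirectProduct.inr : MulAut P →* T51.HolP P)
        SemidirectProduct.inr_injective]
    exact ho.pow_right j
  · intro a ha k hk
    obtain ⟨i, rfl⟩ := mem_zpowers_iff.1 ha
    obtain ⟨x, rfl⟩ := hk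
    have hi : frattiniAut (α ^ i) = 1 := by rw [map_zpow, h, one_zpow]
    have h2 : ((α ^ i) x : P ⧸ frattini P) = (x : P ⧸ frattini P) :=
      DFunLike.congr_fun hi (x : P ⧸ frattini P)
    have h3 : (α ^ i) x * x⁻¹ ∈ frattini P := by
      simpa [div_eq_mul_inv] using QuotientGroup.eq_iff_div_mem.1 h2
    refine ⟨e ((α ^ i) x * x⁻¹), ?_, ?_⟩
    · have hc : (frattini P).map e.toMonoidHom = frattini K := LargeExtraspecial.frattini_equiv e
      rw [← hc]
      exact mem_map_of_mem _ h3
    · show SemidirectProduct.inl ((α ^ i) x * x⁻¹) = _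
      rw [map_mul, map_inv, ← T51.holP_conj, map_zpow]

theorem solvable_ker_frattiniAut [Finite P] (hP : IsPGroup 2 P) :
    Group.IsSolvable (frattiniAut (P := P)).ker := by
  haveI : Fact (Nat.Prime 2) := ⟨Nat.prime_two⟩
  haveI : Finite (MulAut P) := Finite.of_injective _ DFunLike.coe_injective
  have h2 : IsPGroup 2 (frattiniAut (P := P)).ker := by
    obtain ⟨a, m, hm, ho⟩ := Nat.exists_eq_pow_mul_and_not_dvd
      (Nat.card_pos (α := (frattiniAut (P := P)).ker)).ne' 2 (by norm_num)
    refine IsPGroup.of_card (n := a) ?_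
    by_contra hne
    obtain ⟨r, hr, hrd⟩ := Nat.exists_prime_and_dvd (n := m) (fun h => hne (by rw [ho, h, mul_one]))
    haveI := Fact.mk hr
    obtain ⟨β, hβ⟩ := exists_prime_orderOf_dvd_card' (G := (frattiniAut (P := P)).ker) r
      (ho ▸ dvd_mul_of_dvd_right hrd _)
    have h1 := eq_one_of_frattiniAut hP (α := (β : MulAut P)) (by
      rw [Subgroup.orderOf_coe, hβ]
      exact (Nat.coprime_primes hr Nat.prime_two).2 fun e => hm (e ▸ hrd)) β.2
    rw [(Subtype.ext h1 : β = 1), orderOf_one] at hβ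
    exact hr.one_lt.ne hβ
  haveI := h2.isNilpotent
  infer_instance

/-- A two-generated or three-generated Frattini quotient is small. -/
theorem card_frattini_quotient_dvd [Finite P] (hP : IsPGroup 2 P) (l : List P)
    (hl : Subgroup.closure {x | x ∈ l} = ⊤) : Nat.card (P ⧸ frattini P) ∣ 2 ^ l.length := by
  haveI : Fact (Nat.Prime 2) := ⟨Nat.prime_two⟩
  letI : CommGroup (P ⧸ frattini P) :=
    { (inferInstance : Group (P ⧸ frattini P)) with
      mul_comm := fun a b => PGroup.quotient_frattini_commute hP a b }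
  have key : ∀ m : List (P ⧸ frattini P),
      Nat.card (Subgroup.closure {x | x ∈ m}) ∣ 2 ^ m.length := by
    intro m
    induction m with
    | nil => simp
    | cons a m ih =>
      rw [show {x | x ∈ a :: m} = {a} ∪ {x | x ∈ m} by ext; simp, Subgroup.closure_union,
        ← Subgroup.zpowers_eq_closure, List.length_cons, pow_succ']
      refine (Thompson.card_sup_dvd_mul _ _).trans (mul_dvd_mul ?_ ih)
      rw [Nat.card_zpowers]
      exact orderOf_dvd_of_pow_eq_one (PGroup.quotient_frattini_pow hP a)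
  have h := key (l.map (QuotientGroup.mk' (frattini P)))
  rw [List.length_map, show {x | x ∈ l.map (QuotientGroup.mk' (frattini P))} =
    (QuotientGroup.mk' (frattini P)) '' {x | x ∈ l} by ext; simp, ← MonoidHom.map_closure, hl,
    Subgroup.map_top_of_surjective _ (QuotientGroup.mk'_surjective _), card_top] at h
  exact h

theorem solvable_mulAut_le_four {Q : Type*} [Group Q] [Finite Q] (h : Nat.card Q ≤ 4) :
    Group.IsSolvable (MulAut Q) := by
  classical
  haveI : Finite (MulAut Q) := Finite.of_injective _ DFunLike.coe_injective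
  haveI := Fintype.ofFinite Q
  refine solvable_of_dvd Nat.prime_two Nat.prime_three (a := 3) (b := 1) ?_
  have h1 : Nat.card (MulAut Q) ∣ Nat.card (Equiv.Perm Q) :=
    Subgroup.card_dvd_of_injective (MulAut.toPerm Q) (fun a b h => MulEquiv.ext fun x =>
      congrArg (fun f : Equiv.Perm Q => f x) h)
  rw [Nat.card_perm] at h1
  exact h1.trans ((Nat.factorial_dvd_factorial h).trans (by decide))

end frattiniAut

variable {G : Type u} [Group G] [Finite G]

omit [Finite G] in
theorem conj_mem_stab {H : Subgroup G} {g : G} (hg : g ∈ normalizer (H : Set G)) :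
    MulAut.conj g ∈ stab H := fun x => (mem_normalizer_iff.1 hg x).symm

/-- The conjugation action of the normaliser. -/
def conjRes (H : Subgroup G) : ↥(normalizer (H : Set G)) →* MulAut H :=
  (res H).comp (((MulAut.conj).comp (normalizer (H : Set G)).subtype).codRestrict (stab H)
    fun g => conj_mem_stab g.2)

omit [Finite G] in
theorem stab_le_normalizer_conjRes {H : Subgroup G} (φ : ↥(stab H)) :
    res H φ ∈ normalizer ((conjRes H).range : Set (MulAut H)) := by
  have hmem : ∀ (ψ : ↥(stab H)) (g : G), g ∈ normalizer (H : Set G) →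
      ψ.1 g ∈ normalizer (H : Set G) := by
    intro ψ g hg
    rw [mem_normalizer_iff]
    intro x
    obtain ⟨y, rfl⟩ := ψ.1.surjective x
    rw [← map_inv, ← map_mul, ← map_mul, ψ.2, ψ.2]
    exact mem_normalizer_iff.1 hg y
  have key : ∀ (ψ : ↥(stab H)) (g : ↥(normalizer (H : Set G))),
      res H ψ * conjRes H g * (res H ψ)⁻¹ = conjRes H ⟨ψ.1 g, hmem ψ g g.2⟩ := by
    intro ψ g
    rw [mul_inv_eq_iff_eq_mul]
    refine MulEquiv.ext fun s => Subtype.ext ?_
    show ψ.1 ((g : G) * s * (g : G)⁻¹) = ψ.1 g * ψ.1 s * (ψ.1 g)⁻¹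
    rw [map_mul, map_mul, map_inv]
  rw [mem_normalizer_iff]
  intro a
  constructor
  · rintro ⟨g, rfl⟩
    exact ⟨_, (key φ g).symm⟩
  · rintro ⟨g, hg⟩
    refine ⟨⟨(φ⁻¹).1 g, hmem φ⁻¹ g g.2⟩, ?_⟩
    rw [← key, hg, map_inv]
    group

/-- Case (a). -/
theorem res_solvable_two_gen (S : Sylow 2 G) {a b : ↥(S : Subgroup G)}
    (h : Subgroup.closure ({a, b} : Set ↥(S : Subgroup G)) = ⊤) :
    Group.IsSolvable ↥(res (S : Subgroup G)).range := by
  haveI : Fact (Nat.Prime 2) := ⟨Nat.prime_two⟩
  have hd := card_frattini_quotient_dvd S.2 [a, b]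
    (by rw [show {x | x ∈ [a, b]} = ({a, b} : Set ↥(S : Subgroup G)) by ext; simp]; exact h)
  haveI := solvable_mulAut_le_four (Nat.le_of_dvd (by norm_num) hd)
  haveI : Group.IsSolvable (MulAut ↥(S : Subgroup G)) :=
    solvable_of_ker_range frattiniAut (solvable_ker_frattiniAut S.2)
      (Group.isSolvable_of_isSolvable_injective (f := frattiniAut.range.subtype) Subtype.coe_injective)
  exact Group.isSolvable_of_isSolvable_injective (f := (res (S : Subgroup G)).range.subtype)
    Subtype.coe_injective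

/-- Case (b). -/
theorem res_solvable_three_gen (hFT : OddOrderGlue.FeitThompson.{u}) (S : Sylow 2 G)
    {a b c : ↥(S : Subgroup G)}
    (h : Subgroup.closure ({a, b, c} : Set ↥(S : Subgroup G)) = ⊤) {g : G}
    (hg : g ∈ normalizer ((S : Subgroup G) : Set G)) (ho : Odd (orderOf g))
    (hgc : g ∉ centralizer ((S : Subgroup G) : Set G)) :
    Group.IsSolvable ↥(res (S : Subgroup G)).range := by
  haveI : Fact (Nat.Prime 2) := ⟨Nat.prime_two⟩
  have hd := card_frattini_quotient_dvd S.2 [a, b, c]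
    (by rw [show {x | x ∈ [a, b, c]} = ({a, b, c} : Set ↥(S : Subgroup G)) by ext; simp]; exact h)
  set f := (frattiniAut (P := ↥(S : Subgroup G))).comp (res (S : Subgroup G)) with hf
  suffices hX : Group.IsSolvable f.range by
    haveI := hX
    set X := (res (S : Subgroup G)).range
    refine solvable_of_ker_range ((frattiniAut (P := ↥(S : Subgroup G))).comp X.subtype) ?_ ?_
    · haveI := solvable_ker_frattiniAut (P := ↥(S : Subgroup G)) S.2
      refine Group.isSolvable_of_isSolvable_injective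
        (f := (X.subtype.comp (Subgroup.subtype _)).codRestrict (frattiniAut (P := ↥(S : Subgroup G))).ker
          fun x => x.2) ?_
      intro x y e
      refine Subtype.ext (Subtype.ext ?_)
      exact congrArg (fun t : ↥(frattiniAut (P := ↥(S : Subgroup G))).ker => (t : MulAut ↥(S : Subgroup G))) e
    · have hle : ((frattiniAut (P := ↥(S : Subgroup G))).comp X.subtype).range ≤ f.range := by
        rintro _ ⟨⟨_, φ, rfl⟩, rfl⟩
        exact ⟨φ, rfl⟩
      exact Group.isSolvable_of_isSolvable_injective (f := inclusion hle) (inclusion_injective hle)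
  haveI : Finite (MulAut (↥(S : Subgroup G) ⧸ frattini ↥(S : Subgroup G))) := Finite.of_injective _ DFunLike.coe_injective
  set fN := (frattiniAut (P := ↥(S : Subgroup G))).comp (conjRes (S : Subgroup G)) with hfN
  have hle : fN.range ≤ f.range := by
    rintro _ ⟨x, rfl⟩
    exact ⟨⟨_, conj_mem_stab x.2⟩, rfl⟩
  have hnorm : (fN.range.subgroupOf f.range).Normal := by
    refine (normal_subgroupOf_iff_le_normalizer hle).2 ?_
    rintro _ ⟨φ, rfl⟩
    rw [hfN, MonoidHom.range_comp]
    exact le_normalizer_map (frattiniAut (P := ↥(S : Subgroup G)))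
      (mem_map_of_mem _ (stab_le_normalizer_conjRes φ))
  -- odd order
  have hodd : Odd (Nat.card fN.range) := by
    refine Nat.not_even_iff_odd.1 fun hev => ?_
    have hle' : ((S : Subgroup G).subgroupOf (normalizer ((S : Subgroup G) : Set G))) ≤ fN.ker := by
      intro x hx
      rw [MonoidHom.mem_ker]
      refine MulEquiv.ext fun q => ?_
      obtain ⟨s, rfl⟩ := QuotientGroup.mk'_surjective (frattini ↥(S : Subgroup G)) q
      show QuotientGroup.mk' (frattini ↥(S : Subgroup G)) ((⟨x, hx⟩ : ↥(S : Subgroup G)) * s * (⟨x, hx⟩ : ↥(S : Subgroup G))⁻¹) = _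
      rw [map_mul, map_mul, map_inv, (PGroup.quotient_frattini_commute S.2 _ _).eq]
      exact inv_mul_cancel_left _ _
    have h1 : Nat.card fN.range ∣
        ((S : Subgroup G).subgroupOf (normalizer ((S : Subgroup G) : Set G))).index := by
      rw [← index_ker]
      exact index_dvd_of_le hle'
    have h2 := (even_iff_two_dvd.1 hev).trans (h1.trans
      (relIndex_dvd_index_of_le (le_normalizer (H := (S : Subgroup G)))))
    exact S.not_dvd_index h2
  -- non-trivial
  have hne : fN.range ≠ ⊥ := by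
    intro hbot
    have h1 : frattiniAut (conjRes (S : Subgroup G) ⟨g, hg⟩) = 1 :=
      mem_bot.1 (hbot ▸ (⟨⟨g, hg⟩, rfl⟩ : fN ⟨g, hg⟩ ∈ fN.range))
    have h2 : conjRes (S : Subgroup G) ⟨g, hg⟩ = 1 := eq_one_of_frattiniAut S.2
      (Nat.coprime_two_right.2 (ho.of_dvd_nat ((orderOf_map_dvd _ _).trans
        (Subgroup.orderOf_mk g hg).dvd))) h1
    refine hgc (mem_centralizer_iff.2 fun s hs => ?_)
    have h3 := congrArg Subtype.val (DFunLike.congr_fun h2 ⟨s, hs⟩)
    exact (mul_inv_eq_iff_eq_mul.1 h3).symm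
  by_cases h4 : Nat.card (↥(S : Subgroup G) ⧸ frattini ↥(S : Subgroup G)) ≤ 4
  · haveI := solvable_mulAut_le_four h4
    exact Group.isSolvable_of_isSolvable_injective (f := f.range.subtype) Subtype.coe_injective
  have h8 : Nat.card (↥(S : Subgroup G) ⧸ frattini ↥(S : Subgroup G)) = 2 ^ 3 := by
    obtain ⟨i, hi, hi'⟩ := (Nat.dvd_prime_pow Nat.prime_two).1 hd
    rw [hi'] at h4 ⊢
    simp only [List.length_cons, List.length_nil] at hi
    interval_cases i <;> simp_all
  letI : CommGroup (↥(S : Subgroup G) ⧸ frattini ↥(S : Subgroup G)) :=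
    { (inferInstance : Group (↥(S : Subgroup G) ⧸ frattini ↥(S : Subgroup G))) with
      mul_comm := fun x y => PGroup.quotient_frattini_commute S.2 x y }
  have h168 : Nat.card f.range ∣ 168 := by
    refine (card_subgroup_dvd_card f.range).trans ?_
    have h := TransNormaliser.card_mulAut_dvd (V := ↥(S : Subgroup G) ⧸ frattini ↥(S : Subgroup G))
      (fun v => PGroup.quotient_frattini_pow S.2 v) h8
    simp only [Fin.prod_univ_three] at h
    norm_num at h
    exact h
  haveI := hnorm
  haveI : Group.IsSolvable (fN.range.subgroupOf f.range) := hFT _ (by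
    rwa [Nat.card_congr (subgroupOfEquivOfLe hle).toEquiv])
  have hq : Group.IsSolvable (f.range ⧸ fN.range.subgroupOf f.range) := by
    have hcard : Nat.card (f.range ⧸ fN.range.subgroupOf f.range) * Nat.card fN.range ∣ 168 := by
      rw [← Nat.card_congr (subgroupOfEquivOfLe hle).toEquiv, ← card_eq_card_quotient_mul_card_subgroup]
      exact h168
    set m := Nat.card (f.range ⧸ fN.range.subgroupOf f.range)
    set k := Nat.card fN.range
    have hk1 : 1 < k := (one_lt_card_iff_ne_bot _).2 hne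
    have hk168 : k ∣ 168 := (dvd_mul_left k m).trans hcard
    have hm : m ∣ 2 ^ 3 * 3 ^ 1 ∨ m ∣ 2 ^ 3 * 7 ^ 1 := by
      have hk : k ∈ Nat.divisors 168 := Nat.mem_divisors.2 ⟨hk168, by norm_num⟩
      have htab : ∀ d ∈ Nat.divisors 168, Odd d → 1 < d → 168 / d ∣ 24 ∨ 168 / d ∣ 56 := by decide
      obtain ⟨t, ht⟩ := hcard
      have hmd : m ∣ 168 / k := ⟨t, by
        rw [ht, show m * k * t = k * (m * t) by ring, Nat.mul_div_cancel_left _ (by omega)]⟩
      rcases htab k hk hodd hk1 with h | h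
      · exact Or.inl (hmd.trans h)
      · exact Or.inr (hmd.trans h)
    rcases hm with h | h
    · exact solvable_of_dvd Nat.prime_two Nat.prime_three h
    · exact solvable_of_dvd Nat.prime_two (by norm_num) h
  haveI := hq
  exact Group.isSolvable_of_ker_le_range (fN.range.subgroupOf f.range).subtype
    (QuotientGroup.mk' (fN.range.subgroupOf f.range)) (by rw [QuotientGroup.ker_mk', range_subtype])

/-- Case (c). -/
theorem res_solvable_commuting (hFT : OddOrderGlue.FeitThompson.{u}) (S : Sylow 2 G)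
    (hc : ∀ s ∈ (S : Subgroup G), ∀ t ∈ (S : Subgroup G), orderOf s = 2 → orderOf t = 2 → s * t = t * s)
    (hconj : ∀ s ∈ (S : Subgroup G), ∀ t ∈ (S : Subgroup G), orderOf s = 2 → orderOf t = 2 →
      ∃ g : G, g * s * g⁻¹ = t) :
    Group.IsSolvable ↥(res (S : Subgroup G)).range := by
  haveI : Fact (Nat.Prime 2) := ⟨Nat.prime_two⟩
  have hcomm : ∀ s ∈ (S : Subgroup G), ∀ t ∈ (S : Subgroup G), s ^ 2 = 1 → t ^ 2 = 1 → s * t = t * s := by
    intro s hs t ht hs2 ht2
    rcases eq_or_ne s 1 with rfl | h1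
    · rw [one_mul, mul_one]
    rcases eq_or_ne t 1 with rfl | h2
    · rw [one_mul, mul_one]
    exact hc s hs t ht (orderOf_eq_prime hs2 h1) (orderOf_eq_prime ht2 h2)
  let E : Subgroup G :=
    { carrier := {x | x ∈ (S : Subgroup G) ∧ x ^ 2 = 1}
      one_mem' := ⟨one_mem _, one_pow _⟩
      mul_mem' := fun {a b} ha hb => ⟨mul_mem ha.1 hb.1, by
        rw [(show Commute a b from hcomm a ha.1 b hb.1 ha.2 hb.2).mul_pow, ha.2, hb.2, one_mul]⟩
      inv_mem' := fun {a} ha => ⟨inv_mem ha.1, by rw [inv_pow, ha.2, inv_one]⟩ }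
  letI : CommGroup E :=
    { (inferInstance : Group E) with
      mul_comm := fun a b => Subtype.ext (hcomm a a.2.1 b b.2.1 a.2.2 b.2.2) }
  have hES : E ≤ (S : Subgroup G) := fun x hx => hx.1
  have hexp : ∀ v : E, v ^ 2 = 1 := fun v => Subtype.ext v.2.2
  have hstab : stab (S : Subgroup G) ≤ stab E := fun φ hφ x => by
    show (φ x ∈ (S : Subgroup G) ∧ (φ x) ^ 2 = 1) ↔ (x ∈ (S : Subgroup G) ∧ x ^ 2 = 1)
    rw [hφ, ← map_pow, map_eq_one_iff φ φ.injective]
  have hSN : (S : Subgroup G) ≤ normalizer (E : Set G) := fun s hs => by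
    rw [mem_normalizer_iff]
    exact fun x => ((hstab (conj_mem_stab (le_normalizer hs))) x).symm
  -- restriction
  let r : MulAut ↥(S : Subgroup G) →* MulAut E :=
    { toFun := fun φ =>
        { toFun := fun e => ⟨φ ⟨e, hES e.2⟩, (φ ⟨e, hES e.2⟩).2, by
            rw [← SubmonoidClass.coe_pow, ← map_pow, show (⟨(e : G), hES e.2⟩ : ↥(S : Subgroup G)) ^ 2 = 1
              from Subtype.ext e.2.2, map_one]
            rfl⟩
          invFun := fun e => ⟨φ⁻¹ ⟨e, hES e.2⟩, (φ⁻¹ ⟨e, hES e.2⟩).2, by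
            rw [← SubmonoidClass.coe_pow, ← map_pow, show (⟨(e : G), hES e.2⟩ : ↥(S : Subgroup G)) ^ 2 = 1
              from Subtype.ext e.2.2, map_one]
            rfl⟩
          left_inv := fun e => by
            refine Subtype.ext ?_
            exact congrArg (fun t : ↥(S : Subgroup G) => (t : G)) (MulAut.inv_apply_self _ φ ⟨e, hES e.2⟩)
          right_inv := fun e => by
            refine Subtype.ext ?_
            exact congrArg (fun t : ↥(S : Subgroup G) => (t : G)) (MulAut.apply_inv_self _ φ ⟨e, hES e.2⟩)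
          map_mul' := fun a b => by
            refine Subtype.ext ?_
            exact congrArg (fun t : ↥(S : Subgroup G) => (t : G))
              (map_mul φ (⟨a, hES a.2⟩ : ↥(S : Subgroup G)) ⟨b, hES b.2⟩) }
      map_one' := rfl
      map_mul' := fun _ _ => rfl }
  set X := (res (S : Subgroup G)).range
  refine solvable_of_ker_range (r.comp X.subtype) ?_ ?_
  · haveI := Aniso.isSolvable_fixing ↥(S : Subgroup G) hFT S.2
      (fun e f he hf => Subtype.ext
        (hcomm e e.2 f f.2 (congrArg Subtype.val he) (congrArg Subtype.val hf)))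
      r.ker (fun α hα e he => Subtype.ext
        (congrArg (fun t : E => (t : G)) (DFunLike.congr_fun hα ⟨e, e.2, congrArg Subtype.val he⟩) :))
    refine Group.isSolvable_of_isSolvable_injective
      (f := (X.subtype.comp (Subgroup.subtype _)).codRestrict r.ker fun x => x.2) ?_
    intro x y e
    refine Subtype.ext (Subtype.ext ?_)
    exact congrArg (fun t : r.ker => (t : MulAut ↥(S : Subgroup G))) e
  set SN := (S : Subgroup G).subgroupOf (normalizer (E : Set G))
  set M := (conjRes E).range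
  set T := SN.map (conjRes E)
  have hT2 : IsPGroup 2 T := (S.2.of_equiv (subgroupOfEquivOfLe hSN).symm).map _
  have hTi : Odd (T.relIndex M) := by
    have h1 : T.relIndex M ∣ SN.index := by
      show (T.subgroupOf M).index ∣ _
      rw [show T.subgroupOf M = SN.map (conjRes E).rangeRestrict by
        ext x
        constructor
        · rintro ⟨y, hy, e⟩; exact ⟨y, hy, Subtype.ext e⟩
        · rintro ⟨y, hy, e⟩; exact ⟨y, hy, congrArg Subtype.val e⟩]
      exact index_map_dvd _ (conjRes E).rangeRestrict_surjective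
    refine Nat.not_even_iff_odd.1 fun hev => S.not_dvd_index ?_
    exact (even_iff_two_dvd.1 hev).trans (h1.trans (relIndex_dvd_index_of_le hSN))
  have htrans : ∀ v w : E, v ≠ 1 → w ≠ 1 → ∃ m ∈ M, m v = w := by
    intro v w hv hw
    have hv2 : orderOf (v : G) = 2 := orderOf_eq_prime v.2.2 fun h => hv (Subtype.ext h)
    have hw2 : orderOf (w : G) = 2 := orderOf_eq_prime w.2.2 fun h => hw (Subtype.ext h)
    obtain ⟨g, hg⟩ := hconj v v.2.1 w w.2.1 hv2 hw2
    set C := centralizer ({(w : G)} : Set G)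
    have hEC : E ≤ C := fun x hx => mem_centralizer_iff.2 fun y hy => by
      rw [Set.mem_singleton_iff.1 hy]
      exact hcomm w w.2.1 x hx.1 w.2.2 hx.2
    set Eg := E.map (MulAut.conj g).toMonoidHom
    have hgC : Eg ≤ C := by
      rintro _ ⟨x, hx, rfl⟩
      refine mem_centralizer_iff.2 fun y hy => ?_
      rw [Set.mem_singleton_iff.1 hy, ← hg]
      show g * v * g⁻¹ * (g * x * g⁻¹) = g * x * g⁻¹ * (g * v * g⁻¹)
      calc g * v * g⁻¹ * (g * x * g⁻¹) = g * (v * x) * g⁻¹ := by group
        _ = g * (x * v) * g⁻¹ := by rw [hcomm v v.2.1 x hx.1 v.2.2 hx.2]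
        _ = _ := by group
    have hE2 : IsPGroup 2 E := fun x => ⟨1, by rw [pow_one]; exact hexp x⟩
    obtain ⟨P1, hP1⟩ := (hE2.of_equiv (subgroupOfEquivOfLe hEC).symm).exists_le_sylow
    obtain ⟨P2, hP2⟩ := ((hE2.map _).of_equiv (subgroupOfEquivOfLe hgC).symm).exists_le_sylow
    obtain ⟨c, hc⟩ := MulAction.exists_smul_eq C P2 P1
    set x : G := (c : G) * g with hx
    obtain ⟨T1, hT1⟩ := (P1.2.map C.subtype).exists_le_sylow
    obtain ⟨h, hh⟩ := MulAction.exists_smul_eq G T1 S
    have hmove : ∀ y, y ∈ ((P1 : Subgroup C).map C.subtype) → h * y * h⁻¹ ∈ (S : Subgroup G) := by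
      intro y hy
      rw [← hh, Sylow.smul_def, Sylow.pointwise_smul_def]
      exact smul_mem_pointwise_smul _ (MulAut.conj h) _ (hT1 hy)
    have hsub : ∀ d : G, (∀ e ∈ E, d * e * d⁻¹ ∈ (P1 : Subgroup C).map C.subtype) →
        h * d ∈ normalizer (E : Set G) := by
      intro d hd
      rw [mem_normalizer_iff_map_conj_eq]
      refine eq_of_le_of_card_ge ?_ (le_of_eq (card_map_of_injective (MulAut.conj _).injective).symm)
      rintro _ ⟨e, he, rfl⟩
      refine ⟨?_, ?_⟩
      · show h * d * e * (h * d)⁻¹ ∈ (S : Subgroup G)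
        rw [show h * d * e * (h * d)⁻¹ = h * (d * e * d⁻¹) * h⁻¹ by group]
        exact hmove _ (hd e he)
      · show (h * d * e * (h * d)⁻¹) ^ 2 = 1
        rw [conj_pow, he.2, mul_one, mul_inv_cancel]
    have h1 : h * 1 ∈ normalizer (E : Set G) := hsub 1 fun e he => by
      rw [one_mul, inv_one, mul_one]
      exact ⟨⟨e, hEC he⟩, hP1 he, rfl⟩
    have h2 : h * x ∈ normalizer (E : Set G) := hsub x fun e he => by
      have h3 : (⟨g * e * g⁻¹, hgC ⟨e, he, rfl⟩⟩ : C) ∈ (P2 : Subgroup C) := hP2 ⟨e, he, rfl⟩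
      have h4 := smul_mem_pointwise_smul _ (MulAut.conj c) (P2 : Subgroup C) h3
      rw [← Sylow.pointwise_smul_def, ← Sylow.smul_def, hc] at h4
      refine ⟨_, h4, ?_⟩
      show (c : G) * (g * e * g⁻¹) * (c : G)⁻¹ = x * e * x⁻¹
      rw [hx]; group
    have hxN : x ∈ normalizer (E : Set G) := by
      have := mul_mem (inv_mem h1) h2
      rwa [mul_one, inv_mul_cancel_left] at this
    refine ⟨conjRes E ⟨x, hxN⟩, ⟨_, rfl⟩, Subtype.ext ?_⟩
    show x * v * x⁻¹ = w
    rw [hx, show (c : G) * g * v * ((c : G) * g)⁻¹ = (c : G) * (g * v * g⁻¹) * (c : G)⁻¹ by group, hg,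
      ← mem_centralizer_iff.1 c.2 (w : G) rfl, mul_inv_cancel_right]
  have hfac : ∀ φ : ↥(stab (S : Subgroup G)),
      r (res (S : Subgroup G) φ) = res E (inclusion hstab φ) := fun φ => rfl
  refine TransNormaliser.solvable_stabiliser hFT hexp M htrans T (map_le_range _ _) hT2 hTi _ ?_ ?_
  · rintro _ ⟨⟨_, φ, rfl⟩, rfl⟩
    exact stab_le_normalizer_conjRes (inclusion hstab φ)
  · rintro _ ⟨⟨_, φ, rfl⟩, rfl⟩
    show r (res (S : Subgroup G) φ) ∈ _
    rw [mem_normalizer_iff_map_conj_eq]
    refine eq_of_le_of_card_ge ?_ (le_of_eq (card_map_of_injective (MulAut.conj _).injective).symm)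
    rintro _ ⟨_, ⟨s, hs, rfl⟩, rfl⟩
    refine ⟨⟨φ.1 s, hSN ((φ.2 s).2 hs)⟩, (φ.2 s).2 hs, ?_⟩
    show _ = r (res (S : Subgroup G) φ) * conjRes E s * (r (res (S : Subgroup G) φ))⁻¹
    rw [eq_mul_inv_iff_mul_eq, hfac]
    refine MulEquiv.ext fun e => Subtype.ext ?_
    show φ.1 s * φ.1 e * (φ.1 s)⁻¹ = φ.1 ((s : G) * e * (s : G)⁻¹)
    rw [map_mul, map_mul, map_inv]

/-- The statement of S3066, given the odd order theorem. -/
theorem out_solvable [IsSimpleGroup G] (hFT : OddOrderGlue.FeitThompson.{u}) (S : Sylow 2 G)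
    (hS1 : (S : Subgroup G) ≠ ⊥)
    (h : (∃ a b : ↥S, Subgroup.closure ({a, b} : Set ↥S) = ⊤) ∨
      ((∃ a b c : ↥S, Subgroup.closure ({a, b, c} : Set ↥S) = ⊤) ∧
        ∃ g ∈ Subgroup.normalizer ((S : Subgroup G) : Set G), Odd (orderOf g) ∧
          g ∉ Subgroup.centralizer ((S : Subgroup G) : Set G)) ∨
      ((∀ s ∈ S, ∀ t ∈ S, orderOf s = 2 → orderOf t = 2 → s * t = t * s) ∧
        (∀ s ∈ S, ∀ t ∈ S, orderOf s = 2 → orderOf t = 2 → ∃ g : G, g * s * g⁻¹ = t))) :
    Group.IsSolvable (Cfsg.Out G) := by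
  refine out_solvable_of_res hFT S hS1 ?_
  rcases h with ⟨a, b, hab⟩ | ⟨⟨a, b, c, habc⟩, g, hg, ho, hgc⟩ | ⟨hc, hconj⟩
  · exact res_solvable_two_gen S hab
  · exact res_solvable_three_gen hFT S habc hg ho hgc
  · exact res_solvable_commuting hFT S hc hconj

end Cfsg.Agent.FG75.OutCriteria
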