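import Mathlib

/-!
Involutions of PSL(2, F): two of them are either joined by an element of odd order or have a common
neighbour in this sense.
-/

set_option autoImplicit false
set_option linter.all false

namespace Cfsg.Agent.FG75.PSLInvGraph

open Matrix

variable {F : Type*} [Field F]

local notation "M2" => Matrix (Fin 2) (Fin 2) F
local notation "SL2" => Matrix.SpecialLinearGroup (Fin 2) F
local notation "PSL2" => Matrix.ProjectiveSpecialLinearGroup (Fin 2) F

/-- the projection -/
def pr : Matrix.SpecialLinearGroup (Fin 2) F →* Matrix.ProjectiveSpecialLinearGroup (Fin 2) F :=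
  QuotientGroup.mk' _

lemma pr_surjective : Function.Surjective (pr (F := F)) := QuotientGroup.mk'_surjective _

lemma pr_eq_one_iff (A : SL2) : pr A = 1 ↔ ∃ c : F, (A : M2) = c • (1 : M2) := by
  rw [pr, QuotientGroup.mk'_apply, QuotientGroup.eq_one_iff,
    Matrix.SpecialLinearGroup.mem_center_iff]
  constructor
  · rintro ⟨c, -, hc⟩
    exact ⟨c, by rw [← hc, Matrix.scalar_apply, Matrix.smul_one_eq_diagonal]⟩
  · rintro ⟨c, hc⟩
    refine ⟨c, ?_, by rw [hc, Matrix.scalar_apply, Matrix.smul_one_eq_diagonal]⟩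
    have := A.2
    rw [hc, Matrix.det_smul, Matrix.det_one, mul_one] at this
    exact this

lemma cayley (M : M2) : M * M = M.trace • M - M.det • (1 : M2) := by
  ext i j
  fin_cases i <;> fin_cases j <;>
    simp [Matrix.mul_apply, Fin.sum_univ_two, Matrix.trace_fin_two, Matrix.det_fin_two] <;> ring

lemma sq_eq_neg_one {M : M2} (hT : M.trace = 0) (hd : M.det = 1) : M * M = -1 := by
  rw [cayley, hT, hd, zero_smul, one_smul, zero_sub]

lemma anti {M N : M2} (hM : M.trace = 0) (hN : N.trace = 0) :
    M * N + N * M = (M * N).trace • (1 : M2) := by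
  have hM' : M 1 1 = -M 0 0 := eq_neg_of_add_eq_zero_right (by rwa [Matrix.trace_fin_two] at hM)
  have hN' : N 1 1 = -N 0 0 := eq_neg_of_add_eq_zero_right (by rwa [Matrix.trace_fin_two] at hN)
  ext i j
  fin_cases i <;> fin_cases j <;>
    simp [Matrix.mul_apply, Fin.sum_univ_two, Matrix.trace_fin_two, hM', hN'] <;> ring

/-- a matrix of determinant one -/
def mk2 (U : Matrix (Fin 2) (Fin 2) F) (h : U.det = 1) : Matrix.SpecialLinearGroup (Fin 2) F :=
  ⟨U, h⟩

@[simp] lemma coe_mk2 (U : M2) (h : U.det = 1) : ((mk2 U h : SL2) : M2) = U := rfl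

/-- trace zero, not central -/
def Inv (A : SL2) : Prop := (A : M2).trace = 0 ∧ pr A ≠ 1

lemma Inv.sq {A : SL2} (h : Inv A) : (A : M2) * A = -1 := sq_eq_neg_one h.1 A.2

lemma Inv.pr_sq {A : SL2} (h : Inv A) : pr A * pr A = 1 := by
  rw [← map_mul, pr_eq_one_iff]
  exact ⟨-1, by rw [Matrix.SpecialLinearGroup.coe_mul, h.sq, neg_smul, one_smul]⟩

lemma Inv.order {A : SL2} (h : Inv A) : orderOf (pr A) = 2 :=
  orderOf_eq_prime (by rw [pow_two]; exact h.pr_sq) h.2

lemma exists_inv {x : PSL2} (hx : orderOf x = 2) : ∃ A : SL2, Inv A ∧ pr A = x := by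
  obtain ⟨A, rfl⟩ := pr_surjective x
  have hne : pr A ≠ 1 := fun h => by rw [h, orderOf_one] at hx; omega
  refine ⟨A, ⟨?_, hne⟩, rfl⟩
  by_contra hT
  have h2 : pr (A * A) = 1 := by
    have := pow_orderOf_eq_one (pr A)
    rw [hx, pow_two] at this
    rw [map_mul]; exact this
  obtain ⟨c, hc⟩ := (pr_eq_one_iff _).1 h2
  rw [Matrix.SpecialLinearGroup.coe_mul, cayley, A.2, one_smul, sub_eq_iff_eq_add] at hc
  refine hne ((pr_eq_one_iff A).2 ⟨(A : M2).trace⁻¹ * (c + 1), ?_⟩)
  rw [mul_smul, add_smul, one_smul, ← hc, smul_smul, inv_mul_cancel₀ hT, one_smul]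

/-- the product of the two involutions has odd order -/
def Adj (A B : SL2) : Prop := Odd (orderOf (pr A * pr B))

lemma odd_of_pow_eq {P : SL2} {k : ℕ} {e : F} (hk : Odd k) (h : (P : M2) ^ k = e • (1 : M2)) :
    Odd (orderOf (pr P)) := by
  refine hk.of_dvd_nat (orderOf_dvd_of_pow_eq_one ?_)
  rw [← map_pow, pr_eq_one_iff]
  exact ⟨e, by rw [Matrix.SpecialLinearGroup.coe_pow, h]⟩

lemma pow_eq (P : SL2) : ∀ k : ℕ, ∃ u v : F, (P : M2) ^ k = u • (P : M2) + v • (1 : M2) := by
  intro k
  induction k with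
  | zero => exact ⟨0, 1, by simp⟩
  | succ k ih =>
    obtain ⟨u, v, h⟩ := ih
    refine ⟨u * (P : M2).trace + v, -u, ?_⟩
    rw [pow_succ, h, add_mul, smul_mul_assoc, smul_mul_assoc, one_mul, cayley, P.2]
    simp only [smul_sub, smul_smul, one_smul, add_smul, neg_smul]
    abel

variable [Finite F]

lemma odd_char_two (h2 : (2 : F) = 0) {P : SL2} (hT : (P : M2).trace ≠ 0) :
    Odd (orderOf (pr P)) := by
  by_contra hodd
  obtain ⟨m, hm⟩ := even_iff_two_dvd.1 (Nat.not_odd_iff_even.1 hodd)
  have hpos : 0 < orderOf (pr P) := orderOf_pos _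
  have hne : pr (P ^ m) ≠ 1 := by
    rw [map_pow]
    exact pow_ne_one_of_lt_orderOf (by omega) (by omega)
  have ho : orderOf (pr (P ^ m)) = 2 := orderOf_eq_prime (by
    rw [map_pow, ← pow_mul, mul_comm, ← hm, pow_orderOf_eq_one]) hne
  obtain ⟨A, hA, hAP⟩ := exists_inv ho
  obtain ⟨c, hc⟩ := (pr_eq_one_iff (A⁻¹ * P ^ m)).1 (by rw [map_mul, map_inv, hAP, inv_mul_cancel])
  have hPm : (P : M2) ^ m = c • (A : M2) := by
    have := congrArg ((A : M2) * ·) hc
    simp only [← Matrix.SpecialLinearGroup.coe_mul, mul_inv_cancel_left] at this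
    rw [mul_smul_comm, mul_one, Matrix.SpecialLinearGroup.coe_pow] at this
    exact this
  obtain ⟨u, v, huv⟩ := pow_eq P m
  have htr := congrArg Matrix.trace (huv.symm.trans hPm)
  rw [Matrix.trace_add, Matrix.trace_smul, Matrix.trace_smul, Matrix.trace_smul, hA.1,
    Matrix.trace_one, Fintype.card_fin, Nat.cast_ofNat, h2, smul_zero, smul_zero, add_zero,
    smul_eq_mul, mul_eq_zero] at htr
  refine hne ((pr_eq_one_iff _).2 ⟨v, ?_⟩)
  rw [Matrix.SpecialLinearGroup.coe_pow, huv, htr.resolve_right hT, zero_smul, zero_add]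

lemma odd_unipotent (h2 : (2 : F) ≠ 0) {P : SL2} {η : F} (hη : η * η = 1)
    (hT : (P : M2).trace = 2 * η) : Odd (orderOf (pr P)) := by
  obtain ⟨p, hchar⟩ := CharP.exists F
  have hp : p.Prime := CharP.char_is_prime F p
  haveI := Fact.mk hp
  have hp2 : p ≠ 2 := by rintro rfl; exact h2 CharTwo.two_eq_zero
  have hs : ((P : M2) - η • 1) ^ 2 = 0 := by
    rw [pow_two, sub_mul, mul_sub, mul_sub, cayley, P.2, hT]
    simp only [smul_mul_assoc, mul_smul_comm, mul_one, one_mul, smul_smul, hη, one_smul, two_mul, add_smul]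
    abel
  refine odd_of_pow_eq (hp.odd_of_ne_two hp2) (e := η ^ p) ?_
  have h0 : ((P : M2) - η • 1) ^ p = 0 := by
    rw [show p = 2 + (p - 2) by have := hp.two_le; omega, pow_add, hs, zero_mul]
  rw [sub_pow_char_of_commute (p := p) ((Commute.one_right _).smul_right η), smul_pow, one_pow,
    sub_eq_zero] at h0
  exact h0

section Three

variable [Fintype F]

lemma odd_split (hq : Fintype.card F % 4 = 3) {P : SL2} {l : F} (hl : l ≠ 0) (hl2 : l * l ≠ 1)
    (hT : (P : M2).trace = l + l⁻¹) : Odd (orderOf (pr P)) := by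
  have h2 : ringChar F ≠ 2 := fun h => by
    have := FiniteField.even_card_of_char_two h
    omega
  set k := Fintype.card F / 2 with hk
  have he : l⁻¹ ^ k = l ^ k := by
    rw [inv_pow]
    rcases FiniteField.pow_dichotomy h2 hl with h | h <;> rw [← hk] at h <;> rw [h] <;> simp
  refine odd_of_pow_eq (show Odd k from Nat.odd_iff.2 (by omega)) (e := l ^ k) ?_
  have hev : ∀ (a b : F), a * b = 1 → a + b = (P : M2).trace → ∀ j : ℕ,
      (P : M2) ^ j * ((P : M2) - b • 1) = a ^ j • ((P : M2) - b • 1) := by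
    intro a b hab hsum j
    induction j with
    | zero => simp
    | succ j ih =>
      rw [pow_succ, mul_assoc, show (P : M2) * ((P : M2) - b • 1) = a • ((P : M2) - b • 1) by
        rw [mul_sub, mul_smul_comm, mul_one, cayley, P.2, ← hsum, smul_sub, smul_smul, hab,
          one_smul, add_smul]
        abel, mul_smul_comm, ih, smul_smul, pow_succ']
  have h1 := hev l l⁻¹ (mul_inv_cancel₀ hl) hT.symm k
  have h3 := hev l⁻¹ l (inv_mul_cancel₀ hl) (by rw [hT, add_comm]) k
  rw [he] at h3
  have h4 := congrArg₂ (· - ·) h1 h3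
  simp only [← mul_sub, ← smul_sub, sub_sub_sub_cancel_left, ← sub_smul] at h4
  rw [mul_smul_comm, mul_one, smul_smul, mul_comm, ← smul_smul] at h4
  refine smul_right_injective M2 (sub_ne_zero.2 fun h : l = l⁻¹ => hl2 ?_) h4
  nth_rewrite 2 [h]
  exact mul_inv_cancel₀ hl

lemma odd_of_square (hq : Fintype.card F % 4 = 3) {P : SL2} {L : F}
    (hT : (P : M2).trace = 2 * L) (hL : IsSquare (L * L - 1)) : Odd (orderOf (pr P)) := by
  have h2 : (2 : F) ≠ 0 := Ring.two_ne_zero fun h => by
    have := FiniteField.even_card_of_char_two h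
    omega
  obtain ⟨s, hs⟩ := hL
  rcases eq_or_ne s 0 with rfl | hs0
  · exact odd_unipotent h2 (by rw [mul_zero] at hs; linear_combination hs) hT
  · have h1 : (L + s) * (L - s) = 1 := by linear_combination hs
    refine odd_split hq (l := L + s) (left_ne_zero_of_mul_eq_one h1) ?_ ?_
    · intro h
      have : L - s = L + s := by
        calc L - s = (L + s) * (L + s) * (L - s) := by rw [h, one_mul]
          _ = (L + s) * ((L + s) * (L - s)) := mul_assoc _ _ _
          _ = L + s := by rw [h1, mul_one]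
      exact hs0 (mul_left_cancel₀ h2 (by linear_combination -this))
    · rw [hT, inv_eq_of_mul_eq_one_right h1]
      ring

end Three

omit [Finite F]

/-- an involution commuting with a given one -/
lemma exists_commuting [Finite F] (hq : 4 ≤ Nat.card F) {A : SL2} (hA : Inv A) :
    ∃ U : SL2, Inv U ∧ ((A : M2) * U).trace = 0 ∧ pr U ≠ pr A := by
  haveI := Fintype.ofFinite F
  classical
  rcases eq_or_ne (2 : F) 0 with h2 | h2
  · obtain ⟨l, -, hl⟩ := Finset.exists_mem_notMem_of_card_lt_card
      (s := ({0, 1} : Finset F)) (t := Finset.univ) (by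
        rw [Finset.card_univ, ← Nat.card_eq_fintype_card]
        exact lt_of_le_of_lt Finset.card_le_two (by omega))
    simp only [Finset.mem_insert, Finset.mem_singleton, not_or] at hl
    set U : M2 := (1 - l) • 1 + l • (A : M2) with hU
    have hd : U.det = 1 := by
      have h1 := hA.1
      have h3 := A.2
      rw [Matrix.trace_fin_two] at h1
      rw [Matrix.det_fin_two] at h3
      rw [hU, Matrix.det_fin_two]
      simp
      linear_combination (1 - l) * l * h1 + l ^ 2 * h3 + (l ^ 2 - l) * h2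
    refine ⟨mk2 U hd, ⟨?_, fun h => ?_⟩, ?_, fun h => ?_⟩
    · show U.trace = 0
      rw [hU, Matrix.trace_add, Matrix.trace_smul, Matrix.trace_smul, hA.1, Matrix.trace_one,
        Fintype.card_fin, Nat.cast_ofNat, h2, smul_zero, smul_zero, add_zero]
    · obtain ⟨c, hc⟩ := (pr_eq_one_iff _).1 h
      refine hA.2 ((pr_eq_one_iff A).2 ⟨l⁻¹ * (c - (1 - l)), ?_⟩)
      have : l • (A : M2) = (c - (1 - l)) • (1 : M2) := by
        rw [sub_smul, ← hc]; simp [hU]
      rw [mul_smul, ← this, smul_smul, inv_mul_cancel₀ hl.1, one_smul]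
    · show ((A : M2) * U).trace = 0
      rw [hU, mul_add, mul_smul_comm, mul_smul_comm, mul_one, hA.sq, Matrix.trace_add,
        Matrix.trace_smul, Matrix.trace_smul, hA.1, Matrix.trace_neg, Matrix.trace_one,
        Fintype.card_fin, Nat.cast_ofNat, h2, neg_zero, smul_zero, smul_zero, add_zero]
    · obtain ⟨c, hc⟩ := (pr_eq_one_iff (mk2 U hd * A⁻¹)).1 (by rw [map_mul, map_inv, h, mul_inv_cancel])
      have hc' : U = c • (A : M2) := by
        have := congrArg (· * (A : M2)) hc
        simp only [← Matrix.SpecialLinearGroup.coe_mul, inv_mul_cancel_right] at this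
        rwa [smul_mul_assoc, one_mul] at this
      refine hA.2 ((pr_eq_one_iff A).2 ⟨(c - l)⁻¹ * (1 - l), ?_⟩)
      have h1 : (c - l) • (A : M2) = (1 - l) • (1 : M2) := by
        rw [sub_smul, ← hc', hU, add_sub_cancel_right]
      have hcl : c - l ≠ 0 := by
        intro h0
        rw [h0, zero_smul] at h1
        rcases smul_eq_zero.1 h1.symm with h' | h'
        · exact hl.2 (sub_eq_zero.1 h').symm
        · exact one_ne_zero h'
      rw [mul_smul, ← h1, smul_smul, inv_mul_cancel₀ hcl, one_smul]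
  · obtain ⟨p, hchar⟩ := CharP.exists F
    haveI : Fact p.Prime := ⟨CharP.char_is_prime F p⟩
    haveI : NeZero p := ⟨(Fact.out : p.Prime).ne_zero⟩
    obtain ⟨r, w, hrw⟩ : ∃ r w : F, r ^ 2 + w ^ 2 = -1 := by
      obtain ⟨a, b, h⟩ := CharP.sq_add_sq F p (-1)
      exact ⟨a, b, by simpa using h⟩
    obtain ⟨U, hUt, hUd, hUA⟩ : ∃ U : M2, U.trace = 0 ∧ U.det = 1 ∧ ((A : M2) * U).trace = 0 := by
      have ht := hA.1
      have hd := A.2
      rw [Matrix.trace_fin_two] at ht
      rw [Matrix.det_fin_two] at hd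
      set a := (A : M2) 0 0
      set b := (A : M2) 0 1
      set c := (A : M2) 1 0
      have hd' : (A : M2) 1 1 = -a := eq_neg_of_add_eq_zero_right ht
      rw [hd'] at hd
      have htr : ∀ x y z : F, ((A : M2) * !![x, y; z, -x]).trace = 2 * a * x + b * z + c * y := by
        intro x y z
        simp [Matrix.trace_fin_two, Matrix.mul_apply, Fin.sum_univ_two, hd']
        ring
      have htr0 : ∀ x y z : F, (!![x, y; z, -x] : M2).trace = 0 := by
        intro x y z; simp [Matrix.trace_fin_two]
      have hdet : ∀ x y z : F, (!![x, y; z, -x] : M2).det = -x ^ 2 - y * z := by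
        intro x y z; simp [Matrix.det_fin_two]; ring
      rcases eq_or_ne c 0 with hc | hc
      · rcases eq_or_ne b 0 with hb | hb
        · refine ⟨!![0, 1; -1, -0], htr0 _ _ _, by rw [hdet]; ring, ?_⟩
          rw [htr, hb, hc]; ring
        · set x := r + a * w
          set y := b * w
          refine ⟨!![x, y; -(2 * a * x) / b, -x], htr0 _ _ _, ?_, ?_⟩
          · rw [hdet]
            field_simp
            simp only [x, y]
            rw [hc] at hd
            linear_combination (-b) * hrw + (-(w ^ 2) * b) * hd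
          · rw [htr, hc]; field_simp; ring
      · set x := r + a * w
        set z := c * w
        refine ⟨!![x, -(2 * a * x + b * z) / c, ; z, -x], htr0 _ _ _, ?_, ?_⟩
        · rw [hdet]
          field_simp
          simp only [x, z]
          linear_combination (-c) * hrw + (-(w ^ 2) * c) * hd
        · rw [htr]; field_simp; ring
    refine ⟨mk2 U hUd, ⟨hUt, fun h => ?_⟩, hUA, fun h => ?_⟩
    · obtain ⟨c, hc⟩ := (pr_eq_one_iff _).1 h
      have hc' : U = c • 1 := hc
      rw [hc', Matrix.trace_smul, Matrix.trace_one, Fintype.card_fin, smul_eq_mul] at hUt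
      have : c = 0 := (mul_eq_zero.1 hUt).resolve_right (by simpa using h2)
      rw [hc', this, zero_smul, Matrix.det_zero] at hUd
      exact zero_ne_one hUd
    · obtain ⟨c, hc⟩ := (pr_eq_one_iff (A * mk2 U hUd)).1 (by rw [map_mul, h, hA.pr_sq])
      have hc' : (A : M2) * U = c • 1 := hc
      rw [hc', Matrix.trace_smul, Matrix.trace_one, Fintype.card_fin, smul_eq_mul] at hUA
      have hd := (A * mk2 U hUd).2
      rw [hc, (mul_eq_zero.1 hUA).resolve_right (by simpa using h2), zero_smul,
        Matrix.det_zero] at hd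
      exact zero_ne_one hd

lemma Adj.symm {A B : SL2} (h : Adj A B) : Adj B A := by
  have : orderOf (pr B * pr A) = orderOf (pr A * pr B) := by
    rw [show pr B * pr A = (pr A)⁻¹ * (pr A * pr B) * pr A by group]
    exact orderOf_injective (MulAut.conj (pr A)⁻¹).toMonoidHom (MulEquiv.injective _) (pr A * pr B) |>
      fun e => by simpa using e
  unfold Adj; rwa [this]

lemma coe_mul_trace (A B : SL2) : ((A * B : SL2) : M2) = (A : M2) * B :=
  Matrix.SpecialLinearGroup.coe_mul A B

/-- conjugacy from an odd product -/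
lemma isConj_of_odd {G : Type*} [Group G] {x y : G} (hx : x * x = 1) (hy : y * y = 1)
    (h : Odd (orderOf (x * y))) : IsConj x y := by
  obtain ⟨k, hk⟩ := h
  have hinv : (x * y)⁻¹ = y * x := by
    rw [_root_.mul_inv_rev, inv_eq_of_mul_eq_one_right hx, inv_eq_of_mul_eq_one_right hy]
  have hsw : ∀ j : ℕ, x * (x * y) ^ j * x = ((x * y) ^ j)⁻¹ := by
    intro j
    have h1 : x * (x * y) * x⁻¹ = (x * y)⁻¹ := by
      rw [inv_eq_of_mul_eq_one_right hx, ← mul_assoc, hx, one_mul, hinv]
    rw [← inv_pow, ← h1, conj_pow, inv_eq_of_mul_eq_one_right hx]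
  refine isConj_iff.2 ⟨(x * y) ^ k, ?_⟩
  calc (x * y) ^ k * x * ((x * y) ^ k)⁻¹ = (x * y) ^ k * x * (x * (x * y) ^ k * x) := by rw [hsw]
    _ = (x * y) ^ k * ((x * x) * (x * y) ^ k) * x := by group
    _ = (x * y) ^ (2 * k) * x := by rw [hx, one_mul, ← pow_add, two_mul]
    _ = (x * y)⁻¹ * x := by
        rw [← inv_eq_of_mul_eq_one_left (show (x * y) ^ (2 * k) * (x * y) = 1 by
          rw [← pow_succ, ← hk, pow_orderOf_eq_one])]
    _ = y * (x * x) := by rw [hinv, mul_assoc]
    _ = y := by rw [hx, mul_one]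

lemma not_adj_of_trace_zero [Finite F] {A B : SL2} (hT : ((A : M2) * B).trace = 0)
    (hne : pr A ≠ pr B) (hB : Inv B) : ¬ Adj A B := by
  have hI : Inv (A * B) := by
    refine ⟨by rw [coe_mul_trace]; exact hT, fun h => hne ?_⟩
    rw [map_mul] at h
    rw [eq_inv_of_mul_eq_one_left h, inv_eq_of_mul_eq_one_right hB.pr_sq]
  intro h
  rw [Adj, ← map_mul, hI.order] at h
  exact absurd h (by decide)

lemma common_two [Finite F] (h2 : (2 : F) = 0) {A B : SL2} (hA : Inv A) (hB : Inv B) :
    ∃ C : SL2, Inv C ∧ Adj A C ∧ Adj C B := by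
  haveI := Fintype.ofFinite F
  have hch : ringChar F = 2 := by
    haveI : CharP F 2 := CharTwo.of_one_ne_zero_of_two_eq_zero one_ne_zero h2
    exact ringChar.eq F 2
  have hneg : ∀ x : F, -x = x := fun x => by linear_combination (-x) * h2
  have hoff : ∀ {M : SL2}, Inv M → (M : M2) 0 1 ≠ 0 ∨ (M : M2) 1 0 ≠ 0 := by
    intro M hM
    by_contra h
    push Not at h
    have ht := hM.1
    rw [Matrix.trace_fin_two] at ht
    refine hM.2 ((pr_eq_one_iff M).2 ⟨(M : M2) 0 0, ?_⟩)
    ext i j
    fin_cases i <;> fin_cases j <;> simp [h.1, h.2]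
    rw [eq_neg_of_add_eq_zero_right ht, hneg]
  obtain ⟨y, z, hy1, hy2⟩ : ∃ y z : F, (A : M2) 0 1 * z + (A : M2) 1 0 * y ≠ 0 ∧
      (B : M2) 0 1 * z + (B : M2) 1 0 * y ≠ 0 := by
    have h1 := hoff hA
    have h3 := hoff hB
    by_cases hb : (A : M2) 0 1 = 0
    · have hc := h1.resolve_left (not_not.2 hb)
      rcases eq_or_ne ((B : M2) 1 0) 0 with hc' | hc'
      · have hb' := h3.resolve_right (not_not.2 hc')
        exact ⟨1, 1, by simp [hb, hc], by simp [hc', hb']⟩
      · exact ⟨1, 0, by simp [hc], by simp [hc']⟩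
    · rcases eq_or_ne ((B : M2) 0 1) 0 with hb' | hb'
      · have hc' := h3.resolve_left (not_not.2 hb')
        rcases eq_or_ne ((A : M2) 1 0) 0 with hc | hc
        · exact ⟨1, 1, by simp [hb, hc], by simp [hc', hb']⟩
        · exact ⟨1, 0, by simp [hc], by simp [hc']⟩
      · exact ⟨0, 1, by simp [hb], by simp [hb']⟩
  obtain ⟨x, hx⟩ := FiniteField.isSquare_of_char_two hch (1 + y * z : F)
  have hd : (!![x, y; z, x] : M2).det = 1 := by
    simp [Matrix.det_fin_two]
    linear_combination -hx
  have htr : ∀ M : SL2, Inv M →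
      ((M : M2) * !![x, y; z, x]).trace = (M : M2) 0 1 * z + (M : M2) 1 0 * y := by
    intro M hM
    have ht := hM.1
    rw [Matrix.trace_fin_two] at ht
    simp [Matrix.trace_fin_two, Matrix.mul_apply, Fin.sum_univ_two]
    linear_combination x * ht
  refine ⟨mk2 _ hd, ⟨?_, fun h => ?_⟩, ?_, ?_⟩
  · rw [coe_mk2]; simp [Matrix.trace_fin_two]
    linear_combination x * h2
  · obtain ⟨c, hc⟩ := (pr_eq_one_iff _).1 h
    have h01 := congrFun (congrFun hc 0) 1
    have h10 := congrFun (congrFun hc 1) 0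
    simp at h01 h10
    exact hy1 (by rw [h01, h10]; simp)
  · rw [Adj, ← map_mul]
    exact odd_char_two h2 (by rw [coe_mul_trace, coe_mk2, htr A hA]; exact hy1)
  · refine Adj.symm ?_
    rw [Adj, ← map_mul]
    exact odd_char_two h2 (by rw [coe_mul_trace, coe_mk2, htr B hB]; exact hy2)

lemma trace_cases {F : Type*} [Field F] {T : F} (h : T * T = 4) : T = 2 * 1 ∨ T = 2 * (-1) := by
  rcases mul_eq_zero.1 (show (T - 2) * (T + 2) = 0 by linear_combination h) with h | h
  · exact Or.inl (by linear_combination h)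
  · exact Or.inr (by linear_combination h)

lemma common_one [Finite F] (h2 : (2 : F) ≠ 0) {i : F} (hi : i * i = -1) {A B : SL2} (hA : Inv A)
    (hB : Inv B) (hnadj : ¬ Adj A B) : ∃ C : SL2, Inv C ∧ Adj A C ∧ Adj C B := by
  set T := ((A : M2) * B).trace with hT
  have hT4 : T * T ≠ 4 := by
    intro h
    refine hnadj ?_
    rw [Adj, ← map_mul]
    rcases trace_cases h with h | h
    · exact odd_unipotent h2 (η := 1) (one_mul 1) (by rw [coe_mul_trace, ← hT, h])
    · exact odd_unipotent h2 (η := -1) (by ring) (by rw [coe_mul_trace, ← hT, h])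
  have hd : (2 : F) - T ≠ 0 := fun h => hT4 (by linear_combination (-(T + 2)) * h)
  have hAA := hA.sq
  have hBB := hB.sq
  have hAB := anti hA.1 hB.1
  rw [← hT] at hAB
  set a := (A : M2)
  set b := (B : M2)
  set N := a * b - b * a with hN
  set X := (2 : F) • a + (2 : F) • b + i • N with hX
  have hXt : X.trace = 0 := by
    simp only [hX, hN, Matrix.trace_add, Matrix.trace_smul, Matrix.trace_sub, Matrix.trace_mul_comm b a,
      sub_self, hA.1, hB.1, smul_zero, add_zero, a, b]
  have haN : (a * N).trace = 0 := by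
    rw [hN, mul_sub, Matrix.trace_sub, Matrix.trace_mul_comm a (b * a), mul_assoc b a a, hAA,
      ← mul_assoc a a b, hAA]
    simp
  have hbN : (b * N).trace = 0 := by
    rw [hN, mul_sub, Matrix.trace_sub, Matrix.trace_mul_comm b (a * b), mul_assoc a b b, hBB,
      ← mul_assoc b b a, hBB]
    simp
  have htA : (a * X).trace = -2 * (2 - T) := by
    rw [hX, mul_add, mul_add, mul_smul_comm, mul_smul_comm, mul_smul_comm, hAA, Matrix.trace_add,
      Matrix.trace_add, Matrix.trace_smul, Matrix.trace_smul, Matrix.trace_smul, haN, ← hT,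
      Matrix.trace_neg, Matrix.trace_one, Fintype.card_fin]
    simp; ring
  have htB : (b * X).trace = -2 * (2 - T) := by
    rw [hX, mul_add, mul_add, mul_smul_comm, mul_smul_comm, mul_smul_comm, hBB, Matrix.trace_add,
      Matrix.trace_add, Matrix.trace_smul, Matrix.trace_smul, Matrix.trace_smul, hbN,
      Matrix.trace_mul_comm b a, ← hT, Matrix.trace_neg, Matrix.trace_one, Fintype.card_fin]
    simp; ring
  have hba : b * a = T • (1 : M2) - a * b := eq_sub_of_add_eq' hAB
  have haba : a * b * a = T • a + b := by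
    rw [mul_assoc, hba, mul_sub, mul_smul_comm, mul_one, ← mul_assoc, hAA]; simp
  have hbab : b * (a * b) = T • b + a := by
    rw [← mul_assoc, hba, sub_mul, smul_mul_assoc, one_mul, mul_assoc, hBB]; simp
  have habab : a * b * (a * b) = T • (a * b) - (1 : M2) := by
    rw [← mul_assoc, haba, add_mul, smul_mul_assoc, hBB]; abel
  have habb : a * b * b = -a := by rw [mul_assoc, hBB]; simp
  have haab : a * (a * b) = -b := by rw [← mul_assoc, hAA]; simp
  have hN2 : N = (2 : F) • (a * b) - T • (1 : M2) := by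
    rw [hN, hba, two_smul]; abel
  have hXX : X * X = -((2 - T) ^ 2 • (1 : M2)) := by
    have hXe : X = (2 : F) • a + (2 : F) • b + (2 * i) • (a * b) + (-(i * T)) • (1 : M2) := by
      rw [hX, hN2, smul_sub, smul_smul, smul_smul, neg_smul, mul_comm i 2]; abel
    rw [hXe]
    simp only [mul_add, add_mul, smul_mul_assoc, mul_smul_comm, smul_smul, smul_add, smul_sub,
      smul_neg, hAA, hBB, hba, haba, hbab, habab, habb, haab, one_mul, mul_one]
    match_scalars <;> first | ring1 | linear_combination (4 - T ^ 2) * hi | linear_combination (-4 + T ^ 2) * hi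
  set c := (2 - T)⁻¹
  have hCt : (c • X).trace = 0 := by rw [Matrix.trace_smul, hXt, smul_zero]
  have hCC : (c • X) * (c • X) = -(1 : M2) := by
    rw [smul_mul_assoc, mul_smul_comm, hXX, smul_neg, smul_neg, smul_smul, smul_smul,
      show c * c * (2 - T) ^ 2 = 1 by simp only [c]; field_simp, one_smul]
  have hCd : (c • X).det = 1 := by
    have h := cayley (c • X)
    rw [hCt, zero_smul, zero_sub, hCC, neg_inj] at h
    have := congrFun (congrFun h 0) 0
    simpa using this.symm
  have hCi : Inv (mk2 _ hCd) := by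
    refine ⟨by rw [coe_mk2]; exact hCt, fun h => ?_⟩
    obtain ⟨d, hd'⟩ := (pr_eq_one_iff _).1 h
    rw [coe_mk2] at hd'
    rw [hd', Matrix.trace_smul, Matrix.trace_one, Fintype.card_fin, smul_eq_mul, Nat.cast_ofNat,
      mul_eq_zero] at hCt
    rw [hd', hCt.resolve_right h2, zero_smul, Matrix.det_zero] at hCd
    exact zero_ne_one hCd
  have key : ∀ M : SL2, ((M : M2) * X).trace = -2 * (2 - T) → Odd (orderOf (pr (M * mk2 _ hCd))) := by
    intro M hM
    refine odd_unipotent h2 (η := -1) (by ring) ?_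
    rw [coe_mul_trace, coe_mk2, mul_smul_comm, Matrix.trace_smul, hM, smul_eq_mul]
    simp only [c]; field_simp
  refine ⟨mk2 _ hCd, hCi, ?_, Adj.symm ?_⟩
  · rw [Adj, ← map_mul]; exact key A htA
  · rw [Adj, ← map_mul]; exact key B htB

section Count

variable [Fintype F]

lemma exists_good (hq : Fintype.card F % 4 = 3) (hq4 : 4 ≤ Fintype.card F) :
    ∃ a s : F, s ≠ 0 ∧ a * a - 1 = s * s := by
  classical
  have h2 : (2 : F) ≠ 0 := Ring.two_ne_zero fun h => by
    have := FiniteField.even_card_of_char_two h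
    omega
  obtain ⟨t, -, ht⟩ := Finset.exists_mem_notMem_of_card_lt_card
    (s := ({0, 1, -1} : Finset F)) (t := Finset.univ) (by
      rw [Finset.card_univ]; exact lt_of_le_of_lt Finset.card_le_three (by omega))
  simp only [Finset.mem_insert, Finset.mem_singleton, not_or] at ht
  have ht0 : t ≠ 0 := ht.1
  refine ⟨(t + t⁻¹) / 2, (t - t⁻¹) / 2, ?_, ?_⟩
  · intro h
    rw [div_eq_zero_iff, or_iff_left h2, sub_eq_zero] at h
    rcases mul_self_eq_one_iff.1 (show t * t = 1 by nth_rewrite 2 [h]; exact mul_inv_cancel₀ ht.1) with h | h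
    · exact ht.2.1 h
    · exact ht.2.2 h
  · field_simp
    ring

open Classical in
lemma card_good (hq : Fintype.card F % 4 = 3) :
    Fintype.card F + 1 ≤ 2 * (Finset.univ.filter fun b : F => IsSquare (b * b - 1)).card := by
  have h2 : (2 : F) ≠ 0 := Ring.two_ne_zero fun h => by
    have := FiniteField.even_card_of_char_two h
    omega
  have h11 : (1 : F) ≠ -1 := fun h => h2 (by linear_combination h)
  set G := Finset.univ.filter fun b : F => IsSquare (b * b - 1)
  set S : Finset F := (Finset.univ : Finset F) \ {0, 1, -1}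
  let f : F → F := fun t => (t + t⁻¹) / 2
  have hf : ∀ t ∈ S, f t ∈ G \ {1, -1} := by
    intro t ht
    simp only [S, Finset.mem_sdiff, Finset.mem_univ, true_and, Finset.mem_insert,
      Finset.mem_singleton, not_or] at ht
    simp only [G, Finset.mem_sdiff, Finset.mem_filter, Finset.mem_univ, true_and, Finset.mem_insert,
      Finset.mem_singleton, not_or, f]
    have h0 := ht.1
    refine ⟨⟨(t - t⁻¹) / 2, by field_simp; ring⟩, fun h => ht.2.1 ?_, fun h => ht.2.2 ?_⟩
    · field_simp at h
      exact sub_eq_zero.1 (mul_self_eq_zero.1 (by linear_combination h))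
    · field_simp at h
      exact eq_neg_of_add_eq_zero_left (mul_self_eq_zero.1 (by linear_combination h))
  have hfib : ∀ b ∈ S.image f, (S.filter fun t => f t = b).card ≤ 2 := by
    intro b hb
    obtain ⟨t, ht, rfl⟩ := Finset.mem_image.1 hb
    have ht0 : t ≠ 0 := by
      simp only [S, Finset.mem_sdiff, Finset.mem_univ, true_and, Finset.mem_insert,
        Finset.mem_singleton, not_or] at ht
      exact ht.1
    refine le_trans (Finset.card_le_card (t := {t, t⁻¹}) fun u hu => ?_) Finset.card_le_two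
    simp only [S, Finset.mem_filter, Finset.mem_sdiff, Finset.mem_univ, true_and, Finset.mem_insert,
      Finset.mem_singleton, not_or, f] at hu ⊢
    obtain ⟨⟨hu0, -⟩, hu⟩ := hu
    rw [div_left_inj' h2] at hu
    rcases mul_eq_zero.1 (show (u - t) * (u - t⁻¹) = 0 by
      have := mul_inv_cancel₀ hu0
      have := mul_inv_cancel₀ ht0
      linear_combination u * hu + mul_inv_cancel₀ ht0 - mul_inv_cancel₀ hu0) with h | h
    · exact Or.inl (sub_eq_zero.1 h)
    · exact Or.inr (sub_eq_zero.1 h)
  have h1 := Finset.card_le_mul_card_image S 2 hfib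
  have h3 : (S.image f).card ≤ (G \ {1, -1}).card :=
    Finset.card_le_card fun b hb => by
      obtain ⟨t, ht, rfl⟩ := Finset.mem_image.1 hb
      exact hf t ht
  have h4 : (G \ {1, -1}).card + 2 = G.card := by
    have : ({1, -1} : Finset F) ⊆ G := by
      intro b hb
      simp only [Finset.mem_insert, Finset.mem_singleton] at hb
      rcases hb with rfl | rfl <;> simp [G]
    rw [← Finset.card_pair h11]
    exact Finset.card_sdiff_add_card_eq_card this
  have h5 : Fintype.card F ≤ S.card + 3 := by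
    rw [← Finset.card_univ]
    calc (Finset.univ : Finset F).card ≤ (S ∪ {0, 1, -1}).card :=
          Finset.card_le_card fun b _ => by simp [S]; tauto
      _ ≤ S.card + ({0, 1, -1} : Finset F).card := Finset.card_union_le _ _
      _ ≤ S.card + 3 := Nat.add_le_add_left Finset.card_le_three _
  omega

lemma common_three (hq : Fintype.card F % 4 = 3) (hq4 : 4 ≤ Fintype.card F) {A B : SL2}
    (hA : Inv A) (hB : Inv B) (hne : pr A ≠ pr B) : ∃ C : SL2, Inv C ∧ Adj A C ∧ Adj C B := by
  classical
  have h2 : (2 : F) ≠ 0 := Ring.two_ne_zero fun h => by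
    have := FiniteField.even_card_of_char_two h
    omega
  have hns : ¬ IsSquare (-1 : F) := fun h => by
    have := FiniteField.isSquare_neg_one_iff.1 h
    omega
  obtain ⟨U, hU, hAU, -⟩ := exists_commuting (by rw [Nat.card_eq_fintype_card]; exact hq4) hA
  obtain ⟨α, s, hs0, hαs⟩ := exists_good hq hq4
  set d := 1 - α * α with hd
  have hdn : ¬ IsSquare d := fun ⟨m, hm⟩ => hns ⟨m / s, by
    field_simp
    linear_combination hm + hαs⟩
  have hd0 : d ≠ 0 := fun h => hdn (h ▸ ⟨0, (mul_zero 0).symm⟩)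
  set a := (A : M2)
  set b := (B : M2)
  set u := (U : M2)
  set v := a * u with hv
  have hAA : a * a = -(1 : M2) := hA.sq
  have hUU : u * u = -(1 : M2) := hU.sq
  have hau : u * a = -v := by
    have := anti hA.1 hU.1
    rw [hAU, zero_smul] at this
    exact eq_neg_of_add_eq_zero_right this
  set x := (b * a).trace / 2
  set y := (b * u).trace / 2
  set z := (b * v).trace / 2
  have hyz : y ≠ 0 ∨ z ≠ 0 := by
    by_contra h
    push Not at h
    have hy0 : (b * u).trace = 0 := by
      have := h.1; simp only [y, div_eq_zero_iff, h2, or_false] at this; exact this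
    have hz0 : (b * v).trace = 0 := by
      have := h.2; simp only [z, div_eq_zero_iff, h2, or_false] at this; exact this
    have hbu : b * u = -(u * b) := by
      have := anti hB.1 hU.1
      rw [hy0, zero_smul] at this
      exact eq_neg_of_add_eq_zero_left this
    have hbv : b * v = -(v * b) := by
      have := anti hB.1 (show v.trace = 0 from hAU)
      rw [hz0, zero_smul] at this
      exact eq_neg_of_add_eq_zero_left this
    have huv : u * v = a := by
      rw [hv, ← mul_assoc, hau, hv, neg_mul, mul_assoc, hUU]; simp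
    have hcomm : b * a = a * b := by
      calc b * a = b * u * v := by rw [← huv, mul_assoc]
        _ = -(u * (b * v)) := by rw [hbu, neg_mul, mul_assoc]
        _ = u * v * b := by rw [hbv, mul_neg, neg_neg]; exact (mul_assoc u v b).symm
        _ = a * b := by rw [huv]
    have h' := anti hA.1 hB.1
    rw [hcomm, ← two_smul F] at h'
    obtain ⟨c, hc⟩ : ∃ c : F, a * b = c • (1 : M2) :=
      ⟨(2 : F)⁻¹ * (a * b).trace, by rw [mul_smul, ← h', smul_smul, inv_mul_cancel₀ h2, one_smul]⟩
    refine hne ?_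
    have hp : pr (A * B) = 1 := (pr_eq_one_iff _).2 ⟨c, by rw [coe_mul_trace]; exact hc⟩
    rw [map_mul] at hp
    rw [eq_inv_of_mul_eq_one_left hp, inv_eq_of_mul_eq_one_right hB.pr_sq]
  have hh : y * y + z * z ≠ 0 := by
    intro h
    rcases eq_or_ne y 0 with hy | hy
    · rw [hy, mul_zero, zero_add, mul_self_eq_zero] at h
      exact hyz.elim (fun h' => h' hy) (fun h' => h' h)
    · exact hns ⟨z / y, by field_simp; linear_combination -h⟩
  obtain ⟨r0, s0, hrs⟩ : ∃ r0 s0 : F, r0 * r0 + s0 * s0 = d := by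
    obtain ⟨r0, s0, h⟩ := FiniteField.exists_root_sum_quadratic
      (f := (Polynomial.X ^ 2 : Polynomial F)) (g := Polynomial.X ^ 2 - Polynomial.C d)
      (Polynomial.degree_X_pow 2) (Polynomial.degree_X_pow_sub_C two_pos d) (by omega)
    refine ⟨r0, s0, ?_⟩
    simp at h
    linear_combination h
  have h1t : ∀ t : F, 1 + t * t ≠ 0 := fun t h => hns ⟨t, by linear_combination -h⟩
  let φ : Option F → F × F := fun o => o.elim (-r0, -s0) fun t =>
    ((1 - t * t) / (1 + t * t) * r0 - 2 * t / (1 + t * t) * s0,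
      2 * t / (1 + t * t) * r0 + (1 - t * t) / (1 + t * t) * s0)
  have hφd : ∀ o, (φ o).1 * (φ o).1 + (φ o).2 * (φ o).2 = d := by
    rintro (_ | t)
    · simp [φ, hrs]
    · have := h1t t
      have h' : 1 + t ^ 2 ≠ 0 := by rw [pow_two]; exact h1t t
      simp only [φ, Option.elim]
      field_simp
      linear_combination (1 + t * t) ^ 2 * hrs
  have hrot : ∀ {c n c' n' : F}, c * r0 - n * s0 = c' * r0 - n' * s0 →
      n * r0 + c * s0 = n' * r0 + c' * s0 → c = c' ∧ n = n' := by
    intro c n c' n' e1 e2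
    refine ⟨sub_eq_zero.1 ((mul_eq_zero.1 (show (c - c') * d = 0 by
      rw [← hrs]; linear_combination r0 * e1 + s0 * e2)).resolve_right hd0),
      sub_eq_zero.1 ((mul_eq_zero.1 (show (n - n') * d = 0 by
        rw [← hrs]; linear_combination r0 * e2 - s0 * e1)).resolve_right hd0)⟩
  have hφinj : Function.Injective φ := by
    have hc : ∀ t : F, (1 - t * t) / (1 + t * t) ≠ -1 := by
      intro t h
      have := h1t t
      have h' : 1 + t ^ 2 ≠ 0 := by rw [pow_two]; exact h1t t
      field_simp at h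
      exact h2 (by linear_combination h)
    have hnone : ∀ t : F, φ none ≠ φ (some t) := by
      intro t h
      simp only [φ, Option.elim, Prod.mk.injEq] at h
      exact hc t (hrot (c := -1) (n := 0) (c' := (1 - t * t) / (1 + t * t)) (n' := 2 * t / (1 + t * t))
        (by linear_combination h.1) (by linear_combination h.2)).1.symm
    rintro (_ | t) (_ | t') h
    · rfl
    · exact absurd h (hnone t')
    · exact absurd h.symm (hnone t)
    · simp only [φ, Option.elim, Prod.mk.injEq] at h
      obtain ⟨e1, e2⟩ := hrot h.1 h.2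
      rw [div_eq_div_iff (h1t t) (h1t t')] at e1 e2
      have hsq : t * t = t' * t' := mul_left_cancel₀ h2 (by linear_combination -e1)
      refine congrArg some (mul_left_cancel₀ (mul_ne_zero h2 (h1t t)) ?_)
      linear_combination e2 + 2 * t * hsq
  let L : Option F → F := fun o => α * x + (φ o).1 * y + (φ o).2 * z
  have hfib : ∀ w ∈ Finset.univ.image L, (Finset.univ.filter fun o => L o = w).card ≤ 2 := by
    intro w hw
    obtain ⟨o0, -, rfl⟩ := Finset.mem_image.1 hw
    let m : Option F → F := fun o => -z * (φ o).1 + y * (φ o).2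
    have hm : Set.InjOn m (Finset.univ.filter fun o => L o = L o0 : Finset (Option F)) := by
      intro o ho o' ho' h
      simp only [Finset.coe_filter, Finset.mem_univ, true_and, Set.mem_setOf_eq] at ho ho'
      have hl := ho.trans ho'.symm
      simp only [L, m] at hl h
      refine hφinj (Prod.ext ?_ ?_)
      · refine sub_eq_zero.1 ((mul_eq_zero.1 (show ((φ o).1 - (φ o').1) * (y * y + z * z) = 0 by
          linear_combination y * hl - z * h)).resolve_right hh)
      · refine sub_eq_zero.1 ((mul_eq_zero.1 (show ((φ o).2 - (φ o').2) * (y * y + z * z) = 0 by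
          linear_combination z * hl + y * h)).resolve_right hh)
    rw [← Finset.card_image_of_injOn hm]
    refine le_trans (Finset.card_le_card (t := {m o0, -m o0}) fun k hk => ?_) Finset.card_le_two
    obtain ⟨o, ho, rfl⟩ := Finset.mem_image.1 hk
    simp only [Finset.mem_filter, Finset.mem_univ, true_and, L] at ho
    have e : m o * m o = m o0 * m o0 := by
      simp only [m]
      linear_combination (y * y + z * z) * hφd o - (y * y + z * z) * hφd o0 -
        ((φ o).1 * y + (φ o).2 * z + (φ o0).1 * y + (φ o0).2 * z) * ho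
    simp only [Finset.mem_insert, Finset.mem_singleton]
    exact mul_self_eq_mul_self_iff.1 e
  have hi := Finset.card_le_mul_card_image (f := L) Finset.univ 2 hfib
  rw [Finset.card_univ, Fintype.card_option] at hi
  obtain ⟨o, ho⟩ : ∃ o, IsSquare (L o * L o - 1) := by
    by_contra h
    push Not at h
    have hdis : Disjoint (Finset.univ.image L)
        (Finset.univ.filter fun b : F => IsSquare (b * b - 1)) := by
      rw [Finset.disjoint_left]
      intro w hw hw'
      obtain ⟨o, -, rfl⟩ := Finset.mem_image.1 hw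
      exact h o (Finset.mem_filter.1 hw').2
    have h1 := Finset.card_le_univ
      (Finset.univ.image L ∪ Finset.univ.filter fun b : F => IsSquare (b * b - 1))
    rw [Finset.card_union_of_disjoint hdis] at h1
    have := card_good hq
    omega
  set r := (φ o).1
  set w := (φ o).2
  have hrw : r * r + w * w = d := hφd o
  set X := α • a + r • u + w • v with hX
  have hXt : X.trace = 0 := by
    rw [hX, Matrix.trace_add, Matrix.trace_add, Matrix.trace_smul, Matrix.trace_smul,
      Matrix.trace_smul, hA.1, hU.1, show v.trace = 0 from hAU]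
    simp
  have hXX : X * X = -(1 : M2) := by
    have e1 : u * v = a := by rw [hv, ← mul_assoc, hau, hv, neg_mul, mul_assoc, hUU]; simp
    have e2 : v * u = -a := by rw [hv, mul_assoc, hUU]; simp
    have e3 : a * v = -u := by rw [hv, ← mul_assoc, hAA]; simp
    have e4 : v * a = u := by rw [hv, mul_assoc, hau, mul_neg, e3]; simp
    have e5 : v * v = -(1 : M2) := by rw [hv, mul_assoc, ← hv, e1, hAA]
    rw [hX]
    simp only [mul_add, add_mul, smul_mul_assoc, mul_smul_comm, smul_smul, smul_add, smul_neg,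
      hAA, hUU, hau, ← hv, e1, e2, e3, e4, e5]
    match_scalars <;> first | ring1 | linear_combination -hrw - hd | linear_combination hrw + hd
  have hXd : X.det = 1 := by
    have h := cayley X
    rw [hXt, zero_smul, zero_sub, hXX, neg_inj] at h
    have := congrFun (congrFun h 0) 0
    simpa using this.symm
  have hCi : Inv (mk2 _ hXd) := by
    refine ⟨by rw [coe_mk2]; exact hXt, fun h => ?_⟩
    obtain ⟨c, hc⟩ := (pr_eq_one_iff _).1 h
    rw [coe_mk2] at hc
    rw [hc, Matrix.trace_smul, Matrix.trace_one, Fintype.card_fin, smul_eq_mul, Nat.cast_ofNat,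
      mul_eq_zero] at hXt
    rw [hc, hXt.resolve_right h2, zero_smul, Matrix.det_zero] at hXd
    exact zero_ne_one hXd
  refine ⟨mk2 _ hXd, hCi, ?_, Adj.symm ?_⟩
  · rw [Adj, ← map_mul]
    refine odd_of_square hq (L := -α) ?_ ⟨s, by linear_combination hαs⟩
    rw [coe_mul_trace, coe_mk2, hX, mul_add, mul_add, mul_smul_comm, mul_smul_comm, mul_smul_comm,
      hAA, ← hv, Matrix.trace_add, Matrix.trace_add, Matrix.trace_smul, Matrix.trace_smul,
      Matrix.trace_smul, Matrix.trace_neg, Matrix.trace_one, Fintype.card_fin,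
      show v.trace = 0 from hAU, hv, ← mul_assoc, hAA, neg_mul, one_mul, Matrix.trace_neg, hU.1]
    simp; ring
  · rw [Adj, ← map_mul]
    refine odd_of_square hq (L := L o) ?_ ho
    rw [coe_mul_trace, coe_mk2, hX, mul_add, mul_add, mul_smul_comm, mul_smul_comm, mul_smul_comm,
      Matrix.trace_add, Matrix.trace_add, Matrix.trace_smul, Matrix.trace_smul, Matrix.trace_smul]
    simp only [smul_eq_mul, L, x, y, z, r, w]
    field_simp
    rfl

end Count

theorem adj_or_common [Fintype F] (hq : 4 ≤ Fintype.card F) {A B : SL2} (hA : Inv A) (hB : Inv B)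
    (hne : pr A ≠ pr B) : Adj A B ∨ ∃ C : SL2, Inv C ∧ Adj A C ∧ Adj C B := by
  rcases eq_or_ne (2 : F) 0 with h2 | h2
  · exact Or.inr (common_two h2 hA hB)
  by_cases hadj : Adj A B
  · exact Or.inl hadj
  refine Or.inr ?_
  by_cases hi : IsSquare (-1 : F)
  · obtain ⟨i, hi⟩ := hi
    exact common_one h2 hi.symm hA hB hadj
  · refine common_three ?_ hq hA hB hne
    by_contra h
    exact hi (FiniteField.isSquare_neg_one_iff.2 h)

theorem graph [Fintype F] (hq : 4 ≤ Fintype.card F) (t : PSL2) (ht : orderOf t = 2) :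
    (SimpleGraph.fromRel fun x y : {x : PSL2 // IsConj t x} => Odd (orderOf (x.1 * y.1))).Connected ∧
      (SimpleGraph.fromRel fun x y : {x : PSL2 // IsConj t x} => Odd (orderOf (x.1 * y.1))).diam = 2 := by
  set Γ := SimpleGraph.fromRel fun x y : {x : PSL2 // IsConj t x} => Odd (orderOf (x.1 * y.1))
  have hord : ∀ x : {x : PSL2 // IsConj t x}, orderOf x.1 = 2 := by
    rintro ⟨x, hx⟩
    obtain ⟨g, hg⟩ := isConj_iff.1 hx
    show orderOf x = _
    rw [← hg]
    exact (orderOf_injective (MulAut.conj g).toMonoidHom (MulEquiv.injective _) t).trans ht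
  have hconj : ∀ {A B : SL2}, Inv A → Inv B → Adj A B → IsConj (pr A) (pr B) :=
    fun hA hB h => isConj_of_odd hA.pr_sq hB.pr_sq h
  have hwalk : ∀ x y, ∃ p : Γ.Walk x y, p.length ≤ 2 := by
    intro x y
    rcases eq_or_ne x y with rfl | hne
    · exact ⟨.nil, by simp⟩
    obtain ⟨A, hA, hAx⟩ := exists_inv (hord x)
    obtain ⟨B, hB, hBy⟩ := exists_inv (hord y)
    have hne' : pr A ≠ pr B := by
      rw [hAx, hBy]; exact fun h => hne (Subtype.ext h)
    have hadj : ∀ {u v : {x : PSL2 // IsConj t x}}, u ≠ v → Odd (orderOf (u.1 * v.1)) → Γ.Adj u v :=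
      fun h h' => (SimpleGraph.fromRel_adj _ _ _).2 ⟨h, Or.inl h'⟩
    rcases adj_or_common hq hA hB hne' with h | ⟨C, hC, hAC, hCB⟩
    · have h' : Γ.Adj x y := hadj hne (by rw [← hAx, ← hBy]; exact h)
      exact ⟨.cons h' .nil, by simp⟩
    · let v : {x : PSL2 // IsConj t x} := ⟨pr C, x.2.trans (hAx ▸ hconj hA hC hAC)⟩
      rcases eq_or_ne x v with hxv | hxv
      · have h' : Γ.Adj x y := hadj hne (by rw [congrArg Subtype.val hxv, ← hBy]; exact hCB)
        exact ⟨.cons h' .nil, by simp⟩
      rcases eq_or_ne v y with hvy | hvy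
      · have h' : Γ.Adj x y := hadj hne (by rw [← congrArg Subtype.val hvy, ← hAx]; exact hAC)
        exact ⟨.cons h' .nil, by simp⟩
      have h1 : Γ.Adj x v := hadj hxv (by rw [← hAx]; exact hAC)
      have h3 : Γ.Adj v y := hadj hvy (by rw [← hBy]; exact hCB)
      exact ⟨.cons h1 (.cons h3 .nil), by simp⟩
  haveI : Nonempty {x : PSL2 // IsConj t x} := ⟨⟨t, IsConj.refl t⟩⟩
  have hcon : Γ.Connected := ⟨fun x y => (hwalk x y).elim fun p _ => ⟨p⟩⟩
  refine ⟨hcon, ?_⟩
  obtain ⟨A, hA, hAt⟩ := exists_inv ht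
  obtain ⟨U, hU, hAU, hne⟩ := exists_commuting (by rw [Nat.card_eq_fintype_card]; exact hq) hA
  have hUc : IsConj t (pr U) := by
    rcases adj_or_common hq hA hU hne.symm with h | ⟨C, hC, hAC, hCU⟩
    · exact hAt ▸ hconj hA hU h
    · exact hAt ▸ (hconj hA hC hAC).trans (hconj hC hU hCU)
  let x0 : {x : PSL2 // IsConj t x} := ⟨t, IsConj.refl t⟩
  let y0 : {x : PSL2 // IsConj t x} := ⟨pr U, hUc⟩
  have hxy : x0 ≠ y0 := fun h => hne (by rw [hAt]; exact (congrArg Subtype.val h).symm)
  have hnadj : ¬ Γ.Adj x0 y0 := by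
    rw [SimpleGraph.fromRel_adj]
    rintro ⟨-, h | h⟩
    · exact not_adj_of_trace_zero hAU hne.symm hU (by rw [Adj, hAt]; exact h)
    · exact not_adj_of_trace_zero hAU hne.symm hU (Adj.symm (by rw [Adj, hAt]; exact h))
  have hle : Γ.ediam ≤ 2 := SimpleGraph.ediam_le_iff.2 fun x y => by
    obtain ⟨p, hp⟩ := hwalk x y
    exact le_trans (SimpleGraph.edist_le p) (by exact_mod_cast hp)
  have hge : (2 : ℕ∞) ≤ Γ.edist x0 y0 := by
    have h0 : Γ.edist x0 y0 ≠ 0 := fun h => hxy (SimpleGraph.edist_eq_zero_iff.1 h)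
    have h1 : Γ.edist x0 y0 ≠ 1 := fun h => hnadj (SimpleGraph.edist_eq_one_iff_adj.1 h)
    by_contra hlt
    obtain ⟨k, hk⟩ := ENat.ne_top_iff_exists.1 (ne_top_of_lt (not_le.1 hlt))
    rw [← hk] at hlt h0 h1
    norm_cast at hlt h0 h1
    omega
  have : Γ.ediam = 2 := le_antisymm hle (le_trans hge SimpleGraph.edist_le_ediam)
  rw [SimpleGraph.diam, this]
  rfl

end Cfsg.Agent.FG75.PSLInvGraph
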