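/-
p-groups whose noncyclic subgroups are self-centralizing.
-/
import Cfsg.Agent.FG78.MaximalClass
import Cfsg.Agent.FGS82.MaximalClass
import Cfsg.Agent.Lib.PGroup.NormalRankTwo
import Cfsg.Agent.S0016
import Mathlib

set_option autoImplicit false
set_option linter.all false

open Subgroup
open scoped commutatorElement

universe u

namespace Cfsg.Agent.FG75.SelfCentral

variable {G : Type u} [Group G] [Finite G]

/-- The hypothesis of the statements. -/
def SC (G : Type u) [Group G] : Prop :=
  ∀ H : Subgroup G, ¬ IsCyclic ↥H → Subgroup.centralizer (H : Set G) ≤ H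

theorem odd_forward {p : ℕ} [hp : Fact p.Prime] (hp2 : p ≠ 2) (hG : IsPGroup p G)
    (hna : ¬ IsMulCommutative G) (hX : SC G) : Nat.card G = p ^ 3 := by
  have hnc : ¬ IsCyclic G := fun h => hna ⟨⟨fun a b => PGroup.mul_comm_of_cyclic a b⟩⟩
  obtain ⟨E, hEn, hEc, hEexp, hEcard⟩ := PGroup.exists_normal_elementary_sq hG hp2 hnc
  have hEnc : ¬ IsCyclic E := fun h => by
    have h1 : Monoid.exponent E ∣ p :=
      Monoid.exponent_dvd_of_forall_pow_eq_one fun x => Subtype.ext (hEexp x x.2)
    rw [IsCyclic.exponent_eq_card, hEcard] at h1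
    have := Nat.le_of_dvd hp.out.pos h1
    nlinarith [hp.out.two_le]
  have hCE : Subgroup.centralizer (E : Set G) ≤ E := hX E hEnc
  have hEne : E ≠ ⊥ := fun h => hEnc (h ▸ inferInstance)
  have hne := PGroup.inf_center_ne_bot hG (N := E) hEne
  obtain ⟨z, hz, hz1⟩ := (Subgroup.bot_or_exists_ne_one _).resolve_left hne
  obtain ⟨hzE, hzZ⟩ := Subgroup.mem_inf.1 hz
  have hord : ∀ e ∈ E, e ≠ 1 → Nat.card (Subgroup.zpowers e) = p := fun e he he1 => by
    rw [Nat.card_zpowers]; exact orderOf_eq_prime (hEexp e he) he1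
  obtain ⟨e, he, hez⟩ : ∃ e ∈ E, e ∉ Subgroup.zpowers z := by
    by_contra h
    push Not at h
    have := Subgroup.card_le_of_le (show E ≤ Subgroup.zpowers z from h)
    rw [hEcard, hord z hzE hz1] at this
    nlinarith [hp.out.two_le]
  have he1 : e ≠ 1 := fun h => hez (h ▸ one_mem _)
  have hEgen : E = Subgroup.zpowers z ⊔ Subgroup.zpowers e := by
    refine (Subgroup.eq_of_le_of_card_ge (sup_le (Subgroup.zpowers_le.2 hzE)
      (Subgroup.zpowers_le.2 he)) ?_).symm
    set K := Subgroup.zpowers z ⊔ Subgroup.zpowers e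
    obtain ⟨k, hk⟩ := IsPGroup.iff_card.1 (hG.to_subgroup K)
    rw [hEcard, hk]
    refine Nat.pow_le_pow_right hp.out.pos ?_
    by_contra hlt
    have h1 : Subgroup.zpowers z = K := Subgroup.eq_of_le_of_card_ge le_sup_left (by
      rw [hord z hzE hz1, hk]
      calc p ^ k ≤ p ^ 1 := Nat.pow_le_pow_right hp.out.pos (by omega)
        _ = p := pow_one p)
    exact hez (h1 ▸ (le_sup_right : Subgroup.zpowers e ≤ K) (Subgroup.mem_zpowers e))
  let C := Subgroup.centralizer ({e} : Set G)
  have hC : C ≤ E := by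
    intro x hx
    refine hCE ?_
    rw [Subgroup.mem_centralizer_iff]
    intro y hy
    have : E ≤ Subgroup.centralizer ({x} : Set G) := by
      rw [hEgen]
      refine sup_le (Subgroup.zpowers_le.2 ?_) (Subgroup.zpowers_le.2 ?_)
      · exact Subgroup.mem_centralizer_singleton_iff.2 (Subgroup.mem_center_iff.1 hzZ x).symm
      · exact Subgroup.mem_centralizer_singleton_iff.2
          (Subgroup.mem_centralizer_singleton_iff.1 hx).symm
    exact Subgroup.mem_centralizer_singleton_iff.1 (this hy)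
  -- the class of `e` is small
  have horb : C.index ∣ p := by
    have h1 : C.index = (MulAction.orbit (ConjAct G) e).ncard := by
      rw [← Nat.card_coe_set_eq, Nat.card_congr (MulAction.orbitEquivQuotientStabilizer (ConjAct G) e),
        ConjAct.stabilizer_eq_centralizer]
      rfl
    obtain ⟨k, hk⟩ := hG.index C
    rw [hk]
    have h2 : (MulAction.orbit (ConjAct G) e).ncard < p ^ 2 := by
      rw [← hEcard]
      have hss : MulAction.orbit (ConjAct G) e ⊂ (E : Set G) := by
        refine (Set.ssubset_iff_of_subset ?_).2 ⟨1, one_mem E, ?_⟩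
        · rintro _ ⟨g, rfl⟩
          show g • e ∈ E
          rw [ConjAct.smul_def]
          exact hEn.conj_mem e he _
        · rintro ⟨g, hg⟩
          apply he1
          have h3 : g • e = 1 := hg
          rw [← inv_smul_smul g e, h3, smul_one]
      have := Set.ncard_lt_ncard hss (Set.toFinite _)
      rwa [← Nat.card_coe_set_eq (E : Set G)] at this
    rw [← h1, hk] at h2
    have : k ≤ 1 := by
      have := (Nat.pow_lt_pow_iff_right hp.out.one_lt).1 h2
      omega
    exact (pow_dvd_pow p this).trans (dvd_of_eq (pow_one p))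
  have hdvd : Nat.card G ∣ p ^ 3 := by
    rw [← C.card_mul_index, show p ^ 3 = p ^ 2 * p by ring]
    exact mul_dvd_mul (hEcard ▸ Subgroup.card_dvd_of_le hC) horb
  obtain ⟨j, hj, hcard⟩ := (Nat.dvd_prime_pow hp.out).1 hdvd
  rcases Nat.lt_or_ge j 3 with h | h
  · exfalso
    apply hna
    interval_cases j
    · haveI : Subsingleton G := (Nat.card_eq_one_iff_unique.1 hcard).1
      exact ⟨⟨fun a b => Subsingleton.elim _ _⟩⟩
    · haveI := isCyclic_of_prime_card (α := G) (hcard.trans (pow_one p))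
      exact ⟨⟨fun a b => PGroup.mul_comm_of_cyclic a b⟩⟩
    · exact ⟨⟨fun a b => IsPGroup.commutative_of_card_eq_prime_sq hcard a b⟩⟩
  · rw [hcard, show j = 3 by omega]

theorem cube_backward {p : ℕ} [hp : Fact p.Prime] (hna : ¬ IsMulCommutative G)
    (hG : Nat.card G = p ^ 3) : SC G := by
  intro H hH
  obtain ⟨j, hj, hcard⟩ := (Nat.dvd_prime_pow hp.out).1 (hG ▸ Subgroup.card_subgroup_dvd_card H)
  have hj2 : 2 ≤ j := by
    by_contra h
    interval_cases j
    · exact hH (by rw [Subgroup.eq_bot_of_card_eq H (by rw [hcard, pow_zero])]; infer_instance)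
    · exact hH (isCyclic_of_prime_card (p := p) (by rw [hcard, pow_one]))
  rcases Nat.lt_or_ge j 3 with h | h
  swap
  · rw [Subgroup.eq_top_of_card_eq H (by rw [hcard, hG]; congr 1; omega)]
    exact le_top
  obtain rfl : j = 2 := by omega
  intro x hx
  by_contra hxH
  apply hna
  have hab : ∀ a b : H, a * b = b * a := IsPGroup.commutative_of_card_eq_prime_sq hcard
  have hle : H ≤ Subgroup.centralizer ((H ⊔ Subgroup.zpowers x : Subgroup G) : Set G) := by
    intro a ha
    have h1 : H ⊔ Subgroup.zpowers x ≤ Subgroup.centralizer ({a} : Set G) := by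
      refine sup_le (fun b hb => Subgroup.mem_centralizer_singleton_iff.2 ?_)
        (Subgroup.zpowers_le.2 (Subgroup.mem_centralizer_singleton_iff.2 ?_))
      · exact congrArg Subtype.val (hab ⟨b, hb⟩ ⟨a, ha⟩)
      · exact (Subgroup.mem_centralizer_iff.1 hx a ha).symm
    rw [Subgroup.mem_centralizer_iff]
    intro b hb
    exact Subgroup.mem_centralizer_singleton_iff.1 (h1 hb)
  have htop : H ⊔ Subgroup.zpowers x = ⊤ := by
    obtain ⟨i, hi, hci⟩ := (Nat.dvd_prime_pow hp.out).1
      (hG ▸ Subgroup.card_subgroup_dvd_card (H ⊔ Subgroup.zpowers x))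
    refine Subgroup.eq_top_of_card_eq _ ?_
    rw [hci, hG]
    congr 1
    by_contra hi3
    apply hxH
    have h1 : H = H ⊔ Subgroup.zpowers x := Subgroup.eq_of_le_of_card_ge le_sup_left (by
      rw [hci, hcard]; exact Nat.pow_le_pow_right hp.out.pos (by omega))
    rw [h1]; exact Subgroup.mem_sup_right (Subgroup.mem_zpowers x)
  rw [htop, Subgroup.coe_top, Subgroup.centralizer_univ] at hle
  haveI : IsCyclic (G ⧸ Subgroup.center G) := by
    have h1 : (Subgroup.center G).index ∣ p := by
      refine (Subgroup.index_dvd_of_le hle).trans (dvd_of_eq ?_)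
      have := H.card_mul_index
      rw [hcard, hG, show p ^ 3 = p ^ 2 * p by ring] at this
      exact Nat.eq_of_mul_eq_mul_left (pow_pos hp.out.pos 2) this
    rcases (Nat.dvd_prime hp.out).1 h1 with h2 | h2
    · haveI : Subsingleton (G ⧸ Subgroup.center G) :=
        (Nat.card_eq_one_iff_unique.1 (by rw [← Subgroup.index_eq_card, h2])).1
      infer_instance
    · exact isCyclic_of_prime_card (p := p) (by rw [← Subgroup.index_eq_card, h2])
  exact ⟨⟨fun a b => commutative_of_cyclic_center_quotient (QuotientGroup.mk' (Subgroup.center G))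
    (by simp) a b⟩⟩

/-- A subgroup of order four in a 2-group with the property, self-centralizing. -/
theorem exists_four (hG : IsPGroup 2 G) (hna : ¬ IsMulCommutative G) (hX : SC G) :
    ∃ A : Subgroup G, Nat.card A = 2 ^ 2 ∧ Subgroup.centralizer (A : Set G) = A := by
  classical
  haveI : Fact (Nat.Prime 2) := ⟨Nat.prime_two⟩
  by_cases huniq : ∀ H K : Subgroup G, Nat.card H = 2 → Nat.card K = 2 → H = K
  · rcases S0016.result 2 hG huniq with hc | ⟨-, m, ⟨f⟩⟩
    · exact absurd (⟨⟨fun a b => PGroup.mul_comm_of_cyclic a b⟩⟩ : IsMulCommutative G) hna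
    haveI : NeZero (2 ^ m) := ⟨pow_ne_zero _ two_ne_zero⟩
    set y := f.symm (QuaternionGroup.xa 0) with hy
    have hyo : orderOf y = 4 := by
      rw [hy, MulEquiv.orderOf_eq, QuaternionGroup.orderOf_xa]
    refine ⟨Subgroup.zpowers y, by rw [Nat.card_zpowers, hyo]; norm_num, le_antisymm ?_ ?_⟩
    · intro x hx
      have hc : y * x = x * y := Subgroup.mem_centralizer_iff.1 hx y (Subgroup.mem_zpowers y)
      have hc' := congrArg f hc
      rw [map_mul, map_mul, hy, f.apply_symm_apply] at hc'
      have key : f x ∈ Subgroup.zpowers (QuaternionGroup.xa (0 : ZMod (2 * 2 ^ m))) := by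
        have hhalf : ∀ i : ZMod (2 * 2 ^ m), i + i = 0 → i = 0 ∨ i = ((2 ^ m : ℕ) : ZMod (2 * 2 ^ m)) := by
          intro i hi
          have h2 : 2 * 2 ^ m ∣ 2 * i.val := by
            rw [← ZMod.natCast_eq_zero_iff]
            push_cast [ZMod.natCast_zmod_val]
            linear_combination hi
          obtain ⟨c, hc⟩ := Nat.dvd_of_mul_dvd_mul_left two_pos h2
          have hlt := ZMod.val_lt i
          rcases c with _ | _ | c
          · exact Or.inl ((ZMod.val_eq_zero i).1 (by omega))
          · exact Or.inr (by rw [← ZMod.natCast_zmod_val i, hc, zero_add, mul_one])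
          · exfalso; nlinarith
        have hsq : QuaternionGroup.xa (0 : ZMod (2 * 2 ^ m)) ^ 2
            = QuaternionGroup.a ((2 ^ m : ℕ) : ZMod (2 * 2 ^ m)) := by
          rw [pow_two, QuaternionGroup.xa_mul_xa, sub_zero, add_zero]
        have hh : ((2 ^ m : ℕ) : ZMod (2 * 2 ^ m)) + ((2 ^ m : ℕ) : ZMod (2 * 2 ^ m)) = 0 := by
          rw [← Nat.cast_add, ← two_mul, ZMod.natCast_self]
        generalize f x = w at hc'
        rcases w with i | i
        · simp only [QuaternionGroup.xa_mul_a, QuaternionGroup.a_mul_xa, QuaternionGroup.xa.injEq] at hc'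
          rcases hhalf i (by linear_combination hc') with rfl | rfl
          · rw [QuaternionGroup.a_zero]; exact one_mem _
          · rw [← hsq]; exact pow_mem (Subgroup.mem_zpowers _) 2
        · simp only [QuaternionGroup.xa_mul_xa, QuaternionGroup.a.injEq] at hc'
          rcases hhalf i (by linear_combination hc') with rfl | rfl
          · exact Subgroup.mem_zpowers _
          · have : QuaternionGroup.xa ((2 ^ m : ℕ) : ZMod (2 * 2 ^ m))
                = QuaternionGroup.xa (0 : ZMod (2 * 2 ^ m)) ^ 2 * QuaternionGroup.xa 0 := by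
              rw [hsq, QuaternionGroup.a_mul_xa, QuaternionGroup.xa.injEq]
              linear_combination hh
            rw [this]
            exact mul_mem (pow_mem (Subgroup.mem_zpowers _) 2) (Subgroup.mem_zpowers _)
      obtain ⟨t, ht⟩ := key
      exact ⟨t, f.injective (by rw [map_zpow, hy, f.apply_symm_apply]; exact ht)⟩
    · exact Subgroup.le_centralizer _
  · push Not at huniq
    obtain ⟨H, K, hH, hK, hHK⟩ := huniq
    haveI : Nontrivial G := by
      by_contra h
      rw [not_nontrivial_iff_subsingleton] at h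
      exact hHK (Subsingleton.elim H K)
    obtain ⟨z, hz⟩ := exists_prime_orderOf_dvd_card' (G := Subgroup.center G) 2
      (PGroup.dvd_card_center hG)
    have hzo : orderOf (z : G) = 2 := by rw [Subgroup.orderOf_coe, hz]
    obtain ⟨L, hL, hLz⟩ : ∃ L : Subgroup G, Nat.card L = 2 ∧ L ≠ Subgroup.zpowers (z : G) := by
      by_contra h
      push Not at h
      exact hHK ((h H hH).trans (h K hK).symm)
    set Z := Subgroup.zpowers (z : G) with hZ
    have hZc : Nat.card Z = 2 := by rw [hZ, Nat.card_zpowers, hzo]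
    haveI hZn : Z.Normal := ⟨fun x hx g => by
      have : g * x = x * g := Subgroup.mem_center_iff.1
        ((Subgroup.zpowers_le.2 z.2) hx) g
      rw [this, mul_inv_cancel_right]; exact hx⟩
    have hdisj : Disjoint Z L := by
      rw [disjoint_iff]
      rcases (Nat.dvd_prime Nat.prime_two).1
        (hZc ▸ Subgroup.card_dvd_of_le (inf_le_left : Z ⊓ L ≤ Z)) with h | h
      · exact Subgroup.eq_bot_of_card_eq _ h
      · exfalso
        have h1 : Z ⊓ L = Z := Subgroup.eq_of_le_of_card_ge inf_le_left (by rw [h, hZc])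
        exact hLz (Subgroup.eq_of_le_of_card_ge (inf_eq_left.1 h1) (by rw [hL, hZc])).symm
    have hA : Nat.card (Z ⊔ L : Subgroup G) = 2 ^ 2 := by
      calc Nat.card (Z ⊔ L : Subgroup G) = Nat.card (Z × L) := by
            refine (Nat.card_eq_of_bijective (fun xy : Z × L =>
              (⟨(xy.1 : G) * xy.2, Subgroup.mul_mem_sup xy.1.2 xy.2.2⟩ : (Z ⊔ L : Subgroup G)))
              ⟨?_, ?_⟩).symm
            · rintro ⟨a, b⟩ ⟨a', b'⟩ he
              exact Subgroup.mul_injective_of_disjoint hdisj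
                (show (a : G) * b = a' * b' from congrArg Subtype.val he)
            · rintro ⟨w, hw⟩
              obtain ⟨a, ha, b, hb, rfl⟩ := Subgroup.mem_sup_of_normal_left.1 hw
              exact ⟨(⟨a, ha⟩, ⟨b, hb⟩), rfl⟩
        _ = 2 ^ 2 := by rw [Nat.card_prod, hZc, hL]; norm_num
    refine ⟨Z ⊔ L, hA, le_antisymm (hX _ fun hc => ?_) ?_⟩
    · haveI := hc
      have h1 : Monoid.exponent (Z ⊔ L : Subgroup G) ∣ 2 := by
        refine Monoid.exponent_dvd_of_forall_pow_eq_one fun w => Subtype.ext ?_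
        obtain ⟨a, ha, b, hb, hab⟩ := Subgroup.mem_sup_of_normal_left.1 w.2
        show (w : G) ^ 2 = 1
        rw [← hab]
        have hca : Commute a b := (Subgroup.mem_center_iff.1 ((Subgroup.zpowers_le.2 z.2) ha) b).symm
        rw [hca.mul_pow]
        have ha2 : a ^ 2 = 1 := hZc ▸ congrArg Subtype.val (pow_card_eq_one' (x := (⟨a, ha⟩ : Z)))
        have hb2 : b ^ 2 = 1 := hL ▸ congrArg Subtype.val (pow_card_eq_one' (x := (⟨b, hb⟩ : L)))
        rw [ha2, hb2, one_mul]
      rw [IsCyclic.exponent_eq_card, hA] at h1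
      exact absurd (Nat.le_of_dvd two_pos h1) (by norm_num)
    · haveI : Fact (Nat.Prime 2) := ⟨Nat.prime_two⟩
      intro a ha
      rw [Subgroup.mem_centralizer_iff]
      intro b hb
      exact congrArg Subtype.val
        (IsPGroup.commutative_of_card_eq_prime_sq hA (⟨b, hb⟩ : (Z ⊔ L : Subgroup G)) ⟨a, ha⟩)

theorem two_forward (n : ℕ) (hn : Nat.card G = 2 ^ n) (hna : ¬ IsMulCommutative G) (hX : SC G) :
    (⊤ : Subgroup G).lowerCentralSeries (n - 2) ≠ ⊥ := by
  haveI : Fact (Nat.Prime 2) := ⟨Nat.prime_two⟩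
  have hG : IsPGroup 2 G := IsPGroup.of_card hn
  obtain ⟨A, hA, hC⟩ := exists_four hG hna hX
  haveI := hG.isNilpotent
  have hcl := FG78.suzuki_maximal_class n hn A hA hC
  intro h
  rw [Subgroup.lowerCentralSeries_eq_bot_iff_nilpotencyClass_le, hcl] at h
  have h2 : 2 ≤ n := (Nat.pow_le_pow_iff_right (a := 2) (by norm_num)).1
    (hA ▸ hn ▸ Subgroup.card_le_card_group A)
  omega

theorem index_commutator_four (n : ℕ) (hn : Nat.card G = 2 ^ n) (hna : ¬ IsMulCommutative G)
    (h : (⊤ : Subgroup G).lowerCentralSeries (n - 2) ≠ ⊥) :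
    (commutator G).index = 4 ∧ 8 ≤ Nat.card G := by
  haveI : Fact (Nat.Prime 2) := ⟨Nat.prime_two⟩
  have hG : IsPGroup 2 G := IsPGroup.of_card hn
  haveI := hG.isNilpotent
  set L := fun i => (⊤ : Subgroup G).lowerCentralSeries i with hL
  have hne : ∀ i, i ≤ n - 2 → L i ≠ ⊥ := fun i hi h' =>
    h (le_bot_iff.1 (h' ▸ Subgroup.lowerCentralSeries_antitone _ hi))
  have hstep : ∀ i, L i ≠ ⊥ → 2 * Nat.card (L (i + 1)) ≤ Nat.card (L i) := by
    intro i hi
    have hle : L (i + 1) ≤ L i := Subgroup.lowerCentralSeries_antitone _ (Nat.le_succ i)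
    obtain ⟨a, ha⟩ := IsPGroup.iff_card.1 (hG.to_subgroup (L i))
    obtain ⟨b, hb⟩ := IsPGroup.iff_card.1 (hG.to_subgroup (L (i + 1)))
    have hlt : b < a := by
      by_contra hge
      have heq : L (i + 1) = L i := Subgroup.eq_of_le_of_card_ge hle (by
        rw [ha, hb]; exact Nat.pow_le_pow_right two_pos (by omega))
      have hconst : ∀ k, L (i + k) = L i := by
        intro k
        induction k with
        | zero => rfl
        | succ k ih =>
          show (⊤ : Subgroup G).lowerCentralSeries (i + k + 1) = _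
          rw [Subgroup.lowerCentralSeries_succ]
          rw [show (⊤ : Subgroup G).lowerCentralSeries (i + k) = L i from ih]
          exact (Subgroup.lowerCentralSeries_succ (⊤ : Subgroup G) i).symm.trans heq
      obtain ⟨c, hc⟩ := Subgroup.nilpotent_iff_lowerCentralSeries.1 (inferInstance : Group.IsNilpotent G)
      refine hi (le_bot_iff.1 ?_)
      rw [← hconst c, ← hc]
      exact Subgroup.lowerCentralSeries_antitone _ (Nat.le_add_left c i)
    rw [ha, hb, ← pow_succ']
    exact Nat.pow_le_pow_right two_pos hlt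
  have hdown : ∀ k, k ≤ n - 2 → 2 ^ (k + 1) ≤ Nat.card (L (n - 2 - k)) := by
    intro k
    induction k with
    | zero =>
      intro _
      obtain ⟨a, ha⟩ := IsPGroup.iff_card.1 (hG.to_subgroup (L (n - 2 - 0)))
      rcases a with _ | a
      · exact absurd (Subgroup.eq_bot_of_card_eq _ (by rw [ha, pow_zero])) (hne _ (by omega))
      · rw [ha]; exact Nat.pow_le_pow_right two_pos (by omega)
    | succ k ih =>
      intro hk
      have h1 := hstep (n - 2 - (k + 1)) (hne _ (by omega))
      rw [show n - 2 - (k + 1) + 1 = n - 2 - k by omega] at h1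
      have := ih (by omega)
      rw [pow_succ]
      omega
  have hcne : commutator G ≠ ⊥ := fun h' => hna ⟨⟨fun a b => by
    have : ⁅a, b⁆ ∈ commutator G := Subgroup.commutator_mem_commutator trivial trivial
    rw [h', Subgroup.mem_bot, commutatorElement_eq_one_iff_mul_comm] at this
    exact this⟩⟩
  have hL1 : L 1 = commutator G := by
    show (⊤ : Subgroup G).lowerCentralSeries 1 = _
    rw [Subgroup.lowerCentralSeries_succ, Subgroup.lowerCentralSeries_zero, _root_.commutator_def]
  have hmul := (commutator G).card_mul_index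
  obtain ⟨c, hc⟩ := IsPGroup.iff_card.1 (hG.to_subgroup (commutator G))
  obtain ⟨d, hd⟩ := hG.index (commutator G)
  rw [hc, hd, hn, ← pow_add] at hmul
  have hcd : c + d = n := Nat.pow_right_injective le_rfl hmul
  have hc1 : 1 ≤ c := by
    rcases c with _ | c
    · exact absurd (Subgroup.eq_bot_of_card_eq _ (by rw [hc, pow_zero])) hcne
    · omega
  have hd2 : 2 ≤ d := by
    by_contra hlt
    have h2 : (frattini G).index ≤ 2 := by
      refine (Nat.le_of_dvd ?_ (Subgroup.index_dvd_of_le (PGroup.commutator_le_frattini hG))).trans ?_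
      · rw [hd]; positivity
      · rw [hd]
        calc 2 ^ d ≤ 2 ^ 1 := Nat.pow_le_pow_right two_pos (by omega)
          _ = 2 := pow_one 2
    haveI := PGroup.isCyclic_of_index_frattini_le hG h2
    exact hna ⟨⟨fun a b => PGroup.mul_comm_of_cyclic a b⟩⟩
  have hn3 : 3 ≤ n := by omega
  have hbig := hdown (n - 3) (by omega)
  rw [show n - 2 - (n - 3) = 1 by omega, hL1, hc] at hbig
  have hcn : n - 3 + 1 ≤ c := (Nat.pow_le_pow_iff_right (a := 2) (by norm_num)).1 hbig
  refine ⟨?_, ?_⟩
  · rw [hd, show d = 2 by omega]; norm_num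
  · rw [hn]
    calc 8 = 2 ^ 3 := by norm_num
      _ ≤ 2 ^ n := Nat.pow_le_pow_right two_pos hn3

theorem mc_backward (h : FGS82.MC G) : SC G := by
  classical
  obtain ⟨a, b, k, j, hk, ha, hc, hb, hj, hj4⟩ := h
  have hi := FGS82.index_zpowers_eq_two ha hc
  haveI : Fact (Nat.Prime 2) := ⟨Nat.prime_two⟩
  have hG : IsPGroup 2 G := IsPGroup.of_card hc
  have hinv2 : ∀ x ∈ Subgroup.zpowers a, x ^ 2 = 1 → x = 1 ∨ x = a ^ (2 ^ (k - 1)) := by
    intro x hx hx2
    obtain ⟨t, ht, rfl⟩ := Finset.mem_image.1 ((mem_zpowers_iff_mem_range_orderOf).1 hx)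
    rw [Finset.mem_range, ha] at ht
    rw [← pow_mul] at hx2
    have h1 := orderOf_dvd_of_pow_eq_one hx2
    rw [ha, show 2 ^ k = 2 ^ (k - 1) * 2 by rw [← pow_succ]; congr 1; omega] at h1
    obtain ⟨c, hc'⟩ := Nat.dvd_of_mul_dvd_mul_right two_pos h1
    rw [show 2 ^ k = 2 ^ (k - 1) * 2 by rw [← pow_succ]; congr 1; omega] at ht
    rcases c with _ | _ | c
    · exact Or.inl (by rw [hc', mul_zero, pow_zero])
    · exact Or.inr (by rw [hc', zero_add, mul_one])
    · exfalso; nlinarith
  intro H hH x hx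
  obtain ⟨y, hyH, hya⟩ : ∃ y ∈ H, y ∉ Subgroup.zpowers a := by
    by_contra h'
    push Not at h'
    exact hH (isCyclic_of_injective (Subgroup.inclusion (show H ≤ Subgroup.zpowers a from h'))
      (Subgroup.inclusion_injective _))
  have hmem : ∀ u v : G, u ∉ Subgroup.zpowers a → v ∉ Subgroup.zpowers a →
      u * v⁻¹ ∈ Subgroup.zpowers a := fun u v hu hv =>
    (Subgroup.mul_mem_iff_of_index_two hi).2 ⟨fun h => absurd h hu, fun h => absurd (inv_mem_iff.1 h) hv⟩
  have hyj : y * a * y⁻¹ = a ^ j := by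
    obtain ⟨i, hi'⟩ := Subgroup.mem_zpowers_iff.1 (hmem y b hya hb)
    rw [show y = a ^ i * b by rw [hi']; group]
    calc a ^ i * b * a * (a ^ i * b)⁻¹ = a ^ i * (b * a * b⁻¹) * (a ^ i)⁻¹ := by group
      _ = a ^ j := by rw [hj]; group
  -- the involution of `⟨a⟩` lies in `H`
  have hzH : a ^ (2 ^ (k - 1)) ∈ H := by
    obtain ⟨w, hwH, hwa, hw1⟩ : ∃ w ∈ H, w ∈ Subgroup.zpowers a ∧ w ≠ 1 := by
      by_contra h'
      push Not at h'
      refine hH ⟨⟨⟨y, hyH⟩, fun v => ?_⟩⟩
      by_cases hv : (v : G) ∈ Subgroup.zpowers a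
      · exact ⟨0, Subtype.ext (by simp [h' v v.2 hv])⟩
      · refine ⟨1, Subtype.ext ?_⟩
        have := h' _ (mul_mem v.2 (inv_mem hyH)) (hmem v y hv hya)
        simp [mul_inv_eq_one.1 this]
    obtain ⟨e, he⟩ := IsPGroup.iff_orderOf.1 hG w
    rcases e with _ | e
    · rw [pow_zero, orderOf_eq_one_iff] at he; exact absurd he hw1
    have h1 : (w ^ 2 ^ e) ^ 2 = 1 := by rw [← pow_mul, ← pow_succ, ← he, pow_orderOf_eq_one]
    rcases hinv2 _ (pow_mem hwa _) h1 with h2 | h2
    · have := Nat.le_of_dvd (by positivity) (orderOf_dvd_of_pow_eq_one h2)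
      rw [he, pow_succ] at this
      have : 0 < 2 ^ e := by positivity
      omega
    · rw [← h2]; exact pow_mem hwH _
  have hrot : ∀ v ∈ Subgroup.zpowers a, y * v = v * y → v ∈ H := by
    intro v hv hvy
    obtain ⟨t, rfl⟩ := Subgroup.mem_zpowers_iff.1 hv
    have h1 : y * a ^ t * y⁻¹ = a ^ (j * t) := by rw [← conj_zpow, hyj, ← zpow_mul]
    rw [hvy, mul_inv_cancel_right, zpow_eq_zpow_iff_modEq, ha, Int.modEq_iff_dvd] at h1
    push_cast at h1
    obtain ⟨u, hu⟩ : ∃ u : ℤ, j - 1 = 2 * (2 * u + 1) := ⟨j / 4, by omega⟩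
    have h2 : (2 : ℤ) ^ k ∣ (2 * t) * (2 * u + 1) := by
      rw [show 2 * t * (2 * u + 1) = j * t - t by linear_combination (-t) * hu]
      exact h1
    have h3 : (2 : ℤ) ^ k ∣ 2 * t :=
      (FGS82.isCoprime_two_pow (u := 2 * u + 1) (by omega) k).symm.dvd_of_dvd_mul_right h2
    have h4 : (a ^ t) ^ 2 = 1 := by
      rw [← zpow_natCast, ← zpow_mul, ← orderOf_dvd_iff_zpow_eq_one, ha]
      push_cast
      rwa [mul_comm]
    rcases hinv2 _ (zpow_mem (Subgroup.mem_zpowers a) t) h4 with h5 | h5
    · rw [h5]; exact one_mem H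
    · rw [h5]; exact hzH
  rw [Subgroup.mem_centralizer_iff] at hx
  by_cases hxa : x ∈ Subgroup.zpowers a
  · exact hrot x hxa (hx y hyH)
  · have h1 := hrot (x * y⁻¹) (hmem x y hxa hya) (by
      rw [← mul_assoc, hx y hyH, mul_assoc, mul_inv_cancel, mul_one]; group)
    simpa using mul_mem h1 hyH

end Cfsg.Agent.FG75.SelfCentral
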