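/-
Groups whose small Sylow subgroups are abelian of rank at most two.
-/
import Cfsg.Agent.FG75.FrattiniAction
import Mathlib

set_option autoImplicit false
set_option linter.all false

open Cfsg

universe u

namespace Cfsg.Agent.FG75

theorem isSolvable_of_small_sylows (m : ℕ) : ∀ (G : Type u) [Group G] [Finite G], Nat.card G ≤ m →
    (∀ p : ℕ, p.Prime → p ∣ Nat.card G → (∃ q : ℕ, q.Prime ∧ q ∣ Nat.card G ∧ p < q) →
      ∀ P : Sylow p G, IsMulCommutative (P : Subgroup G) ∧ Group.rank (P : Subgroup G) ≤ 2) →
    ¬ 12 ∣ Nat.card G → Group.IsSolvable G := by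
  induction m with
  | zero =>
    intro G _ _ h
    have := Nat.card_pos (α := G); omega
  | succ m ih =>
    intro G _ _ hm h h12
    rcases eq_or_ne (Nat.card G) 1 with h1 | h1
    · haveI : Subsingleton G := (Nat.card_eq_one_iff_unique.1 h1).1
      infer_instance
    set p := (Nat.card G).minFac with hpdef
    have hp : p.Prime := Nat.minFac_prime h1
    haveI := Fact.mk hp
    by_cases hbig : ∀ q : ℕ, q.Prime → q ∣ Nat.card G → q = p
    · have hpg : IsPGroup p G := IsPGroup.of_card (n := (Nat.card G).primeFactorsList.length)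
        (Nat.eq_prime_pow_of_unique_prime_dvd Nat.card_pos.ne' fun {d} hd hdG => hbig d hd hdG)
      haveI := hpg.isNilpotent
      infer_instance
    push Not at hbig
    obtain ⟨q, hq, hqG, hqp⟩ := hbig
    have hpq : p < q := lt_of_le_of_ne (Nat.minFac_le_of_dvd hq.two_le hqG) (Ne.symm hqp)
    obtain ⟨P⟩ : Nonempty (Sylow p G) := inferInstance
    obtain ⟨hab, hrk⟩ := h p hp (Nat.minFac_dvd _) ⟨q, hq, hqG, hpq⟩ P
    obtain ⟨d, hd2, hd, hne⟩ : ∃ d ≤ 2, (frattini (P : Subgroup G)).index ∣ p ^ d ∧
        (p = 2 → 3 ∣ Nat.card G → d ≤ 1) := by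
      by_cases h6 : p = 2 ∧ 3 ∣ Nat.card G
      · refine ⟨1, by norm_num, ?_, fun _ _ => le_rfl⟩
        have h4 : ¬ 4 ∣ Nat.card G := fun h4 =>
          h12 ((show Nat.Coprime 4 3 by norm_num).mul_dvd_of_dvd_of_dvd h4 h6.2)
        obtain ⟨k, hk⟩ := IsPGroup.iff_card.1 P.2
        have hk1 : k ≤ 1 := by
          by_contra hk1
          apply h4
          calc 4 = p ^ 2 := by rw [h6.1]; norm_num
            _ ∣ p ^ k := pow_dvd_pow p (by omega)
            _ ∣ Nat.card G := hk ▸ Subgroup.card_subgroup_dvd_card _
        exact (Subgroup.index_dvd_card _).trans (hk ▸ pow_dvd_pow p hk1)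
      · exact ⟨2, le_rfl, (frattini_index_dvd_pow_rank P.2).trans (pow_dvd_pow p hrk),
          fun a b => absurd ⟨a, b⟩ h6⟩
    have hcompl : HasNormalPComplement p G := by
      refine hasNormalPComplement_of_frattini_index P hab hd fun r hr hrG hrp i hi hid hdvd => ?_
      have hpr : p < r := lt_of_le_of_ne (Nat.minFac_le_of_dvd hr.two_le hrG) (Ne.symm hrp)
      obtain rfl | rfl : i = 1 ∨ i = 2 := by omega
      · rw [pow_one] at hdvd
        have := Nat.le_of_dvd (by have := hp.two_le; omega) hdvd
        omega
      · have hfac : p ^ 2 - 1 = (p + 1) * (p - 1) := by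
          simpa using Nat.sq_sub_sq p 1
        rw [hfac] at hdvd
        rcases hr.dvd_mul.1 hdvd with h' | h'
        · have hle := Nat.le_of_dvd (by omega) h'
          have hr' : r = p + 1 := by omega
          rcases hp.eq_two_or_odd' with hp2 | ⟨t, ht⟩
          · have := hne hp2 (by rw [show (3 : ℕ) = r by omega]; exact hrG)
            omega
          · have : r = 2 := (hr.eq_two_or_odd'.resolve_right (by
              rintro ⟨s, hs⟩; omega))
            have := hp.two_le
            omega
        · have := Nat.le_of_dvd (by have := hp.two_le; omega) h'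
          omega
    obtain ⟨P', N, hN, hc⟩ := hcompl
    have hcm := hc.card_mul
    have hcP : 1 < Nat.card (P' : Subgroup G) := by
      rw [P'.card_eq_multiplicity]
      exact Nat.one_lt_pow (hp.factorization_pos_of_dvd Nat.card_pos.ne' (Nat.minFac_dvd _)).ne'
        hp.one_lt
    have hNlt : Nat.card N < Nat.card G := by
      rw [← hcm]; exact lt_mul_of_one_lt_right Nat.card_pos hcP
    have hdvdN : Nat.card N ∣ Nat.card G := Subgroup.card_subgroup_dvd_card N
    haveI hsolN : Group.IsSolvable N := by
      refine ih N (by omega) (fun r hr hrN hlarge R => ?_) fun h' => h12 (h'.trans hdvdN)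
      obtain ⟨s, hs, hsN, hrs⟩ := hlarge
      haveI := Fact.mk hr
      have hrp : r ≠ p := by
        rintro rfl
        obtain ⟨k, hk⟩ := IsPGroup.iff_card.1 P'.2
        have : (Nat.card G).factorization p = (Nat.card G).factorization p +
            (Nat.card N).factorization p := by
          conv_lhs => rw [← hcm]
          rw [Nat.factorization_mul Nat.card_pos.ne' (by omega), Finsupp.add_apply,
            P'.card_eq_multiplicity, Nat.Prime.factorization_pow hp, Finsupp.single_eq_same]
          omega
        have := hp.factorization_pos_of_dvd Nat.card_pos.ne' hrN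
        omega
      have hcard : Nat.card ((R : Subgroup N).map N.subtype) = r ^ (Nat.card G).factorization r := by
        rw [← Nat.card_congr ((R : Subgroup N).equivMapOfInjective _ N.subtype_injective).toEquiv,
          R.card_eq_multiplicity]
        congr 1
        conv_rhs => rw [← hcm]
        rw [Nat.factorization_mul Nat.card_pos.ne' (by omega), Finsupp.add_apply]
        obtain ⟨k, hk⟩ := IsPGroup.iff_card.1 P'.2
        rw [hk, Nat.Prime.factorization_pow hp, Finsupp.single_eq_of_ne hrp, add_zero]
      let R' : Sylow r G := Sylow.ofCard ((R : Subgroup N).map N.subtype) hcard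
      obtain ⟨hab', hrk'⟩ := h r hr (hrN.trans hdvdN) ⟨s, hs, hsN.trans hdvdN, hrs⟩ R'
      let e : (R : Subgroup N) ≃* (R' : Subgroup G) :=
        (R : Subgroup N).equivMapOfInjective _ N.subtype_injective
      exact ⟨⟨⟨fun a b => e.injective (by rw [map_mul, map_mul]; exact hab'.is_comm.comm _ _)⟩⟩,
        (Group.rank_congr e).trans_le hrk'⟩
    haveI : IsPGroup p (G ⧸ N) → Group.IsSolvable (G ⧸ N) := fun hpg => by
      haveI := hpg.isNilpotent; infer_instance
    haveI : Group.IsSolvable (G ⧸ N) := this (by
      obtain ⟨k, hk⟩ := IsPGroup.iff_card.1 P'.2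
      refine IsPGroup.of_card (n := k) ?_
      have h2 := Subgroup.card_mul_index N
      rw [Subgroup.index_eq_card, ← hcm, hk] at h2
      exact Nat.eq_of_mul_eq_mul_left Nat.card_pos h2)
    exact Group.isSolvable_of_ker_le_range (G' := N) (G'' := G ⧸ N) N.subtype (QuotientGroup.mk' N)
      (by simp)

end Cfsg.Agent.FG75
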