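import Cfsg.Prelude.Def_GeometricClasses
import Cfsg.Agent.MaxSub.Asch.TensorAux
import Cfsg.Agent.MaxSub.Asch.PowerGram

/-!
In characteristic two the stabiliser of a tensor power decomposition with symplectic factors of
dimension two or four is contained in the normaliser of the space spanned by the Clifford generators of
the factors, so it is not maximal in `Ω`.
-/

set_option autoImplicit false
set_option linter.unusedSectionVars false

namespace Cfsg.Agent.FG75.SpinTensor

open scoped MatrixGroups Matrix commutatorElement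
open Cfsg.Agent.MaxSub.Asch

variable {F : Type*} [Field F] {d t : ℕ}


theorem slot_add' (i : Fin t) (x y : Matrix (Fin d) (Fin d) F) : slot i (x + y) = slot i x + slot i y := by
  ext u v
  simp only [slot_apply, Matrix.add_apply, add_mul]

theorem slot_smul' (i : Fin t) (c : F) (x : Matrix (Fin d) (Fin d) F) : slot i (c • x) = c • slot i x := by
  ext u v
  simp only [slot_apply, Matrix.smul_apply, smul_eq_mul, mul_assoc]

theorem slot_mul' (i : Fin t) (x y : Matrix (Fin d) (Fin d) F) : slot i (x * y) = slot i x * slot i y := by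
  rw [slot, slot, slot, tens_mul]
  congr 1
  funext j
  rcases eq_or_ne j i with rfl | h
  · simp
  · simp [Function.update_of_ne h]

theorem slot_one' (i : Fin t) : slot i (1 : Matrix (Fin d) (Fin d) F) = 1 := by
  rw [slot, show (1 : Matrix (Fin d) (Fin d) F) = (1 : Fin t → Matrix (Fin d) (Fin d) F) i from rfl, Function.update_eq_self, tens_one]

theorem slot_smul_one (i : Fin t) (c : F) : slot i (c • (1 : Matrix (Fin d) (Fin d) F)) = c • 1 := by
  rw [slot_smul', slot_one']

theorem slot_comm {i j : Fin t} (h : i ≠ j) (x y : Matrix (Fin d) (Fin d) F) : slot i x * slot j y = slot j y * slot i x := by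
  rw [slot, slot, tens_mul, tens_mul]
  congr 1
  funext l
  rcases eq_or_ne l i with rfl | hl
  · simp [Function.update_of_ne h]
  · simp [Function.update_of_ne hl]

theorem slot_entry_eq_zero {i : Fin t} (A : Matrix (Fin d) (Fin d) F) {x y : Fin t → Fin d} {j : Fin t} (hji : j ≠ i)
    (h : x j ≠ y j) : slot i A x y = 0 := by
  rw [slot_apply]
  exact mul_eq_zero_of_right _ (Finset.prod_eq_zero (i := j) (by simp [hji]) (Matrix.one_apply_ne h))

theorem slot_entry_self {i : Fin t} (A : Matrix (Fin d) (Fin d) F) {x y : Fin t → Fin d} (h : ∀ j, j ≠ i → x j = y j) :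
    slot i A x y = A (x i) (y i) := by
  rw [slot_apply, Finset.prod_eq_one, mul_one]
  intro j hj
  rw [h j (by simpa using hj), Matrix.one_apply_eq]

theorem tens_update_add (i : Fin t) (b : Fin t → Matrix (Fin d) (Fin d) F) (x y : Matrix (Fin d) (Fin d) F) :
    tens (Function.update b i (x + y)) = tens (Function.update b i x) + tens (Function.update b i y) := by
  ext u v
  simp only [tens_apply, Matrix.add_apply]
  rw [Fintype.prod_eq_mul_prod_compl i, Fintype.prod_eq_mul_prod_compl i, Fintype.prod_eq_mul_prod_compl i]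
  simp only [Function.update_self, Matrix.add_apply]
  have hc : ∀ z : Matrix (Fin d) (Fin d) F, ∏ j ∈ ({i} : Finset (Fin t))ᶜ, Function.update b i z j (u j) (v j) =
      ∏ j ∈ ({i} : Finset (Fin t))ᶜ, b j (u j) (v j) := fun z =>
    Finset.prod_congr rfl fun j hj => by rw [Function.update_of_ne (by simpa using hj)]
  rw [hc, hc, hc, add_mul]

theorem slot_mul_tens (i : Fin t) (g : Matrix (Fin d) (Fin d) F) (b : Fin t → Matrix (Fin d) (Fin d) F) :
    slot i g * tens b = tens (Function.update b i (g * b i)) := by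
  rw [slot, tens_mul]
  congr 1
  funext j
  rcases eq_or_ne j i with rfl | hj
  · simp
  · simp [Function.update_of_ne hj]

theorem tens_mul_slot (i : Fin t) (g : Matrix (Fin d) (Fin d) F) (b : Fin t → Matrix (Fin d) (Fin d) F) :
    tens b * slot i g = tens (Function.update b i (b i * g)) := by
  rw [slot, tens_mul]
  congr 1
  funext j
  rcases eq_or_ne j i with rfl | hj
  · simp
  · simp [Function.update_of_ne hj]

theorem tens_eq_zero {b : Fin t → Matrix (Fin d) (Fin d) F} {l : Fin t} (h : b l = 0) : tens b = 0 := by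
  ext u v
  rw [tens_apply]
  exact Finset.prod_eq_zero (Finset.mem_univ l) (by rw [h]; rfl)

/-- The slot of an invertible matrix. -/
def slotGL (i : Fin t) (g g' : Matrix (Fin d) (Fin d) F) (h : g * g' = 1) : GL (Fin t → Fin d) F where
  val := slot i g
  inv := slot i g'
  val_inv := by rw [← slot_mul', h, slot_one']
  inv_val := by rw [← slot_mul', mul_eq_one_comm.mp h, slot_one']

/-- An element `1 + M` with `M * M = 0` in characteristic two. -/
def onePlus (two : (2 : F) = 0) (M : Matrix (Fin t → Fin d) (Fin t → Fin d) F) (hM : M * M = 0) : GL (Fin t → Fin d) F where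
  val := 1 + M
  inv := 1 + M
  val_inv := by
    have h0 : M + M = 0 := by rw [← two_smul F M, two, zero_smul]
    rw [mul_add, add_mul, add_mul, one_mul, one_mul, mul_one, hM, add_zero, add_assoc, h0, add_zero]
  inv_val := by
    have h0 : M + M = 0 := by rw [← two_smul F M, two, zero_smul]
    rw [mul_add, add_mul, add_mul, one_mul, one_mul, mul_one, hM, add_zero, add_assoc, h0, add_zero]

/-- The forms: `Q` is quadratic with polar form a multiple of the tensor power of `G`, zero on pure tensors. -/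
structure Setup (G : Matrix (Fin d) (Fin d) F) (Q : ((Fin t → Fin d) → F) → F) : Prop where
  two : (2 : F) = 0
  symm : Gᵀ = G
  sq : G * G = 1
  diag : ∀ x, G x x = 0
  smul : ∀ (r : F) v, Q (r • v) = r ^ 2 * Q v
  polar : ∃ c : F, c ≠ 0 ∧ ∀ x y, QuadraticMap.polar Q x y = c * (x ⬝ᵥ (tens (fun _ : Fin t => G) *ᵥ y))
  pure : ∀ u : Fin t → Fin d → F, Q (fun a => ∏ i, u i (a i)) = 0

theorem tens_mulVec_single (b : Fin t → Matrix (Fin d) (Fin d) F) (a : Fin t → Fin d) :
    tens b *ᵥ Pi.single a (1 : F) = fun x => ∏ i, b i (x i) (a i) := by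
  rw [Matrix.mulVec_single_one]
  rfl

variable {G : Matrix (Fin d) (Fin d) F} {Q : ((Fin t → Fin d) → F) → F}

theorem Setup.mem_isometry (S : Setup G Q) (Y : GL (Fin t → Fin d) F)
    (hB : (Y : Matrix (Fin t → Fin d) (Fin t → Fin d) F)ᵀ * tens (fun _ : Fin t => G) * (Y : Matrix (Fin t → Fin d) (Fin t → Fin d) F) = tens (fun _ : Fin t => G))
    (h0 : ∀ a, Q ((Y : Matrix (Fin t → Fin d) (Fin t → Fin d) F) *ᵥ Pi.single a 1) = 0) : Y ∈ Cfsg.isometryGroup F Q := by
  obtain ⟨c, -, hpol⟩ := S.polar
  have hs : ∀ x y, Q (x + y) = Q x + Q y + QuadraticMap.polar Q x y := fun x y => by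
    simp only [QuadraticMap.polar]; ring
  have hP : ∀ x y, QuadraticMap.polar Q ((Y : Matrix (Fin t → Fin d) (Fin t → Fin d) F) *ᵥ x) ((Y : Matrix (Fin t → Fin d) (Fin t → Fin d) F) *ᵥ y) = QuadraticMap.polar Q x y := by
    intro x y
    rw [hpol, hpol]
    congr 1
    rw [Matrix.mulVec_mulVec, ← Matrix.vecMul_transpose, ← Matrix.dotProduct_mulVec,
      Matrix.mulVec_mulVec, ← mul_assoc, hB]
  have hsingle : ∀ a, Q (Pi.single a 1) = 0 := fun a => by
    have h := S.pure fun i => Pi.single (a i) 1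
    refine Eq.trans (congrArg Q ?_) h
    funext x
    by_cases hx : x = a
    · subst hx; simp
    · obtain ⟨i, hi⟩ := Function.ne_iff.mp hx
      rw [Pi.single_eq_of_ne hx]
      exact (Finset.prod_eq_zero (Finset.mem_univ i) (Pi.single_eq_of_ne hi _)).symm
  have hz : Q 0 = 0 := by
    have h := S.smul 0 0
    rwa [zero_smul, zero_pow two_ne_zero, zero_mul] at h
  have key : ∀ v, Q ((Y : Matrix (Fin t → Fin d) (Fin t → Fin d) F) *ᵥ v) = Q v := by
    intro v
    rw [pi_eq_sum_univ' v]
    generalize (Finset.univ : Finset (Fin t → Fin d)) = s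
    induction s using Finset.induction with
    | empty => rw [Finset.sum_empty, Matrix.mulVec_zero]
    | insert a s ha ih =>
      rw [Finset.sum_insert ha, Matrix.mulVec_add, hs, hs, hP, ih, Matrix.mulVec_smul, S.smul, S.smul,
        h0, hsingle]
  exact fun u _ => key u

theorem Setup.slot_mem (S : Setup G Q) (i : Fin t) (g g' : Matrix (Fin d) (Fin d) F) (h : g * g' = 1)
    (hg : gᵀ * G * g = G) : slotGL i g g' h ∈ Cfsg.isometryGroup F Q := by
  refine S.mem_isometry _ ?_ fun a => ?_
  · show (slot i g)ᵀ * _ * slot i g = _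
    rw [slot, tens_transpose, tens_mul, tens_mul]
    congr 1
    funext j
    rcases eq_or_ne j i with rfl | hj
    · simp [hg]
    · simp [Function.update_of_ne hj]
  · show Q (slot i g *ᵥ _) = 0
    rw [slot, tens_mulVec_single]
    exact S.pure fun l x => Function.update (1 : Fin t → Matrix (Fin d) (Fin d) F) i g l x (a l)

theorem Setup.onePlus_mem (S : Setup G Q) (b : Fin t → Matrix (Fin d) (Fin d) F) (hM : tens b * tens b = 0)
    (hsym : ∀ i, (G * b i)ᵀ = G * b i) (j : Fin t) (hj : ∀ x, (G * b j) x x = 0) :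
    onePlus S.two (tens b) hM ∈ Cfsg.isometryGroup F Q := by
  set Γ : Matrix (Fin t → Fin d) (Fin t → Fin d) F := tens fun _ : Fin t => G with hΓ
  have hadj : (tens b)ᵀ * Γ = Γ * tens b := by
    rw [hΓ, tens_transpose, tens_mul, tens_mul]
    congr 1
    funext i
    have h := hsym i
    rw [Matrix.transpose_mul, S.symm] at h
    exact h
  obtain ⟨c, -, hpol⟩ := S.polar
  refine S.mem_isometry _ ?_ fun a => ?_
  · show (1 + tens b)ᵀ * Γ * (1 + tens b) = Γ
    have h0 : ∀ X : Matrix (Fin t → Fin d) (Fin t → Fin d) F, X + X = 0 := fun X => by rw [← two_smul F X, S.two, zero_smul]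
    rw [Matrix.transpose_add, Matrix.transpose_one, add_mul, add_mul, one_mul, hadj, mul_add, mul_one,
      mul_add, mul_one, mul_assoc Γ (tens b), hM, mul_zero, add_zero, add_assoc, h0, add_zero]
  · show Q ((1 + tens b) *ᵥ Pi.single a 1) = 0
    have hs : ∀ x y, Q (x + y) = Q x + Q y + QuadraticMap.polar Q x y := fun x y => by
      simp only [QuadraticMap.polar]; ring
    have h1 : Q (Pi.single a 1) = 0 := by
      have h := congrArg Q (tens_mulVec_single (F := F) (1 : Fin t → Matrix (Fin d) (Fin d) F) a)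
      rw [tens_one, Matrix.one_mulVec] at h
      rw [h]
      exact S.pure fun l x => (1 : Matrix (Fin d) (Fin d) F) x (a l)
    have h2 : Q (tens b *ᵥ Pi.single a 1) = 0 := by
      rw [tens_mulVec_single]
      exact S.pure fun l x => b l x (a l)
    rw [Matrix.add_mulVec, Matrix.one_mulVec, hs, h1, h2, hpol, single_dotProduct,
      Matrix.mulVec_mulVec, tens_mul, tens_mulVec_single]
    show 0 + 0 + c * (1 * ∏ l, (G * b l) (a l) (a l)) = 0
    rw [Finset.prod_eq_zero (Finset.mem_univ j) (hj (a j))]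
    ring

/-- Commutators of slot isometries with elements `1 + M`. -/
theorem Setup.exists_omega (S : Setup G Q) (b : Fin t → Matrix (Fin d) (Fin d) F) (i l : Fin t) (hil : l ≠ i)
    (hl : b l * b l = 0) (hsym : ∀ m, (G * b m)ᵀ = G * b m) (j : Fin t) (hj : ∀ x, (G * b j) x x = 0)
    (g g' : Matrix (Fin d) (Fin d) F) (h : g * g' = 1) (hg : gᵀ * G * g = G) :
    ∃ Y ∈ Geo.omegaGL Q, (Y : Matrix (Fin t → Fin d) (Fin t → Fin d) F) = 1 + tens (Function.update b i (g * b i * g' + b i)) := by
  have hM : tens b * tens b = 0 := by rw [tens_mul]; exact tens_eq_zero (l := l) hl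
  set σ : Cfsg.isometryGroup F Q := ⟨slotGL i g g' h, S.slot_mem i g g' h hg⟩
  set U : Cfsg.isometryGroup F Q := ⟨onePlus S.two (tens b) hM, S.onePlus_mem b hM hsym j hj⟩
  refine ⟨((⁅σ, U⁆ : Cfsg.isometryGroup F Q) : GL (Fin t → Fin d) F),
    Subgroup.mem_map_of_mem _ (Subgroup.commutator_mem_commutator (Subgroup.mem_top σ) (Subgroup.mem_top U)), ?_⟩
  show slot i g * (1 + tens b) * slot i g' * (1 + tens b) = _
  have hmm : ∀ z : Matrix (Fin d) (Fin d) F, slot i g * tens b * slot i g' = tens (Function.update b i (g * b i * g')) := fun _ => by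
    rw [slot_mul_tens, tens_mul_slot, Function.update_self, Function.update_idem]
  have hprod : tens (Function.update b i (g * b i * g')) * tens b = 0 := by
    rw [tens_mul]
    exact tens_eq_zero (l := l) (by rw [Pi.mul_apply, Function.update_of_ne hil, hl])
  have hA : slot i g * (1 + tens b) * slot i g' = 1 + tens (Function.update b i (g * b i * g')) := by
    rw [mul_add, mul_one, add_mul, ← slot_mul', h, slot_one', hmm 0]
  rw [hA, mul_add, mul_one, add_mul, one_mul, hprod, add_zero, tens_update_add, Function.update_eq_self]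
  abel

/-- The data of a factor: a set `T` of matrices with scalar anticommutators against `a`, stable under similitudes. -/
structure Factor (G : Matrix (Fin d) (Fin d) F) (T : Matrix (Fin d) (Fin d) F → Prop) (a : Matrix (Fin d) (Fin d) F) : Prop where
  conj : ∀ (g g' A : Matrix (Fin d) (Fin d) F) (μ : F), g * g' = 1 → gᵀ * G * g = μ • G → T A → T (g * A * g')
  mem : T a
  sq : a * a = 0
  adj : (G * a)ᵀ = G * a
  anti : ∀ A, T A → ∃ s : F, a * A + A * a = s • (1 : Matrix (Fin d) (Fin d) F)
  pair : a * (G * a * G) + (G * a * G) * a = 1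
  offdiag : ∃ p q : Fin d, p ≠ q ∧ (a + G * a * G) p q ≠ 0

/-- The space spanned by the members of `T` in the slots. -/
def clifford (t : ℕ) (T : Matrix (Fin d) (Fin d) F → Prop) : Submodule F (Matrix (Fin t → Fin d) (Fin t → Fin d) F) :=
  Submodule.span F {X | ∃ (i : Fin t) (A : Matrix (Fin d) (Fin d) F), T A ∧ X = slot i A}

theorem slot_mem_clifford {T : Matrix (Fin d) (Fin d) F → Prop} (i : Fin t) {A : Matrix (Fin d) (Fin d) F} (hA : T A) :
    slot i A ∈ clifford t T :=
  Submodule.subset_span ⟨i, A, hA, rfl⟩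

theorem clifford_entry {T : Matrix (Fin d) (Fin d) F → Prop} {X : Matrix (Fin t → Fin d) (Fin t → Fin d) F} (hX : X ∈ clifford t T) {x y : Fin t → Fin d}
    (h : ∀ i A, T A → slot i A x y = 0) : X x y = 0 := by
  induction hX using Submodule.span_induction with
  | mem z hz => obtain ⟨i, A, hA, rfl⟩ := hz; exact h i A hA
  | zero => rfl
  | add u v _ _ hu hv => rw [Matrix.add_apply, hu, hv, add_zero]
  | smul r u _ hu => rw [Matrix.smul_apply, hu, smul_zero]

/-- The stabiliser of a set of matrices under conjugation. -/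
def conjStab {ι : Type} [Fintype ι] [DecidableEq ι] (W : Set (Matrix ι ι F)) : Subgroup (GL ι F) where
  carrier := {g | ∀ X, X ∈ W ↔ (g : Matrix ι ι F) * X * ((g⁻¹ : GL ι F) : Matrix ι ι F) ∈ W}
  one_mem' := fun X => by simp
  mul_mem' {a b} ha hb := fun X => by
    rw [hb X, ha _, mul_inv_rev, Units.val_mul, Units.val_mul]
    simp only [mul_assoc]
  inv_mem' {a} ha := fun X => by
    rw [ha (((a⁻¹ : GL ι F) : Matrix ι ι F) * X * ((a⁻¹)⁻¹ : GL ι F))]
    simp [← mul_assoc, mul_assoc _ (a : Matrix ι ι F)]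

theorem mem_conjStab [Finite F] {ι : Type} [Fintype ι] [DecidableEq ι] {W : Set (Matrix ι ι F)} {g : GL ι F}
    (h : ∀ X ∈ W, (g : Matrix ι ι F) * X * ((g⁻¹ : GL ι F) : Matrix ι ι F) ∈ W) : g ∈ conjStab W := by
  intro X
  refine ⟨h X, fun hX => ?_⟩
  let f : Matrix ι ι F → Matrix ι ι F := fun X => (g : Matrix ι ι F) * X * ((g⁻¹ : GL ι F) : Matrix ι ι F)
  have hf : Function.Injective f := fun A B hAB => by
    have h2 := congrArg (fun Z => ((g⁻¹ : GL ι F) : Matrix ι ι F) * Z * (g : Matrix ι ι F)) hAB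
    simpa [f, mul_assoc] using h2
  have hbij : Set.BijOn f W W :=
    ⟨h, hf.injOn, by
      intro y hy
      have he : f '' W = W := Set.eq_of_subset_of_ncard_le (Set.image_subset_iff.mpr h)
        (Set.ncard_image_of_injective _ hf).ge W.toFinite
      exact he.symm ▸ hy⟩
  obtain ⟨Y, hY, hYX⟩ := hbij.surjOn hX
  exact hf hYX ▸ hY

theorem clifford_stable {T : Matrix (Fin d) (Fin d) F → Prop} {g : GL (Fin t → Fin d) F}
    (h : ∀ i A, T A → (g : Matrix (Fin t → Fin d) (Fin t → Fin d) F) * slot i A * ((g⁻¹ : GL (Fin t → Fin d) F) : Matrix (Fin t → Fin d) (Fin t → Fin d) F) ∈ clifford t T) [Finite F] :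
    g ∈ conjStab (clifford t T : Set (Matrix (Fin t → Fin d) (Fin t → Fin d) F)) := by
  refine mem_conjStab fun X hX => ?_
  rw [SetLike.mem_coe] at hX ⊢
  induction hX using Submodule.span_induction with
  | mem z hz => obtain ⟨i, A, hA, rfl⟩ := hz; exact h i A hA
  | zero => simp
  | add u v _ _ hu hv => rw [mul_add, add_mul]; exact add_mem hu hv
  | smul r u _ hu => rw [Matrix.mul_smul, Matrix.smul_mul]; exact Submodule.smul_mem _ r hu

theorem factorPerm_mul_slot (σ : Equiv.Perm (Fin t)) (i : Fin t) (A : Matrix (Fin d) (Fin d) F) :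
    (factorPerm σ : GL (Fin t → Fin d) F).val * slot i A = slot (σ i) A * (factorPerm σ : GL (Fin t → Fin d) F).val := by
  rw [slot, factorPerm_mul_tens, slot]
  congr 2
  funext j
  rcases eq_or_ne j (σ i) with rfl | hj
  · simp
  · rw [Function.update_of_ne hj, Function.update_of_ne (fun h => hj (by rw [← h]; simp))]
    simp

/-- Elements of the wreath group send slots to slots. -/
theorem wreath_conj [Finite F] {h : GL (Fin t → Fin d) F} (hh : h ∈ Geo.tensorWreathStandard d t F) :
    ∃ (gs : Fin t → GL (Fin d) F) (σ : Equiv.Perm (Fin t)), h = tensGL gs * factorPerm σ ∧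
      ∀ i A, (h : Matrix (Fin t → Fin d) (Fin t → Fin d) F) * slot i A * ((h⁻¹ : GL (Fin t → Fin d) F) : Matrix (Fin t → Fin d) (Fin t → Fin d) F) =
        slot (σ i) ((gs (σ i) : Matrix (Fin d) (Fin d) F) * A * ((gs (σ i))⁻¹ : GL (Fin d) F).val) := by
  obtain ⟨gs, σ, rfl⟩ := exists_wreath_elem hh
  refine ⟨gs, σ, rfl, fun i A => ?_⟩
  rw [mul_inv_rev, Units.val_mul, Units.val_mul, mul_assoc (tensGL gs : GL (Fin t → Fin d) F).val,
    factorPerm_mul_slot, ← mul_assoc, ← mul_assoc, mul_assoc _ (factorPerm σ).val, Units.mul_inv, mul_one]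
  show tens (fun l => (gs l : Matrix (Fin d) (Fin d) F)) * slot (σ i) A * tens (fun l => (((gs l)⁻¹ : GL (Fin d) F) : Matrix (Fin d) (Fin d) F)) = _
  rw [slot, tens_mul, tens_mul, slot]
  congr 1
  funext j
  rcases eq_or_ne j (σ i) with rfl | hj
  · simp
  · simp [Function.update_of_ne hj]

/-- The similitude factors of an element of the wreath group which fixes the tensor power form. -/
theorem wreath_similitude (S : Setup G Q) {gs : Fin t → GL (Fin d) F} {σ : Equiv.Perm (Fin t)}
    (hI : tensGL gs * factorPerm σ ∈ Cfsg.isometryGroup F Q) (i : Fin t) :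
    ∃ μ : F, (gs i : Matrix (Fin d) (Fin d) F)ᵀ * G * (gs i : Matrix (Fin d) (Fin d) F) = μ • G := by
  obtain ⟨c, hc, hpol⟩ := S.polar
  set Y : Matrix (Fin t → Fin d) (Fin t → Fin d) F := ((tensGL gs * factorPerm σ : GL (Fin t → Fin d) F) : Matrix (Fin t → Fin d) (Fin t → Fin d) F) with hY
  set Γ : Matrix (Fin t → Fin d) (Fin t → Fin d) F := tens fun _ : Fin t => G
  have hB : Yᵀ * Γ * Y = Γ := by
    refine Matrix.ext fun x y => ?_
    have hQ : ∀ v, Q (Y *ᵥ v) = Q v := fun v => hI v v
    have h1 : QuadraticMap.polar Q (Y *ᵥ Pi.single x 1) (Y *ᵥ Pi.single y 1) =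
        QuadraticMap.polar Q (Pi.single x 1) (Pi.single y 1) := by
      simp only [QuadraticMap.polar, ← Matrix.mulVec_add, hQ]
    rw [hpol, hpol] at h1
    have h2 := mul_left_cancel₀ hc h1
    rw [Matrix.mulVec_mulVec, ← Matrix.vecMul_transpose, ← Matrix.dotProduct_mulVec, Matrix.mulVec_mulVec,
      ← mul_assoc, single_dotProduct, single_dotProduct, one_mul, one_mul, Matrix.mulVec_single_one,
      Matrix.mulVec_single_one] at h2
    exact h2
  have hperm : Γ * (factorPerm σ : GL (Fin t → Fin d) F).val = (factorPerm σ : GL (Fin t → Fin d) F).val * Γ :=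
    (factorPerm_mul_tens σ fun _ => G).symm
  set π := (factorPerm σ : GL (Fin t → Fin d) F) with hπ
  set Z : Matrix (Fin t → Fin d) (Fin t → Fin d) F := tens fun l => (gs l : Matrix (Fin d) (Fin d) F)ᵀ * G * (gs l : Matrix (Fin d) (Fin d) F) with hZ
  have hZ' : π.valᵀ * Z * π.val = Γ := by
    rw [← hB, hY, Units.val_mul, Matrix.transpose_mul,
      show ((tensGL gs : GL (Fin t → Fin d) F) : Matrix (Fin t → Fin d) (Fin t → Fin d) F) = tens fun l => (gs l : Matrix (Fin d) (Fin d) F) from rfl, tens_transpose,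
      hZ, show (fun l => (gs l : Matrix (Fin d) (Fin d) F)ᵀ * G * (gs l : Matrix (Fin d) (Fin d) F)) =
        (fun l => (gs l : Matrix (Fin d) (Fin d) F)ᵀ) * (fun _ => G) * (fun l => (gs l : Matrix (Fin d) (Fin d) F)) from rfl, ← tens_mul, ← tens_mul]
    simp only [Γ, hπ, mul_assoc]
  have hπinv : π.valᵀ = (π⁻¹ : GL (Fin t → Fin d) F).val := by
    rw [← mul_one π.valᵀ, ← π.mul_inv, ← mul_assoc, hπ, factorPerm_transpose_mul, one_mul]
  have hZΓ : Z = Γ := by
    have h1 := congrArg (fun X => π.val * X * (π⁻¹ : GL (Fin t → Fin d) F).val) hZ'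
    simp only [hπinv, ← mul_assoc, Units.mul_inv, one_mul] at h1
    rw [mul_assoc Z, Units.mul_inv, mul_one, ← hperm, mul_assoc, Units.mul_inv, mul_one] at h1
    exact h1
  have hone : tens (fun l => G * ((gs l : Matrix (Fin d) (Fin d) F)ᵀ * G * (gs l : Matrix (Fin d) (Fin d) F))) = 1 := by
    have h1 : Γ * Z = 1 := by
      rw [hZΓ, tens_mul, show (fun _ : Fin t => G) * (fun _ => G) = 1 from funext fun _ => S.sq, tens_one]
    rw [← h1, tens_mul]
    rfl
  obtain ⟨μ, -, hμ⟩ := tens_eq_one_imp hone i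
  refine ⟨μ, ?_⟩
  have h2 := congrArg (G * ·) hμ
  simp only [← mul_assoc, S.sq, one_mul, Matrix.mul_smul, mul_one] at h2
  exact h2

/-- The stabiliser of the decomposition is not maximal, given an element of `Ω` moving the Clifford space. -/
theorem between [Finite F] (S : Setup G Q) {T : Matrix (Fin d) (Fin d) F → Prop} {a : Matrix (Fin d) (Fin d) F} (hF : Factor G T a)
    (i₀ i₁ : Fin t) (hne : i₁ ≠ i₀) (j : Fin t)
    (hj : ∀ x, (G * (Function.update (Function.update (1 : Fin t → Matrix (Fin d) (Fin d) F) i₁ a) i₀ a) j) x x = 0)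
    {Y : GL (Fin t → Fin d) F} (hY : Y ∈ Geo.omegaGL Q) (hYK : Y ∉ conjStab (clifford t T : Set (Matrix (Fin t → Fin d) (Fin t → Fin d) F))) :
    ∃ K : Subgroup (GL (Fin t → Fin d) F),
      Geo.tensorWreathStandard d t F ⊓ Geo.omegaGL Q < K ∧ K < Geo.omegaGL Q := by
  have hGG : Gᵀ * G * G = G := by rw [S.symm, S.sq, one_mul]
  set c := G * a * G with hc
  have hTc : T c := hF.conj G G a 1 S.sq (by rw [hGG, one_smul]) hF.mem
  have hcsq : c * c = 0 := by
    rw [hc, show G * a * G * (G * a * G) = G * a * (G * G) * a * G by simp only [mul_assoc], S.sq, mul_one,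
      mul_assoc G a a, hF.sq, mul_zero, zero_mul]
  have hantic : ∀ A, T A → ∃ s : F, c * A + A * c = s • (1 : Matrix (Fin d) (Fin d) F) := by
    intro A hA
    obtain ⟨s, hs⟩ := hF.anti _ (hF.conj G G A 1 S.sq (by rw [hGG, one_smul]) hA)
    refine ⟨s, ?_⟩
    have h2 := congrArg (fun Z => G * Z * G) hs
    simp only [mul_add, add_mul, Matrix.mul_smul, Matrix.smul_mul, mul_one, S.sq] at h2
    rw [← h2, hc]
    simp only [mul_assoc, ← mul_assoc G G, S.sq, one_mul, mul_one]
  have hbA : ∀ A, T A → ∃ s : F, (c + a) * A + A * (c + a) = s • (1 : Matrix (Fin d) (Fin d) F) := by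
    intro A hA
    obtain ⟨s, hs⟩ := hantic A hA
    obtain ⟨r, hr⟩ := hF.anti A hA
    exact ⟨s + r, by rw [add_mul, mul_add, add_smul, ← hs, ← hr]; abel⟩
  have hb2 : (c + a) * (c + a) = 1 := by
    rw [add_mul, mul_add, mul_add, hcsq, hF.sq, zero_add, add_zero, add_comm, ← hF.pair]
  have hadj : ∀ m, (G * (Function.update (Function.update (1 : Fin t → Matrix (Fin d) (Fin d) F) i₁ a) i₀ a) m)ᵀ =
      G * (Function.update (Function.update (1 : Fin t → Matrix (Fin d) (Fin d) F) i₁ a) i₀ a) m := by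
    intro m
    rcases eq_or_ne m i₀ with rfl | h0
    · rw [Function.update_self]; exact hF.adj
    rw [Function.update_of_ne h0]
    rcases eq_or_ne m i₁ with rfl | h1
    · rw [Function.update_self]; exact hF.adj
    rw [Function.update_of_ne h1, Pi.one_apply, mul_one, S.symm]
  obtain ⟨U, hU, hUval⟩ := S.exists_omega (Function.update (Function.update 1 i₁ a) i₀ a) i₀ i₁ hne
    (by rw [Function.update_of_ne hne, Function.update_self, hF.sq]) hadj j hj G G S.sq hGG
  rw [Function.update_self, Function.update_idem] at hUval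
  -- as a product of slots
  have hUN : (U : Matrix (Fin t → Fin d) (Fin t → Fin d) F) = 1 + slot i₀ (c + a) * slot i₁ a := by
    rw [hUval, slot, slot, tens_mul]
    congr 2
    funext m
    rcases eq_or_ne m i₀ with rfl | h0
    · simp [Function.update_of_ne hne.symm, hc]
    · simp [Function.update_of_ne h0]
  set N : Matrix (Fin t → Fin d) (Fin t → Fin d) F := slot i₀ (c + a) * slot i₁ a with hN
  have hNN : N * N = 0 := by
    rw [hN, mul_assoc, ← mul_assoc (slot i₁ a), ← slot_comm hne.symm, mul_assoc, ← slot_mul' i₁, hF.sq,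
      show slot i₁ (0 : Matrix (Fin d) (Fin d) F) = 0 from tens_eq_zero (l := i₁) (Function.update_self _ _ _), mul_zero, mul_zero]
  have h00 : ∀ X : Matrix (Fin t → Fin d) (Fin t → Fin d) F, X + X = 0 := fun X => by rw [← two_smul F X, S.two, zero_smul]
  have hUinv : ((U⁻¹ : GL (Fin t → Fin d) F) : Matrix (Fin t → Fin d) (Fin t → Fin d) F) = 1 + N := by
    refine Units.inv_eq_of_mul_eq_one_right ?_
    rw [hUN, mul_add, add_mul, add_mul, one_mul, one_mul, mul_one, hNN, add_zero, add_assoc, h00, add_zero]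
  have hconj : ∀ X : Matrix (Fin t → Fin d) (Fin t → Fin d) F, (U : Matrix (Fin t → Fin d) (Fin t → Fin d) F) * X * ((U⁻¹ : GL (Fin t → Fin d) F) : Matrix (Fin t → Fin d) (Fin t → Fin d) F) = X + (N * X + X * N) + N * X * N := by
    intro X
    rw [hUinv, hUN, add_mul, one_mul, mul_add, mul_one, add_mul]
    abel
  have hb0 : slot i₀ (c + a) ∈ clifford t T := by
    rw [slot_add']; exact add_mem (slot_mem_clifford i₀ hTc) (slot_mem_clifford i₀ hF.mem)
  have hi0 : ∀ A (s : F), (c + a) * A + A * (c + a) = s • (1 : Matrix (Fin d) (Fin d) F) →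
      (U : Matrix (Fin t → Fin d) (Fin t → Fin d) F) * slot i₀ A * ((U⁻¹ : GL (Fin t → Fin d) F) : Matrix (Fin t → Fin d) (Fin t → Fin d) F) = slot i₀ A + s • slot i₁ a := by
    intro A s hs
    have e1 : N * slot i₀ A + slot i₀ A * N = s • slot i₁ a := by
      rw [hN, mul_assoc, slot_comm hne, ← mul_assoc, ← mul_assoc, ← slot_mul', ← slot_mul', ← add_mul,
        ← slot_add', hs, slot_smul_one, Matrix.smul_mul, one_mul]
    have e2 : N * slot i₀ A * N = 0 := by
      rw [hN, mul_assoc (slot i₀ (c + a)) (slot i₁ a), slot_comm hne, ← mul_assoc (slot i₀ (c + a)),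
        mul_assoc, ← mul_assoc (slot i₁ a), slot_comm hne, mul_assoc (slot i₀ (c + a)) (slot i₁ a),
        ← slot_mul' i₁, hF.sq,
        show slot i₁ (0 : Matrix (Fin d) (Fin d) F) = 0 from tens_eq_zero (l := i₁) (Function.update_self _ _ _), mul_zero, mul_zero]
    rw [hconj, e1, e2, add_zero]
  have hi1 : ∀ A (s : F), a * A + A * a = s • (1 : Matrix (Fin d) (Fin d) F) →
      (U : Matrix (Fin t → Fin d) (Fin t → Fin d) F) * slot i₁ A * ((U⁻¹ : GL (Fin t → Fin d) F) : Matrix (Fin t → Fin d) (Fin t → Fin d) F) =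
        slot i₁ A + s • slot i₀ (c + a) + s • slot i₁ a := by
    intro A s hs
    have e1 : N * slot i₁ A + slot i₁ A * N = s • slot i₀ (c + a) := by
      rw [hN, mul_assoc, ← mul_assoc (slot i₁ A), ← slot_comm hne.symm, mul_assoc, ← slot_mul', ← slot_mul',
        ← mul_add, ← slot_add', hs, slot_smul_one, Matrix.mul_smul, mul_one]
    have haAa : a * A * a = s • a := by
      have h1 := congrArg (a * ·) hs
      simp only [mul_add, ← mul_assoc, hF.sq, zero_mul, zero_add, Matrix.mul_smul, mul_one] at h1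
      exact h1
    have e2 : N * slot i₁ A * N = s • slot i₁ a := by
      rw [hN, mul_assoc (slot i₀ (c + a)) (slot i₁ a), ← slot_mul', mul_assoc,
        ← mul_assoc (slot i₁ (a * A)), ← slot_comm hne.symm, mul_assoc (slot i₀ (c + a)) (slot i₁ (a * A)),
        ← slot_mul', ← mul_assoc, ← slot_mul', hb2, slot_one', one_mul, haAa, slot_smul']
    rw [hconj, e1, e2]
  have hUK : U ∈ conjStab (clifford t T : Set (Matrix (Fin t → Fin d) (Fin t → Fin d) F)) := by
    refine clifford_stable fun i A hA => ?_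
    rcases eq_or_ne i i₀ with rfl | h0
    · obtain ⟨s, hs⟩ := hbA A hA
      rw [hi0 A s hs]
      exact add_mem (slot_mem_clifford _ hA) (Submodule.smul_mem _ _ (slot_mem_clifford _ hF.mem))
    rcases eq_or_ne i i₁ with rfl | h1
    · obtain ⟨s, hs⟩ := hF.anti A hA
      rw [hi1 A s hs]
      exact add_mem (add_mem (slot_mem_clifford _ hA) (Submodule.smul_mem _ _ hb0))
        (Submodule.smul_mem _ _ (slot_mem_clifford _ hF.mem))
    · have hcom : Commute N (slot i A) :=
        (Commute.mul_left (slot_comm (Ne.symm h0) _ _) (slot_comm (Ne.symm h1) _ _))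
      rw [hconj, hcom.eq, h00, add_zero, mul_assoc, hNN, mul_zero, add_zero]
      exact slot_mem_clifford _ hA
  have hUW : U ∉ Geo.tensorWreathStandard d t F := by
    intro hmem
    obtain ⟨gs, σ, -, hsig⟩ := wreath_conj hmem
    have h1 := hsig i₁ c
    rw [hi1 c 1 (by rw [one_smul]; exact hF.pair), one_smul, one_smul] at h1
    obtain ⟨p, q, hpq, hbpq⟩ := hF.offdiag
    rw [add_comm a, ← hc] at hbpq
    haveI : Nonempty (Fin d) := ⟨p⟩
    let z : Fin t → Fin d := fun _ => p
    have k0 := congrFun (congrFun h1 z) (Function.update z i₀ q)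
    have k1 := congrFun (congrFun h1 z) (Function.update z i₁ q)
    have off : ∀ (m : Fin t) (B : Matrix (Fin d) (Fin d) F) (i : Fin t), i ≠ m → slot m B z (Function.update z i q) = 0 :=
      fun m B i hi => slot_entry_eq_zero B hi (by rw [Function.update_self]; exact hpq)
    have on : ∀ (m : Fin t) (B : Matrix (Fin d) (Fin d) F), slot m B z (Function.update z m q) = B p q := fun m B => by
      rw [slot_entry_self B fun l hl => (Function.update_of_ne hl _ _).symm, Function.update_self]
    simp only [Matrix.add_apply] at k0 k1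
    rw [off i₁ c i₀ hne.symm, on i₀, off i₁ a i₀ hne.symm, zero_add, add_zero] at k0
    rw [on i₁ c, off i₀ _ i₁ hne, on i₁ a, add_zero, ← Matrix.add_apply] at k1
    rcases eq_or_ne i₀ (σ i₁) with hm | hm
    · rw [off _ _ i₁ (hm ▸ hne)] at k1; exact hbpq k1
    · rw [off _ _ i₀ hm] at k0; exact hbpq k0
  refine ⟨conjStab (clifford t T : Set (Matrix (Fin t → Fin d) (Fin t → Fin d) F)) ⊓ Geo.omegaGL Q, ?_, lt_of_le_of_ne inf_le_right fun e => hYK (Subgroup.mem_inf.mp (e.ge hY)).1⟩
  refine lt_of_le_of_ne (le_inf (fun h hh => ?_) inf_le_right) fun e => hUW (Subgroup.mem_inf.mp (e.ge (Subgroup.mem_inf.mpr ⟨hUK, hU⟩))).1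
  obtain ⟨gs, σ, rfl, hsig⟩ := wreath_conj hh.1
  obtain ⟨h₀, -, hh₀⟩ := hh.2
  refine clifford_stable fun i A hA => ?_
  rw [hsig i A]
  obtain ⟨μ, hμ⟩ := wreath_similitude S (gs := gs) (σ := σ) (hh₀ ▸ h₀.2) (σ i)
  exact slot_mem_clifford _ (hF.conj _ _ A μ (gs (σ i)).mul_inv hμ hA)

end Cfsg.Agent.FG75.SpinTensor
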