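import Cfsg.Agent.FG75.SpinTensor
import Cfsg.Agent.Lib.Forms.Sesq

/-!
The two kinds of factors (dimensions two and four), and transport to the given decomposition.
-/

set_option autoImplicit false
set_option linter.unusedSectionVars false

namespace Cfsg.Agent.FG75.SpinTensor

open scoped MatrixGroups Matrix
open Cfsg.Agent.MaxSub.Asch

variable {F : Type*} [Field F] {t : ℕ}

theorem add_self_char_two (two : (2 : F) = 0) (x : F) : x + x = 0 := by
  rw [← two_mul, two, zero_mul]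

theorem similitude_push {d : ℕ} {G g g' A : Matrix (Fin d) (Fin d) F} {μ : F} (hG : Gᵀ = G)
    (h : g * g' = 1) (hg : gᵀ * G * g = μ • G) : G * (g * A * g') = μ • (g'ᵀ * (G * A) * g') := by
  have h1 : gᵀ * G = μ • (G * g') := by
    calc gᵀ * G = gᵀ * G * (g * g') := by rw [h, mul_one]
      _ = gᵀ * G * g * g' := by rw [mul_assoc _ g g']
      _ = μ • (G * g') := by rw [hg, Matrix.smul_mul]
  have h2 := congrArg Matrix.transpose h1
  simp only [Matrix.transpose_mul, Matrix.transpose_smul, Matrix.transpose_transpose, hG] at h2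
  rw [← mul_assoc, ← mul_assoc, h2, Matrix.smul_mul, Matrix.smul_mul]
  simp only [mul_assoc]

theorem similitude_symm {d : ℕ} {G g g' A : Matrix (Fin d) (Fin d) F} {μ : F} (hG : Gᵀ = G)
    (h : g * g' = 1) (hg : gᵀ * G * g = μ • G) (hA : (G * A)ᵀ = G * A) :
    (G * (g * A * g'))ᵀ = G * (g * A * g') := by
  rw [similitude_push hG h hg, Matrix.transpose_smul, Matrix.transpose_mul, Matrix.transpose_mul, hA,
    Matrix.transpose_transpose, mul_assoc g'ᵀ]

theorem alternate_four (two : (2 : F) = 0) (M p : Matrix (Fin 4) (Fin 4) F) (hs : Mᵀ = M)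
    (hd : ∀ x, M x x = 0) (x : Fin 4) : (pᵀ * M * p) x x = 0 := by
  have h : ∀ i j, M i j = M j i := fun i j => by conv_lhs => rw [← hs, Matrix.transpose_apply]
  simp only [Matrix.mul_apply, Matrix.transpose_apply, Fin.sum_univ_four, hd, h 1 0, h 2 0, h 3 0, h 2 1,
    h 3 1, h 3 2]
  linear_combination (p 0 x * M 0 1 * p 1 x + p 0 x * M 0 2 * p 2 x + p 0 x * M 0 3 * p 3 x +
    p 1 x * M 1 2 * p 2 x + p 1 x * M 1 3 * p 3 x + p 2 x * M 2 3 * p 3 x) * two

theorem nilpotent_pair {R : Type*} [Ring R] {u a c : R} (ha : Commute u a) (hc : Commute u c)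
    (h : a * c + c * a = 1) (hu : u * u = 0) :
    u * a * c + c * (u * a) = u ∧ u * a * c * (u * a) = 0 ∧ u * a * (u * a) = 0 := by
  refine ⟨?_, ?_, ?_⟩
  · rw [← mul_assoc c, ← hc.eq, mul_assoc, mul_assoc, ← mul_add, h, mul_one]
  · rw [mul_assoc u a c, mul_assoc u (a * c), ← mul_assoc (a * c) u, ← (ha.mul_right hc).eq,
      mul_assoc u (a * c) a, ← mul_assoc u u, hu, zero_mul]
  · rw [ha.eq, mul_assoc a u, ← mul_assoc u a u, ha.eq, mul_assoc a u u, hu, mul_zero, mul_zero]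

/-- A witness outside the stabiliser of the Clifford space. -/
theorem notMem_of_entry {d : ℕ} {T : Matrix (Fin d) (Fin d) F → Prop} {Y : GL (Fin t → Fin d) F}
    (two : (2 : F) = 0) {M X : Matrix (Fin t → Fin d) (Fin t → Fin d) F}
    (hY : (Y : Matrix (Fin t → Fin d) (Fin t → Fin d) F) = 1 + M) (hM : M * M = 0)
    (hX : X ∈ clifford t T) {x y : Fin t → Fin d} (hW : ∀ i A, T A → slot i A x y = 0)
    (hne : ((M * X + X * M) + M * X * M) x y ≠ 0) :
    Y ∉ conjStab (clifford t T : Set (Matrix (Fin t → Fin d) (Fin t → Fin d) F)) := by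
  intro h
  have h00 : M + M = 0 := by rw [← two_smul F M, two, zero_smul]
  have hinv : ((Y⁻¹ : GL (Fin t → Fin d) F) : Matrix (Fin t → Fin d) (Fin t → Fin d) F) = 1 + M := by
    refine Units.inv_eq_of_mul_eq_one_right ?_
    rw [hY, mul_add, add_mul, add_mul, one_mul, one_mul, mul_one, hM, add_zero, add_assoc, h00, add_zero]
  have h1 := clifford_entry ((h X).1 hX) hW
  rw [hinv, hY, show (1 + M) * X * (1 + M) = X + ((M * X + X * M) + M * X * M) by
    rw [add_mul, one_mul, mul_add, mul_one, add_mul]; abel, Matrix.add_apply, clifford_entry hX hW, zero_add] at h1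
  exact hne h1

/-- Hyperbolic plane. -/
def G2 : Matrix (Fin 2) (Fin 2) F := !![0, 1; 1, 0]

/-- A nilpotent element in dimension two. -/
def a2 : Matrix (Fin 2) (Fin 2) F := !![0, 1; 0, 0]

/-- Symmetrical with respect to the plane form. -/
def T2 (A : Matrix (Fin 2) (Fin 2) F) : Prop := (G2 * A)ᵀ = G2 * A

theorem factor_two (two : (2 : F) = 0) : Factor (G2 : Matrix (Fin 2) (Fin 2) F) T2 a2 := by
  have hG : (G2 : Matrix (Fin 2) (Fin 2) F)ᵀ = G2 := by
    ext i j; fin_cases i <;> fin_cases j <;> simp [G2]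
  refine ⟨fun g g' A μ h hg hA => similitude_symm hG h hg hA, ?_, ?_, ?_, fun A hA => ⟨A 1 0, ?_⟩, ?_, ⟨0, 1, by decide, ?_⟩⟩
  · unfold T2; ext i j; fin_cases i <;> fin_cases j <;> simp [G2, a2, Matrix.mul_apply, Matrix.vecMul, dotProduct, Fin.sum_univ_two]
  · ext i j; fin_cases i <;> fin_cases j <;> simp [a2, Matrix.mul_apply, Matrix.vecMul, dotProduct, Fin.sum_univ_two]
  · ext i j; fin_cases i <;> fin_cases j <;> simp [G2, a2, Matrix.mul_apply, Matrix.vecMul, dotProduct, Fin.sum_univ_two]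
  · have h : A 0 0 = A 1 1 := by
      have := congrFun (congrFun hA 0) 1
      simpa [G2, Matrix.mul_apply, Matrix.vecMul, dotProduct, Fin.sum_univ_two] using this
    ext i j; fin_cases i <;> fin_cases j <;> simp [a2, Matrix.mul_apply, Matrix.vecMul, dotProduct, Fin.sum_univ_two, h]
    exact add_self_char_two two _
  · ext i j; fin_cases i <;> fin_cases j <;> simp [G2, a2, Matrix.mul_apply, Matrix.vecMul, dotProduct, Fin.sum_univ_two]
  · simp [G2, a2, Matrix.mul_apply, Matrix.vecMul, dotProduct, Fin.sum_univ_two]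

/-- Two hyperbolic planes. -/
def G4 : Matrix (Fin 4) (Fin 4) F := !![0, 1, 0, 0; 1, 0, 0, 0; 0, 0, 0, 1; 0, 0, 1, 0]

/-- A nilpotent element in dimension four. -/
def a4 : Matrix (Fin 4) (Fin 4) F := !![0, 0, 0, 1; 0, 0, 0, 0; 0, 1, 0, 0; 0, 0, 0, 0]

/-- Alternate with respect to the form, with scalar square. -/
def T4 (A : Matrix (Fin 4) (Fin 4) F) : Prop :=
  ((G4 : Matrix (Fin 4) (Fin 4) F) * A)ᵀ = G4 * A ∧ (∀ x, ((G4 : Matrix (Fin 4) (Fin 4) F) * A) x x = 0) ∧ ∃ s : F, A * A = s • 1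

theorem factor_four (two : (2 : F) = 0) : Factor (G4 : Matrix (Fin 4) (Fin 4) F) T4 a4 := by
  have hG : (G4 : Matrix (Fin 4) (Fin 4) F)ᵀ = G4 := by
    ext i j; fin_cases i <;> fin_cases j <;> simp [G4]
  refine ⟨?_, ⟨?_, ?_, 0, ?_⟩, ?_, ?_, ?_, ?_, ⟨0, 3, by decide, ?_⟩⟩
  · rintro g g' A μ h hg ⟨hs, hd, s, hA⟩
    refine ⟨similitude_symm hG h hg hs, fun x => ?_, s, ?_⟩
    · rw [similitude_push hG h hg, Matrix.smul_apply, alternate_four two _ g' hs hd, smul_zero]
    · rw [show g * A * g' * (g * A * g') = g * (A * (g' * g) * A) * g' by simp only [mul_assoc],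
        mul_eq_one_comm.mp h, mul_one, hA, Matrix.mul_smul, Matrix.smul_mul, mul_one, h]
  · ext i j; fin_cases i <;> fin_cases j <;> simp [G4, a4, Matrix.mul_apply, Matrix.vecMul, dotProduct, Fin.sum_univ_four]
  · intro x; fin_cases x <;> simp [G4, a4, Matrix.mul_apply, Matrix.vecMul, dotProduct, Fin.sum_univ_four]
  · rw [zero_smul]
    ext i j; fin_cases i <;> fin_cases j <;> simp [a4, Matrix.mul_apply, Matrix.vecMul, dotProduct, Fin.sum_univ_four]
  · ext i j; fin_cases i <;> fin_cases j <;> simp [a4, Matrix.mul_apply, Matrix.vecMul, dotProduct, Fin.sum_univ_four]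
  · ext i j; fin_cases i <;> fin_cases j <;> simp [G4, a4, Matrix.mul_apply, Matrix.vecMul, dotProduct, Fin.sum_univ_four]
  · rintro A ⟨hs, hd, s, hA⟩
    have sym : ∀ i j, ((G4 : Matrix (Fin 4) (Fin 4) F) * A) j i = ((G4 : Matrix (Fin 4) (Fin 4) F) * A) i j := fun i j => congrFun (congrFun hs i) j
    have d0 := hd 0
    have d1 := hd 1
    have d2 := hd 2
    have d3 := hd 3
    have s01 := sym 0 1
    have s02 := sym 0 2
    have s03 := sym 0 3
    have s12 := sym 1 2
    have s13 := sym 1 3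
    have s23 := sym 2 3
    simp [G4, Matrix.mul_apply, Matrix.vecMul, dotProduct, Fin.sum_univ_four] at d0 d1 d2 d3 s01 s02 s03 s12 s13 s23
    have e0 := congrFun (congrFun hA 0) 0
    have e2 := congrFun (congrFun hA 2) 2
    simp [Matrix.mul_apply, Matrix.vecMul, dotProduct, Fin.sum_univ_four] at e0 e2
    have hps : A 1 1 = A 3 3 := by
      have h2 : (A 1 1 - A 3 3) ^ 2 = 0 := by
        simp only [d0, d1, d2, d3, s01, s02, s03, s12, s13, s23] at e0 e2
        linear_combination e0 - e2 + (A 3 3 * A 3 3 - A 1 1 * A 3 3) * two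
      exact sub_eq_zero.mp (pow_eq_zero_iff two_ne_zero |>.mp h2)
    refine ⟨A 3 0, ?_⟩
    ext i j
    fin_cases i <;> fin_cases j <;>
      simp [a4, Matrix.mul_apply, Matrix.vecMul, dotProduct, Fin.sum_univ_four, d0, d1, d2, d3, s01, s02, s03, s12, s13, s23, hps,
        add_self_char_two two]
  · ext i j; fin_cases i <;> fin_cases j <;> simp [G4, a4, Matrix.mul_apply, Matrix.vecMul, dotProduct, Fin.sum_univ_four]
  · simp [G4, a4, Matrix.mul_apply, Matrix.vecMul, dotProduct, Fin.sum_univ_four]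

theorem slot_zero {d : ℕ} (i : Fin t) : slot i (0 : Matrix (Fin d) (Fin d) F) = 0 :=
  tens_eq_zero (l := i) (Function.update_self _ _ _)

theorem between_two [Finite F] (ht : 4 ≤ t) {Q : ((Fin t → Fin 2) → F) → F} (S : Setup G2 Q) :
    ∃ K : Subgroup (GL (Fin t → Fin 2) F),
      Geo.tensorWreathStandard 2 t F ⊓ Geo.omegaGL Q < K ∧ K < Geo.omegaGL Q := by
  have hF := factor_two S.two
  obtain ⟨i₀, i₁, i₂, i₃, h10, h20, h30, h21, h31, h32⟩ :
      ∃ i₀ i₁ i₂ i₃ : Fin t, i₁ ≠ i₀ ∧ i₂ ≠ i₀ ∧ i₃ ≠ i₀ ∧ i₂ ≠ i₁ ∧ i₃ ≠ i₁ ∧ i₃ ≠ i₂ :=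
    ⟨⟨0, by omega⟩, ⟨1, by omega⟩, ⟨2, by omega⟩, ⟨3, by omega⟩, by simp, by simp, by simp, by simp, by simp, by simp⟩
  set b := Function.update (Function.update (Function.update (1 : Fin t → Matrix (Fin 2) (Fin 2) F) i₂ a2) i₁ a2) i₀ a2 with hb
  have hb1 : b i₁ = a2 := by rw [hb, Function.update_of_ne h10, Function.update_self]
  have hadj : ∀ m, (G2 * b m)ᵀ = G2 * b m := fun m => by
    simp only [hb, Function.update_apply, Pi.one_apply]
    split_ifs
    all_goals first | exact hF.adj | rw [mul_one, S.symm]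
  obtain ⟨Y, hY, hYv⟩ := S.exists_omega b i₀ i₁ h10 (by rw [hb1, hF.sq]) hadj i₃
    (fun x => by simp [hb, h30, h31, h32, S.diag]) G2 G2 S.sq (by rw [S.symm, S.sq, one_mul])
  set e : Matrix (Fin 2) (Fin 2) F := G2 * a2 * G2 + a2 with he
  have hbupd : Function.update b i₀ (G2 * b i₀ * G2 + b i₀) =
      Function.update (Function.update (Function.update (1 : Fin t → Matrix (Fin 2) (Fin 2) F) i₂ a2) i₁ a2) i₀ e := by
    rw [hb, Function.update_self, Function.update_idem]
  have hYN : (Y : Matrix (Fin t → Fin 2) (Fin t → Fin 2) F) = 1 + slot i₀ e * slot i₂ a2 * slot i₁ a2 := by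
    rw [hYv, hbupd, mul_assoc, slot_comm h21, show slot i₂ (a2 : Matrix (Fin 2) (Fin 2) F) =
      tens (Function.update 1 i₂ a2) from rfl, slot_mul_tens i₁, slot_mul_tens i₀]
    congr 2
    simp [Function.update_of_ne h10.symm, Function.update_of_ne h20.symm, Function.update_of_ne h21.symm]
  set U₀ := slot i₀ e * slot i₂ a2 with hU
  set A₁ := slot i₁ (a2 : Matrix (Fin 2) (Fin 2) F) with hA₁
  have hcom : ∀ z, Commute U₀ (slot i₁ z) := fun z =>
    Commute.mul_left (slot_comm h10.symm _ _) (slot_comm h21 _ _)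
  have hU2 : U₀ * U₀ = 0 := by
    rw [hU, mul_assoc, ← mul_assoc (slot i₂ a2), slot_comm h20, mul_assoc (slot i₀ e) (slot i₂ a2), ← slot_mul',
      hF.sq, slot_zero, mul_zero, mul_zero]
  have hN2 : U₀ * A₁ * (U₀ * A₁) = 0 := by
    rw [(hcom a2).eq, mul_assoc A₁, ← mul_assoc U₀ A₁ U₀, (hcom a2).eq, mul_assoc A₁ U₀ U₀, hU2, mul_zero, mul_zero]
  have hTc : T2 (G2 * a2 * G2 : Matrix (Fin 2) (Fin 2) F) :=
    hF.conj G2 G2 a2 1 S.sq (by rw [S.symm, S.sq, one_mul, one_smul]) hF.mem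
  set C₁ := slot i₁ (G2 * a2 * G2 : Matrix (Fin 2) (Fin 2) F) with hC₁
  have hpair : A₁ * C₁ + C₁ * A₁ = 1 := by
    rw [hA₁, hC₁, ← slot_mul', ← slot_mul', ← slot_add', hF.pair, slot_one']
  obtain ⟨e1, e2, -⟩ := nilpotent_pair (hcom a2) (hcom _) hpair hU2
  refine between S hF i₀ i₁ h10 i₂ (fun x => by simp [h20, h21, S.diag]) hY ?_
  refine notMem_of_entry S.two hYN hN2 (slot_mem_clifford i₁ hTc)
    (x := fun _ => 0) (y := Function.update (Function.update (fun _ => 0) i₀ 1) i₂ 1) (fun i A _ => ?_) ?_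
  · rcases eq_or_ne i i₀ with rfl | hi
    · exact slot_entry_eq_zero A h20 (by simp)
    · exact slot_entry_eq_zero A hi.symm (by simp [Function.update_of_ne h20.symm])
  · rw [e1, e2, add_zero, hU, show slot i₂ (a2 : Matrix (Fin 2) (Fin 2) F) =
      tens (Function.update 1 i₂ a2) from rfl, slot_mul_tens, tens_apply,
      Fintype.prod_eq_mul i₀ i₂ h20.symm (fun m hm => by simp [hm.1, hm.2])]
    simp [he, h20, h20.symm, G2, a2, Matrix.mul_apply, Matrix.vecMul, dotProduct, Fin.sum_univ_two]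

/-- A symmetrical but not alternate element in dimension four. -/
def d4 : Matrix (Fin 4) (Fin 4) F := !![0, 1, 0, 0; 0, 0, 0, 0; 0, 0, 0, 0; 0, 0, 0, 0]

/-- The exchange of the two planes. -/
def P4 : Matrix (Fin 4) (Fin 4) F := !![0, 0, 1, 0; 0, 0, 0, 1; 1, 0, 0, 0; 0, 1, 0, 0]

theorem between_four [Finite F] (ht : 2 ≤ t) {Q : ((Fin t → Fin 4) → F) → F} (S : Setup G4 Q) :
    ∃ K : Subgroup (GL (Fin t → Fin 4) F),
      Geo.tensorWreathStandard 4 t F ⊓ Geo.omegaGL Q < K ∧ K < Geo.omegaGL Q := by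
  have hF := factor_four S.two
  obtain ⟨i₀, i₁, h10⟩ : ∃ i₀ i₁ : Fin t, i₁ ≠ i₀ := ⟨⟨0, by omega⟩, ⟨1, by omega⟩, by simp⟩
  set b := Function.update (Function.update (1 : Fin t → Matrix (Fin 4) (Fin 4) F) i₁ a4) i₀ d4 with hb
  have hb1 : b i₁ = a4 := by rw [hb, Function.update_of_ne h10, Function.update_self]
  have hadj : ∀ m, (G4 * b m)ᵀ = G4 * b m := fun m => by
    simp only [hb, Function.update_apply, Pi.one_apply]
    split_ifs
    · ext i j; fin_cases i <;> fin_cases j <;> simp [G4, d4, Matrix.mul_apply, Matrix.vecMul, dotProduct, Fin.sum_univ_four]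
    · exact hF.adj
    · rw [mul_one, S.symm]
  have hP : (P4 * P4 : Matrix (Fin 4) (Fin 4) F) = 1 := by
    ext i j; fin_cases i <;> fin_cases j <;> simp [P4, Matrix.mul_apply, Matrix.vecMul, dotProduct, Fin.sum_univ_four]
  have hPG : (P4 : Matrix (Fin 4) (Fin 4) F)ᵀ * G4 * P4 = G4 := by
    ext i j; fin_cases i <;> fin_cases j <;> simp [P4, G4, Matrix.mul_apply, Matrix.vecMul, dotProduct, Fin.sum_univ_four]
  obtain ⟨Y, hY, hYv⟩ := S.exists_omega b i₀ i₁ h10 (by rw [hb1, hF.sq]) hadj i₁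
    (fun x => by rw [hb1]; exact hF.mem.2.1 x) P4 P4 hP hPG
  set e : Matrix (Fin 4) (Fin 4) F := P4 * d4 * P4 + d4 with he
  have he2 : e * e = 0 := by
    ext i j; fin_cases i <;> fin_cases j <;> simp [he, P4, d4, Matrix.mul_apply, Matrix.vecMul, dotProduct, Fin.sum_univ_four]
  have hbupd : Function.update b i₀ (P4 * b i₀ * P4 + b i₀) =
      Function.update (Function.update (1 : Fin t → Matrix (Fin 4) (Fin 4) F) i₁ a4) i₀ e := by
    rw [hb, Function.update_self, Function.update_idem]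
  set U₀ := slot i₀ e with hU
  set A₁ := slot i₁ (a4 : Matrix (Fin 4) (Fin 4) F) with hA₁
  have hYN : (Y : Matrix (Fin t → Fin 4) (Fin t → Fin 4) F) = 1 + U₀ * A₁ := by
    rw [hYv, hbupd, hU, hA₁, show slot i₁ (a4 : Matrix (Fin 4) (Fin 4) F) = tens (Function.update 1 i₁ a4) from rfl,
      slot_mul_tens i₀]
    congr 2
    simp [Function.update_of_ne h10.symm]
  have hcom : ∀ z, Commute U₀ (slot i₁ z) := fun z => slot_comm h10.symm _ _
  have hU2 : U₀ * U₀ = 0 := by rw [hU, ← slot_mul', he2, slot_zero]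
  have hN2 : U₀ * A₁ * (U₀ * A₁) = 0 := by
    rw [(hcom a4).eq, mul_assoc A₁, ← mul_assoc U₀ A₁ U₀, (hcom a4).eq, mul_assoc A₁ U₀ U₀, hU2, mul_zero, mul_zero]
  have hTc : T4 (G4 * a4 * G4 : Matrix (Fin 4) (Fin 4) F) :=
    hF.conj G4 G4 a4 1 S.sq (by rw [S.symm, S.sq, one_mul, one_smul]) hF.mem
  set C₁ := slot i₁ (G4 * a4 * G4 : Matrix (Fin 4) (Fin 4) F) with hC₁
  have hpair : A₁ * C₁ + C₁ * A₁ = 1 := by
    rw [hA₁, hC₁, ← slot_mul', ← slot_mul', ← slot_add', hF.pair, slot_one']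
  obtain ⟨e1, e2, -⟩ := nilpotent_pair (hcom a4) (hcom _) hpair hU2
  refine between S hF i₀ i₁ h10 i₁ (fun x => by simpa [h10] using hF.mem.2.1 x) hY ?_
  refine notMem_of_entry S.two hYN hN2 (slot_mem_clifford i₁ hTc)
    (x := fun _ => 0) (y := Function.update (fun _ => 0) i₀ 1) (fun i A hA => ?_) ?_
  · rcases eq_or_ne i i₀ with rfl | hi
    · rw [slot_entry_self A fun l hl => (Function.update_of_ne hl _ _).symm, Function.update_self]
      have := hA.2.1 1
      simpa [G4, Matrix.mul_apply, Matrix.vecMul, dotProduct, Fin.sum_univ_four] using this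
    · exact slot_entry_eq_zero A hi.symm (by simp)
  · rw [e1, e2, add_zero, hU, slot_entry_self e fun l hl => (Function.update_of_ne hl _ _).symm, Function.update_self]
    simp [he, P4, d4, Matrix.mul_apply, Matrix.vecMul, dotProduct, Fin.sum_univ_four]

end Cfsg.Agent.FG75.SpinTensor
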