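import Cfsg.Agent.FG75.SpinTensorData

/-!
Transport of the standard model to a given tensor power decomposition.
-/

set_option autoImplicit false
set_option linter.unusedSectionVars false

namespace Cfsg.Agent.FG75.SpinTensor

open scoped MatrixGroups Matrix
open Cfsg.Agent.MaxSub.Asch

variable {F : Type*} [Field F] {n k t : ℕ}

theorem transfer {Q : (Fin n → F) → F} {f₁ : (Fin k → F) → (Fin k → F) → F} {e : Fin n ≃ (Fin t → Fin k)}
    {P : GL (Fin n) F} (hsmul : ∀ (r : F) v, Q (r • v) = r ^ 2 * Q v)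
    (hT : Geo.IsTensorPowerFormStructure id (QuadraticMap.polar Q) f₁ e P)
    (hpure : ∀ xs : Fin t → (Fin k → F),
      Q ((P : Matrix (Fin n) (Fin n) F) *ᵥ ((fun a : Fin t → Fin k => ∏ i, xs i (a i)) ∘ e)) = 0)
    (two : (2 : F) = 0) (hf₁ : Geo.IsSymplecticForm f₁) (G : Matrix (Fin k) (Fin k) F)
    (B : Fin k → Fin k → F) (hGs : Gᵀ = G) (hG2 : G * G = 1) (hGd : ∀ x, G x x = 0)
    (hB : ∀ i j, f₁ (B i) (B j) = G i j)
    (H : ∀ Q' : ((Fin t → Fin k) → F) → F, Setup G Q' →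
      ∃ K : Subgroup (GL (Fin t → Fin k) F),
        Geo.tensorWreathStandard k t F ⊓ Geo.omegaGL Q' < K ∧ K < Geo.omegaGL Q') :
    ∃ K : Subgroup (GL (Fin n) F), Geo.tensorWreathSubgroup k t e P ⊓ Geo.omegaGL Q < K ∧ K < Geo.omegaGL Q := by
  obtain ⟨c, hc, hT⟩ := hT
  have hΓ : ∀ x y : Fin k → F, f₁ x y = x ⬝ᵥ (Geo.gramMatrix f₁ *ᵥ y) := by
    intro x y
    have hb := hf₁.bilinear
    let L := LinearMap.mk₂ F f₁ hb.add_left hb.smul_left hb.add_right hb.smul_right
    show L x y = _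
    conv_lhs => rw [pi_eq_sum_univ' x, pi_eq_sum_univ' y]
    simp [L, map_sum, LinearMap.sum_apply, dotProduct, Matrix.mulVec, Geo.gramMatrix, Finset.mul_sum]
    rw [Finset.sum_comm]
    exact Finset.sum_congr rfl fun a _ => Finset.sum_congr rfl fun b _ => by ring
  set R : Matrix (Fin k) (Fin k) F := Matrix.of fun a i => B i a with hR
  have hRG : Rᵀ * Geo.gramMatrix f₁ * R = G := by
    refine Matrix.ext fun i j => ?_
    rw [← hB, hΓ, mul_assoc]
    simp only [Matrix.mul_apply, Matrix.mulVec, dotProduct, hR, Matrix.transpose_apply, Matrix.of_apply]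
  have hRinv : (G * Rᵀ * Geo.gramMatrix f₁) * R = 1 := by
    rw [mul_assoc G, mul_assoc G, hRG, hG2]
  let r : GL (Fin k) F := ⟨R, G * Rᵀ * Geo.gramMatrix f₁, mul_eq_one_comm.mp hRinv, hRinv⟩
  let T : GL (Fin t → Fin k) F := tensGL fun _ => r
  let Φ : GL (Fin t → Fin k) F ≃* GL (Fin n) F :=
    (MulAut.conj T).trans ((Geo.glReindex e.symm).trans (MulAut.conj P))
  let L : ((Fin t → Fin k) → F) → (Fin n → F) := fun v =>
    (P : Matrix (Fin n) (Fin n) F) *ᵥ (((T : Matrix (Fin t → Fin k) (Fin t → Fin k) F) *ᵥ v) ∘ e)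
  have hL : ∀ (Y : GL (Fin t → Fin k) F) v,
      (Φ Y : Matrix (Fin n) (Fin n) F) *ᵥ L v = L ((Y : Matrix (Fin t → Fin k) (Fin t → Fin k) F) *ᵥ v) := by
    intro Y v
    simp only [L, Φ, MulEquiv.trans_apply, MulAut.conj_apply, Units.val_mul]
    rw [Matrix.mulVec_mulVec, mul_assoc, mul_assoc, Units.inv_mul, mul_one, ← Matrix.mulVec_mulVec]
    congr 1
    show (Matrix.reindex e.symm e.symm (T.val * Y.val * (T⁻¹ : GL (Fin t → Fin k) F).val)) *ᵥ _ = _
    rw [Matrix.reindex_apply, Matrix.submatrix_mulVec_equiv]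
    simp only [Equiv.symm_symm, Function.comp_assoc, Equiv.self_comp_symm, Function.comp_id]
    rw [Matrix.mulVec_mulVec, mul_assoc _ _ T.val, Units.inv_mul, mul_one, Matrix.mulVec_mulVec]
  have hLsurj : ∀ w, ∃ v, L v = w := fun w =>
    ⟨(T⁻¹ : GL (Fin t → Fin k) F).val *ᵥ (((P⁻¹ : GL (Fin n) F).val *ᵥ w) ∘ e.symm), by
      simp only [L, Matrix.mulVec_mulVec, Units.mul_inv, Matrix.one_mulVec, Function.comp_assoc,
        Equiv.symm_comp_self, Function.comp_id]⟩
  have hLadd : ∀ x y, L (x + y) = L x + L y := fun x y => by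
    show P.val *ᵥ ((T.val *ᵥ (x + y)) ∘ e) = P.val *ᵥ ((T.val *ᵥ x) ∘ e) + P.val *ᵥ ((T.val *ᵥ y) ∘ e)
    rw [← Matrix.mulVec_add P.val, Matrix.mulVec_add T.val]
    rfl
  have hLsmul : ∀ (a : F) x, L (a • x) = a • L x := fun a x => by
    show P.val *ᵥ ((T.val *ᵥ (a • x)) ∘ e) = a • (P.val *ᵥ ((T.val *ᵥ x) ∘ e))
    rw [← Matrix.mulVec_smul P.val, Matrix.mulVec_smul T.val]
    rfl
  let Q' : ((Fin t → Fin k) → F) → F := fun v => Q (L v)
  have S : Setup G Q' := by
    refine ⟨two, hGs, hG2, hGd, fun a v => by simp only [Q', hLsmul, hsmul], ⟨c, hc, fun x y => ?_⟩, fun u => ?_⟩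
    · show Q (L (x + y)) - Q (L x) - Q (L y) = _
      rw [hLadd]
      show QuadraticMap.polar Q (L x) (L y) = _
      simp only [L]
      rw [hT]
      congr 1
      have hsum : ∀ X Y : (Fin t → Fin k) → F,
          (∑ a, ∑ b, X a * (∏ i, Geo.gramMatrix f₁ (a i) (b i)) * id (Y b)) =
            X ⬝ᵥ (tens (fun _ : Fin t => Geo.gramMatrix f₁) *ᵥ Y) := fun X Y => by
        simp [dotProduct, Matrix.mulVec, Finset.mul_sum, tens_apply, mul_assoc]
      rw [hsum, Matrix.mulVec_mulVec, ← Matrix.vecMul_transpose, ← Matrix.dotProduct_mulVec,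
        Matrix.mulVec_mulVec, ← mul_assoc]
      congr 2
      show (tens fun _ : Fin t => R)ᵀ * tens (fun _ => Geo.gramMatrix f₁) * tens (fun _ => R) = _
      rw [tens_transpose, tens_mul, tens_mul]
      congr 1
      funext _
      exact hRG
    · show Q (L fun a => ∏ i, u i (a i)) = 0
      refine Eq.trans (congrArg Q ?_) (hpure fun i => R *ᵥ u i)
      simp only [L]
      congr 2
      funext x
      show (tens fun _ : Fin t => R) x ⬝ᵥ _ = _
      simp only [dotProduct, tens_apply, Matrix.mulVec, ← Finset.prod_mul_distrib]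
      rw [Fintype.prod_sum]
  have hI : (Cfsg.isometryGroup F Q').map Φ.toMonoidHom = Cfsg.isometryGroup F Q := by
    ext g
    obtain ⟨Y, rfl⟩ := Φ.surjective g
    rw [← MulEquiv.coe_toMonoidHom, Subgroup.mem_map_iff_mem Φ.injective]
    constructor
    · intro hY u v
      obtain ⟨x, rfl⟩ := hLsurj u
      show Q ((Φ Y : Matrix (Fin n) (Fin n) F) *ᵥ L x) = Q (L x)
      rw [hL]
      exact hY x x
    · intro hY x _
      have h := hY (L x) (L x)
      change Q ((Φ Y : Matrix (Fin n) (Fin n) F) *ᵥ L x) = Q (L x) at h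
      rw [hL] at h
      exact h
  have hΩ : (Geo.omegaGL Q').map Φ.toMonoidHom = Geo.omegaGL Q := by
    rw [Geo.omegaGL, Geo.omegaGL, Omega, Omega, Subgroup.map_subtype_commutator, Subgroup.map_subtype_commutator,
      Subgroup.map_commutator, hI]
  have hTmem : T ∈ Geo.tensorWreathStandard k t F :=
    Subgroup.subset_closure (Or.inl ⟨fun _ => r, fun x y => rfl⟩)
  have hW : (Geo.tensorWreathStandard k t F).map Φ.toMonoidHom = Geo.tensorWreathSubgroup k t e P := by
    have h1 : (Geo.tensorWreathStandard k t F).map (MulAut.conj T).toMonoidHom = Geo.tensorWreathStandard k t F := by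
      ext x
      rw [Subgroup.mem_map_equiv, MulAut.conj_symm_apply]
      exact ⟨fun h => by simpa [mul_assoc] using mul_mem (mul_mem hTmem h) (inv_mem hTmem),
        fun h => mul_mem (mul_mem (inv_mem hTmem) h) hTmem⟩
    conv_rhs => rw [Geo.tensorWreathSubgroup, ← h1]
    rw [Subgroup.map_map, Subgroup.map_map]
    rfl
  obtain ⟨K, h1, h2⟩ := H Q' S
  refine ⟨K.map Φ.toMonoidHom, ?_, ?_⟩
  · rw [← hW, ← hΩ, ← Subgroup.map_inf _ _ _ Φ.injective]
    exact (Subgroup.map_lt_map_iff_of_injective Φ.injective).mpr h1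
  · rw [← hΩ]
    exact (Subgroup.map_lt_map_iff_of_injective Φ.injective).mpr h2

end Cfsg.Agent.FG75.SpinTensor
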