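/-
Frobenius' count of the subgroups of prime power order, by Wielandt's action on subsets.
-/
import Mathlib

set_option autoImplicit false
set_option linter.all false

open MulAction
open scoped Pointwise

universe u

namespace Cfsg.Agent.FG75.SubgroupCount

variable (G : Type u) [Group G]

/-- The subsets of cardinality `k`, as a stable set for translation. -/
def Sets (k : ℕ) : SubMulAction G (Set G) where
  carrier := {S | S.ncard = k}
  smul_mem' g S (hS : S.ncard = k) := by
    show (g • S).ncard = k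
    rw [Set.ncard_smul_set]; exact hS

variable {G} [Finite G]

theorem card_stabilizer_dvd (S : Set G) : Nat.card (stabilizer G S) ∣ S.ncard := by
  let H := stabilizer G S
  let T : Set (G ⧸ H) := QuotientGroup.mk '' (fun x : G => x⁻¹) '' S
  have hT : (QuotientGroup.mk ⁻¹' T : Set G) = (fun x : G => x⁻¹) '' S := by
    ext x
    constructor
    · rintro ⟨y, ⟨s, hs, rfl⟩, hxy⟩
      rw [QuotientGroup.eq, inv_inv] at hxy
      refine ⟨x⁻¹, ?_, inv_inv x⟩
      have h1 : (s * x)⁻¹ • S = S := mem_stabilizer_iff.1 (inv_mem hxy)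
      have h2 : (s * x)⁻¹ * s ∈ S := h1 ▸ Set.smul_mem_smul_set hs
      simpa [mul_assoc] using h2
    · intro hx
      exact ⟨x, hx, rfl⟩
  have h := Nat.card_congr (QuotientGroup.preimageMkEquivSubgroupProdSet H T)
  rw [hT, Nat.card_prod, Nat.card_coe_set_eq,
    Set.ncard_image_of_injective _ inv_injective] at h
  exact h ▸ dvd_mul_right _ _

/-- The subset attached to a subgroup and one of its cosets. -/
def cosetSet (H : Subgroup G) (q : G ⧸ H) : Set G := {x | (QuotientGroup.mk x⁻¹ : G ⧸ H) = q}

theorem cosetSet_eq (H : Subgroup G) (a : G) :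
    cosetSet H (QuotientGroup.mk a) = (fun h => h * a⁻¹) '' (H : Set G) := by
  ext x
  simp only [cosetSet, Set.mem_ofPred_eq, QuotientGroup.eq, inv_inv, Set.mem_image, SetLike.mem_coe]
  constructor
  · intro h; exact ⟨x * a, h, by group⟩
  · rintro ⟨h, hh, rfl⟩; simpa [mul_assoc] using hh

theorem ncard_cosetSet (H : Subgroup G) (q : G ⧸ H) : (cosetSet H q).ncard = Nat.card H := by
  obtain ⟨a, rfl⟩ := QuotientGroup.mk_surjective q
  rw [cosetSet_eq, Set.ncard_image_of_injective _ (mul_left_injective _)]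
  rfl

theorem stabilizer_cosetSet (H : Subgroup G) (q : G ⧸ H) : stabilizer G (cosetSet H q) = H := by
  obtain ⟨a, rfl⟩ := QuotientGroup.mk_surjective q
  ext g
  rw [mem_stabilizer_iff, cosetSet_eq]
  constructor
  · intro h
    have h1 : g • a⁻¹ ∈ g • ((fun h => h * a⁻¹) '' (H : Set G)) :=
      Set.smul_mem_smul_set ⟨1, H.one_mem, one_mul _⟩
    rw [h] at h1
    obtain ⟨x, hx, hxg⟩ := h1
    rw [smul_eq_mul] at hxg
    exact mul_right_cancel hxg ▸ hx
  · intro hg
    ext x
    rw [Set.mem_smul_set_iff_inv_smul_mem, smul_eq_mul]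
    constructor
    · rintro ⟨h, hh, hx⟩
      exact ⟨g * h, H.mul_mem hg hh, by simp [mul_assoc, hx]⟩
    · rintro ⟨h, hh, rfl⟩
      exact ⟨g⁻¹ * h, H.mul_mem (H.inv_mem hg) hh, by simp [mul_assoc]⟩

variable (G) in
/-- Wielandt's congruence. -/
theorem card_sets_modEq (p β : ℕ) [hp : Fact p.Prime] (hdiv : p ^ β ∣ Nat.card G) :
    Nat.card (Sets G (p ^ β)) ≡
      Nat.card G / p ^ β * Nat.card {H : Subgroup G // Nat.card H = p ^ β}
      [MOD Nat.card G / p ^ β * p] := by
  classical
  haveI := Fintype.ofFinite G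
  set k := p ^ β with hk
  set m := Nat.card G / k with hm
  have hkpos : 0 < k := pow_pos hp.out.pos _
  have hcard : Nat.card G = m * k := (Nat.div_mul_cancel hdiv).symm
  let good : Sets G k → Prop := fun S => Nat.card (stabilizer G (S : Set G)) = k
  haveI := Fintype.ofFinite (Sets G k)
  have hgood : Nat.card {S : Sets G k // good S}
      = m * Nat.card {H : Subgroup G // Nat.card H = k} := by
    let F : (Σ H : {H : Subgroup G // Nat.card H = k}, G ⧸ H.1) → {S : Sets G k // good S} :=
      fun x => ⟨⟨cosetSet x.1.1 x.2, (ncard_cosetSet _ _).trans x.1.2⟩, by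
        show Nat.card (stabilizer G (cosetSet x.1.1 x.2)) = k
        rw [stabilizer_cosetSet]; exact x.1.2⟩
    have hF : Function.Bijective F := by
      constructor
      · rintro ⟨⟨H, hH⟩, q⟩ ⟨⟨H', hH'⟩, q'⟩ h
        have h' : cosetSet H q = cosetSet H' q' := congrArg (fun S => (S.1 : Set G)) h
        obtain rfl : H = H' := by
          rw [← stabilizer_cosetSet H q, ← stabilizer_cosetSet H' q', h']
        obtain ⟨a, rfl⟩ := QuotientGroup.mk_surjective q
        have ha : a⁻¹ ∈ cosetSet H q' := h' ▸ (by simp [cosetSet] : a⁻¹ ∈ cosetSet H (a : G ⧸ H))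
        simp only [cosetSet, Set.mem_ofPred_eq, inv_inv] at ha
        rw [ha]
      · rintro ⟨⟨S, hS⟩, hgS⟩
        have hne : S.Nonempty := Set.nonempty_of_ncard_ne_zero (by
          rw [show S.ncard = k from hS]; omega)
        obtain ⟨s, hs⟩ := hne
        refine ⟨⟨⟨stabilizer G S, hgS⟩, QuotientGroup.mk s⁻¹⟩, ?_⟩
        refine Subtype.ext (Subtype.ext ?_)
        show cosetSet (stabilizer G S) _ = S
        refine Set.eq_of_subset_of_ncard_le ?_ ?_ (Set.toFinite _)
        · rw [cosetSet_eq]
          rintro x ⟨h, hh, rfl⟩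
          have : h • s ∈ S := (mem_stabilizer_iff.1 hh) ▸ Set.smul_mem_smul_set hs
          simpa using this
        · rw [ncard_cosetSet, show S.ncard = k from hS]; exact le_of_eq hgS.symm
    rw [← Nat.card_congr (Equiv.ofBijective F hF), Nat.card_sigma]
    rw [Finset.sum_congr rfl (g := fun _ => m) fun H _ => by
      have h := H.1.index_mul_card
      rw [H.2, hcard] at h
      exact Nat.eq_of_mul_eq_mul_right hkpos h]
    rw [Finset.sum_const, smul_eq_mul, Finset.card_univ, ← Nat.card_eq_fintype_card, mul_comm]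
  let B : SubMulAction G (Set G) :=
    { carrier := {S | S.ncard = k ∧ Nat.card (stabilizer G S) ≠ k}
      smul_mem' := fun g S hS => by
        refine ⟨(Set.ncard_smul_set g S).trans hS.1, ?_⟩
        rw [← Nat.card_congr (stabilizerEquivStabilizerOfOrbitRel
          (show orbitRel G (Set G) (g • S) S from mem_orbit S g)).toEquiv.symm]
        exact hS.2 }
  have hbad : m * p ∣ Nat.card B := by
    haveI := Fintype.ofFinite B
    haveI := Fintype.ofFinite (orbitRel.Quotient G B)
    rw [Nat.card_congr (selfEquivSigmaOrbits G B), Nat.card_sigma]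
    refine Finset.dvd_sum fun ω _ => ?_
    set b : B := Quotient.out ω
    have hst : stabilizer G b = stabilizer G (b : Set G) := SubMulAction.stabilizer_of_subMul b
    have hdvd : Nat.card (stabilizer G (b : Set G)) ∣ k := by
      have := card_stabilizer_dvd (b : Set G); rwa [b.2.1] at this
    obtain ⟨j, hj, hjeq⟩ := (Nat.dvd_prime_pow hp.out).1 hdvd
    have hjlt : j < β := lt_of_le_of_ne hj fun h => b.2.2 (by rw [hjeq, h])
    have horb := Nat.card_congr (orbitProdStabilizerEquivGroup G b)
    rw [Nat.card_prod, hst, hjeq, hcard] at horb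
    rw [show k = p * p ^ (β - 1 - j) * p ^ j by
      rw [hk, mul_assoc, ← pow_add, ← pow_succ']; congr 1; omega] at horb
    rw [← mul_assoc, ← mul_assoc] at horb
    exact ⟨_, Nat.eq_of_mul_eq_mul_right (pow_pos hp.out.pos j) horb⟩
  have hsplit : Nat.card (Sets G k) = Nat.card {S : Sets G k // good S} + Nat.card B := by
    rw [← Nat.card_congr (Equiv.sumCompl good), Nat.card_sum]
    congr 1
    exact Nat.card_congr
      { toFun := fun S => ⟨S.1.1, S.1.2, S.2⟩
        invFun := fun S => ⟨⟨S.1, S.2.1⟩, S.2.2⟩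
        left_inv := fun S => rfl
        right_inv := fun S => rfl }
  rw [hsplit, hgood]
  obtain ⟨c, hc⟩ := hbad
  rw [hc]
  exact Nat.modEq_iff_dvd.2 ⟨-(c : ℤ), by push_cast; ring⟩

theorem card_sets_congr {H : Type*} [Group H] (e : G ≃ H) (k : ℕ) :
    Nat.card (Sets G k) = Nat.card (Sets H k) :=
  Nat.card_congr ((Equiv.Set.congr e).subtypeEquiv fun S => by
    show S.ncard = k ↔ (e '' S).ncard = k
    rw [Set.ncard_image_of_injective _ e.injective])

theorem card_subgroups_cyclic {C : Type*} [CommGroup C] [IsCyclic C] [Finite C] {d : ℕ}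
    (hd : d ∣ Nat.card C) : Nat.card {H : Subgroup C // Nat.card H = d} = 1 := by
  have hK : Nat.card (powMonoidHom d : C →* C).ker = d := by
    rw [IsCyclic.card_powMonoidHom_ker, Nat.gcd_eq_right hd]
  haveI : Unique {H : Subgroup C // Nat.card H = d} :=
    { default := ⟨_, hK⟩
      uniq := fun H => Subtype.ext (Subgroup.eq_of_le_of_card_ge (fun x hx => by
        show x ^ d = 1
        have h1 := orderOf_dvd_natCard (⟨x, hx⟩ : H.1)
        rw [H.2, Subgroup.orderOf_mk] at h1
        exact orderOf_dvd_iff_pow_eq_one.1 h1) (le_of_eq (hK.trans H.2.symm))) }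
  exact Nat.card_unique

variable (G) in
theorem card_subgroups_modEq_one (p β : ℕ) [hp : Fact p.Prime] (hdiv : p ^ β ∣ Nat.card G) :
    Nat.card {H : Subgroup G // Nat.card H = p ^ β} ≡ 1 [MOD p] := by
  set n := Nat.card G with hn
  haveI : NeZero n := ⟨Nat.card_pos.ne'⟩
  have hc : Nat.card (Multiplicative (ZMod n)) = n := by simp
  let e : G ≃ Multiplicative (ZMod n) := (Finite.equivFinOfCardEq rfl).trans
    (Finite.equivFinOfCardEq hc).symm
  have h1 := card_sets_modEq G p β hdiv
  have h2 := card_sets_modEq (Multiplicative (ZMod n)) p β (hc.symm ▸ hdiv)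
  rw [← card_sets_congr e, hc, card_subgroups_cyclic (hc.symm ▸ hdiv)] at h2
  have h3 : _ ≡ _ [MOD n / p ^ β * p] := h1.symm.trans h2
  exact h3.mul_left_cancel' (Nat.div_pos (Nat.le_of_dvd Nat.card_pos hdiv) (pow_pos hp.out.pos _)).ne'

end Cfsg.Agent.FG75.SubgroupCount
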