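import Mathlib
import Cfsg.Agent.Lib.CharCore.Burnside

open Subgroup

namespace Cfsg.Agent.FG75.SylowPrimePower

variable {G : Type*} [Group G] [Finite G]

theorem relIndex_normal_dvd_index (M N : Subgroup G) [N.Normal] : M.relIndex N ∣ M.index := by
  have h1 := relIndex_mul_relIndex (M ⊓ N) M (M ⊔ N) inf_le_left le_sup_left
  have h2 := relIndex_mul_relIndex (M ⊓ N) N (M ⊔ N) inf_le_right le_sup_right
  rw [inf_relIndex_left] at h1
  rw [inf_relIndex_right] at h2
  rw [relIndex_sup_right (H := M) (K := N)] at h2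
  have h : M.relIndex (M ⊔ N) = M.relIndex N := by
    have hpos : 0 < N.relIndex M := Nat.pos_of_ne_zero index_ne_zero_of_finite
    refine Nat.eq_of_mul_eq_mul_left hpos ?_
    rw [h1, mul_comm, h2]
  rw [← h]
  exact relIndex_dvd_index_of_le le_sup_left

theorem card_sylow_normal_dvd (N : Subgroup G) [N.Normal] (r : ℕ) [Fact r.Prime] :
    Nat.card (Sylow r N) ∣ Nat.card (Sylow r G) := by
  obtain ⟨Q⟩ : Nonempty (Sylow r N) := inferInstance
  obtain ⟨P, hP⟩ := IsPGroup.exists_le_sylow (Q.2.map N.subtype)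
  rw [Sylow.card_eq_index_normalizer Q, Sylow.card_eq_index_normalizer P]
  refine Dvd.dvd.trans ?_ (relIndex_normal_dvd_index (Subgroup.normalizer ((P : Subgroup G) : Set G)) N)
  apply index_dvd_of_le
  have hQ : (P : Subgroup G).subgroupOf N = (Q : Subgroup N) := by
    refine Q.3 ?_ ?_
    · exact P.2.comap_of_injective _ N.subtype_injective
    · intro x hx
      exact hP ⟨x, hx, rfl⟩
  intro x hx
  rw [mem_subgroupOf, mem_normalizer_iff] at hx
  change x ∈ Subgroup.normalizer ((Q : Subgroup N) : Set N)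
  rw [mem_normalizer_iff]
  intro y
  rw [← hQ]
  simp only [mem_subgroupOf]
  simpa using hx (y : G)

theorem card_sylow_quotient_dvd (N : Subgroup G) [N.Normal] (r : ℕ) [Fact r.Prime] :
    Nat.card (Sylow r (G ⧸ N)) ∣ Nat.card (Sylow r G) := by
  obtain ⟨P⟩ : Nonempty (Sylow r G) := inferInstance
  let Q : Sylow r (G ⧸ N) := P.mapSurjective (QuotientGroup.mk'_surjective N)
  rw [Sylow.card_eq_index_normalizer Q, Sylow.card_eq_index_normalizer P]
  have h1 : (Subgroup.normalizer ((P : Subgroup G) : Set G)).map (QuotientGroup.mk' N) ≤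
      Subgroup.normalizer ((Q : Subgroup (G ⧸ N)) : Set (G ⧸ N)) := by
    rw [Sylow.coe_mapSurjective]
    exact le_normalizer_map _
  exact (index_dvd_of_le h1).trans (index_map_dvd _ (QuotientGroup.mk'_surjective N))

theorem prime_power_or_one {n m : ℕ} (h : m ∣ n) (hn : n = 1 ∨ IsPrimePow n) : m = 1 ∨ IsPrimePow m := by
  rcases hn with rfl | hn
  · exact Or.inl (Nat.dvd_one.mp h)
  · by_cases hm : m = 1
    · exact Or.inl hm
    · exact Or.inr (hn.dvd h hm)

theorem exists_sylow_le_normalizer {r s : ℕ} [Fact r.Prime] [Fact s.Prime] (P : Sylow r G)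
    (hs : ¬ s ∣ (Subgroup.normalizer ((P : Subgroup G) : Set G)).index) :
    ∃ S : Sylow s G, (S : Subgroup G) ≤ Subgroup.normalizer ((P : Subgroup G) : Set G) := by
  set H := Subgroup.normalizer ((P : Subgroup G) : Set G)
  obtain ⟨S₀⟩ : Nonempty (Sylow s H) := inferInstance
  obtain ⟨S, hS⟩ := IsPGroup.exists_le_sylow (S₀.2.map H.subtype)
  refine ⟨S, ?_⟩
  have h1 : ¬ s ∣ ((S₀ : Subgroup H).map H.subtype).index := by
    rw [index_map_subtype]
    exact fun h => ((Fact.out : s.Prime).dvd_mul.mp h).elim S₀.not_dvd_index hs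
  have h2 : ((S₀ : Subgroup H).map H.subtype).relIndex (S : Subgroup G) = 1 := by
    obtain ⟨k, hk⟩ := (S.2 : IsPGroup s (S : Subgroup G)).index ((((S₀ : Subgroup H).map H.subtype)).subgroupOf (S : Subgroup G))
    rw [relIndex, hk]
    rcases k with _ | k
    · simp
    · exfalso
      apply h1
      refine dvd_trans ?_ (relIndex_dvd_index_of_le hS)
      rw [relIndex, hk, pow_succ]
      exact dvd_mul_left _ _
  exact (relIndex_eq_one.mp h2).trans (map_subtype_le _)

theorem normalClosure_le_of_coprime {H K : Subgroup G} (hco : Nat.Coprime H.index K.index) (S : Subgroup G)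
    (hSH : S ≤ H) (hSK : K ≤ Subgroup.normalizer (S : Set G)) : Subgroup.normalClosure (S : Set G) ≤ H := by
  have hmul : ∀ g : G, ∃ a ∈ H, ∃ b ∈ K, g = a * b := by
    intro g
    have hKH : K.relIndex H = K.index := by
      have := index_inf_le (H := H) (K := K)
      have hd : H.index * K.index ∣ (H ⊓ K).index :=
        Nat.Coprime.mul_dvd_of_dvd_of_dvd hco (index_dvd_of_le inf_le_left) (index_dvd_of_le inf_le_right)
      have he : (H ⊓ K).index = H.index * K.index :=
        le_antisymm this (Nat.le_of_dvd (Nat.pos_of_ne_zero index_ne_zero_of_finite) hd)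
      have h3 := relIndex_mul_index (inf_le_left : H ⊓ K ≤ H)
      rw [inf_relIndex_left, he, mul_comm H.index] at h3
      exact Nat.eq_of_mul_eq_mul_right (Nat.pos_of_ne_zero index_ne_zero_of_finite) h3
    let f : H ⧸ K.subgroupOf H → G ⧸ K := fun x => Quotient.liftOn' x (fun h => ((h : G) : G ⧸ K))
      (fun a b hab => QuotientGroup.eq.mpr (by
        have := QuotientGroup.leftRel_apply.mp hab
        simpa [mem_subgroupOf] using this))
    have hf : Function.Injective f := by
      intro x y
      refine Quotient.inductionOn₂' x y ?_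
      intro a b hab
      apply Quotient.sound'
      rw [QuotientGroup.leftRel_apply]
      have := QuotientGroup.eq.mp hab
      simpa [mem_subgroupOf] using this
    have hb : Function.Bijective f := (Nat.bijective_iff_injective_and_card f).mpr ⟨hf, hKH⟩
    obtain ⟨x, hx⟩ := hb.2 (g : G ⧸ K)
    induction x using Quotient.inductionOn' with
    | _ a => exact ⟨a, a.2, (a : G)⁻¹ * g, QuotientGroup.eq.mp hx, by group⟩
  refine (Subgroup.closure_le _).mpr ?_
  intro x hx
  rw [Group.mem_conjugatesOfSet_iff] at hx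
  obtain ⟨s, hs, hsx⟩ := hx
  obtain ⟨g, rfl⟩ := isConj_iff.mp hsx
  obtain ⟨a, ha, b, hb, rfl⟩ := hmul g
  have hbs : b * s * b⁻¹ ∈ S := ((mem_normalizer_iff.mp (hSK hb)) s).mp hs
  have : a * b * s * (a * b)⁻¹ = a * (b * s * b⁻¹) * a⁻¹ := by group
  rw [this]
  exact H.mul_mem (H.mul_mem ha (hSH hbs)) (H.inv_mem ha)

theorem card_sylow_ne_one [IsSimpleGroup G] (hns : ¬ Group.IsSolvable G) {r : ℕ} [Fact r.Prime]
    (hr : r ∣ Nat.card G) : Nat.card (Sylow r G) ≠ 1 := by
  intro h
  obtain ⟨P⟩ : Nonempty (Sylow r G) := inferInstance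
  rw [Sylow.card_eq_index_normalizer P, index_eq_one] at h
  change Subgroup.normalizer ((P : Subgroup G) : Set G) = ⊤ at h
  rw [normalizer_eq_top_iff] at h
  rcases h.eq_bot_or_eq_top with h' | h'
  · exact P.ne_bot_of_dvd_card hr h'
  · have hp : IsPGroup r G := by
      have := P.2
      rw [h'] at this
      exact this.of_equiv Subgroup.topEquiv
    have : Group.IsNilpotent G := IsPGroup.isNilpotent hp
    exact hns inferInstance

theorem simple_case [IsSimpleGroup G]
    (h : ∀ (r : ℕ) [Fact r.Prime], Nat.card (Sylow r G) = 1 ∨ IsPrimePow (Nat.card (Sylow r G))) :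
    Group.IsSolvable G := by
  by_contra hns
  have hex : ∀ r : ℕ, r ∈ (Nat.card G).primeFactors →
      ∃ q : ℕ, q.Prime ∧ ∀ (_ : Fact r.Prime) (P : Sylow r G),
        ∃ a, 0 < a ∧ (Subgroup.normalizer ((P : Subgroup G) : Set G)).index = q ^ a := by
    intro r hr
    haveI : Fact r.Prime := ⟨Nat.prime_of_mem_primeFactors hr⟩
    have hne := card_sylow_ne_one hns (Nat.dvd_of_mem_primeFactors hr)
    obtain ⟨q, a, hq, ha, he⟩ := (h r).resolve_left hne
    exact ⟨q, hq.nat_prime, fun _ P => ⟨a, ha, (Sylow.card_eq_index_normalizer P).symm.trans he.symm⟩⟩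
  choose! f hf using hex
  have hfr : ∀ r ∈ (Nat.card G).primeFactors, f r ∈ (Nat.card G).primeFactors ∧ f r ≠ r := by
    intro r hr
    haveI : Fact r.Prime := ⟨Nat.prime_of_mem_primeFactors hr⟩
    obtain ⟨P⟩ : Nonempty (Sylow r G) := inferInstance
    obtain ⟨a, ha, hi⟩ := (hf r hr).2 inferInstance P
    have hd : f r ∣ (Subgroup.normalizer ((P : Subgroup G) : Set G)).index := hi ▸ dvd_pow_self _ ha.ne'
    refine ⟨Nat.mem_primeFactors.mpr ⟨(hf r hr).1, hd.trans (index_dvd_card _), Nat.card_pos.ne'⟩, fun e => ?_⟩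
    rw [e] at hd
    exact P.not_dvd_index (hd.trans (index_dvd_of_le le_normalizer))
  have key : ∀ r ∈ (Nat.card G).primeFactors, ∀ s ∈ (Nat.card G).primeFactors, f r ≠ f s → f r = s := by
    intro r hr s hs hne
    by_contra hfs
    haveI : Fact r.Prime := ⟨Nat.prime_of_mem_primeFactors hr⟩
    haveI : Fact s.Prime := ⟨Nat.prime_of_mem_primeFactors hs⟩
    obtain ⟨P⟩ : Nonempty (Sylow r G) := inferInstance
    obtain ⟨a, ha, hi⟩ := (hf r hr).2 inferInstance P
    have hns' : ¬ s ∣ (Subgroup.normalizer ((P : Subgroup G) : Set G)).index := by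
      rw [hi]
      exact fun hd => hfs ((Nat.prime_dvd_prime_iff_eq (Fact.out) (hf r hr).1).mp
        ((Fact.out : s.Prime).dvd_of_dvd_pow hd)).symm
    obtain ⟨S, hS⟩ := exists_sylow_le_normalizer P hns'
    obtain ⟨b, hb, hj⟩ := (hf s hs).2 inferInstance S
    have hco : Nat.Coprime (Subgroup.normalizer ((P : Subgroup G) : Set G)).index
        (Subgroup.normalizer ((S : Subgroup G) : Set G)).index := by
      rw [hi, hj]
      exact Nat.Coprime.pow a b ((Nat.coprime_primes (hf r hr).1 (hf s hs).1).mpr hne)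
    have hle := normalClosure_le_of_coprime hco (S : Subgroup G) hS le_rfl
    rcases (Subgroup.normalClosure_normal (s := ((S : Subgroup G) : Set G))).eq_bot_or_eq_top with e | e
    · have : (S : Subgroup G) = ⊥ := by
        rw [eq_bot_iff, ← e]
        exact Subgroup.le_normalClosure
      exact S.ne_bot_of_dvd_card (Nat.dvd_of_mem_primeFactors hs) this
    · rw [e, top_le_iff] at hle
      rw [hle, index_top] at hi
      exact ((hf r hr).1.one_lt).ne' ((Nat.pow_eq_one.mp hi.symm).resolve_right ha.ne')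
  obtain ⟨r, hr⟩ : (Nat.card G).primeFactors.Nonempty := by
    rw [Nat.nonempty_primeFactors]
    exact (Finite.one_lt_card : 1 < Nat.card G)
  obtain ⟨hs, hsr⟩ := hfr r hr
  by_cases h3 : ∃ t ∈ (Nat.card G).primeFactors, t ≠ r ∧ t ≠ f r
  · obtain ⟨t, ht, htr, hts⟩ := h3
    obtain ⟨hu, hus⟩ := hfr (f r) hs
    have htf : f t = f r := by
      by_contra hne
      exact hts (key r hr t ht (Ne.symm hne)).symm
    have h1 : f (f r) = r := key (f r) hs r hr hus
    have h2 : f (f r) = t := key (f r) hs t ht (fun e => hus (e.trans htf))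
    exact htr (h2.symm.trans h1)
  · push Not at h3
    apply hns
    have hcard : Nat.card G = r ^ (Nat.card G).factorization r * f r ^ (Nat.card G).factorization (f r) := by
      conv_lhs => rw [← Nat.prod_factorization_pow_eq_self (Nat.card_pos.ne' : Nat.card G ≠ 0)]
      rw [Nat.prod_factorization_eq_prod_primeFactors]
      have hset : (Nat.card G).primeFactors = {r, f r} := by
        ext t
        simp only [Finset.mem_insert, Finset.mem_singleton]
        constructor
        · intro ht
          by_cases e : t = r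
          · exact Or.inl e
          · exact Or.inr (h3 t ht e)
        · rintro (rfl | rfl)
          · exact hr
          · exact hs
      rw [hset, Finset.prod_insert (by simp [Ne.symm hsr]), Finset.prod_singleton]
    exact CharCore.isSolvable_of_card_eq_prime_pow_mul (Nat.prime_of_mem_primeFactors hr) (hf r hr).1 _ G _ _ rfl hcard

theorem isSolvable : ∀ (n : ℕ) (G : Type*) [Group G] [Finite G], Nat.card G ≤ n →
    (∀ (r : ℕ) [Fact r.Prime], Nat.card (Sylow r G) = 1 ∨ IsPrimePow (Nat.card (Sylow r G))) →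
    Group.IsSolvable G := by
  intro n
  induction n with
  | zero =>
    intro G _ _ hn
    exact absurd hn (Nat.not_le.mpr Nat.card_pos)
  | succ n ih =>
    intro G _ _ hn h
    rcases subsingleton_or_nontrivial G with hG | hG
    · exact inferInstance
    by_cases hs : ∃ N : Subgroup G, N.Normal ∧ N ≠ ⊥ ∧ N ≠ ⊤
    · obtain ⟨N, hN, hb, ht⟩ := hs
      haveI := hN
      have hlt : Nat.card N < Nat.card G :=
        lt_of_le_of_ne (Subgroup.card_le_card_group N) (fun e => ht (Subgroup.eq_top_of_card_eq N e))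
      haveI h1 : Group.IsSolvable N :=
        ih N (by omega) (fun r _ => prime_power_or_one (card_sylow_normal_dvd N r) (h r))
      have hlt2 : Nat.card (G ⧸ N) < Nat.card G := by
        rw [Subgroup.card_eq_card_quotient_mul_card_subgroup N]
        exact lt_mul_of_one_lt_right Nat.card_pos ((Subgroup.one_lt_card_iff_ne_bot N).mpr hb)
      haveI h2 : Group.IsSolvable (G ⧸ N) :=
        ih (G ⧸ N) (by omega) (fun r _ => prime_power_or_one (card_sylow_quotient_dvd N r) (h r))
      exact Group.isSolvable_of_ker_le_range N.subtype (QuotientGroup.mk' N) (by simp)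
    · push Not at hs
      haveI : IsSimpleGroup G := ⟨fun N hN => or_iff_not_imp_left.mpr (hs N hN)⟩
      exact simple_case h

end Cfsg.Agent.FG75.SylowPrimePower
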