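import Cfsg.Agent.FG75.TransSix

/-!
Automorphisms normalising a transitive linear group over two elements and one of its Sylow
`2`-subgroups form a solvable group, given the odd order theorem.
-/

set_option autoImplicit false
set_option linter.style.haveILetI false

namespace Cfsg.Agent.FG75.TransNormaliser

open Cfsg Subgroup

universe u

variable {V : Type u} [CommGroup V] [Finite V]

/-- A transitive group has a Sylow subgroup with solvable normaliser. -/
theorem exists_sylow (hexp : ∀ v : V, v ^ 2 = 1) {n : ℕ} (hn : Nat.card V = 2 ^ n) (hn1 : 1 < n)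
    (M : Subgroup (MulAut V)) (htrans : ∀ v w : V, v ≠ 1 → w ≠ 1 → ∃ m ∈ M, m v = w) :
    ∃ (r : ℕ) (_ : Fact r.Prime) (R : Sylow r M),
      Group.IsSolvable ↥(normalizer (((R : Subgroup M).map M.subtype) : Set (MulAut V))) := by
  classical
  haveI := finite_mulAut (V := V)
  haveI : Nontrivial V :=
    Finite.one_lt_card_iff_nontrivial.1 (by rw [hn]; exact Nat.one_lt_two_pow (by omega))
  have horbit : ∀ v : V, v ≠ 1 → Nat.card (MulAction.orbit M v) = 2 ^ n - 1 := by
    intro v hv
    have h : MulAction.orbit M v = (Set.univ : Set V) \ {1} := by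
      ext w
      refine ⟨?_, fun hw => ?_⟩
      · rintro ⟨m, rfl⟩
        exact ⟨Set.mem_univ _, fun h => hv ((map_eq_one_iff _ (m : MulAut V).injective).1 h)⟩
      · obtain ⟨m, hm, e⟩ := htrans v w hv hw.2
        exact ⟨⟨m, hm⟩, e⟩
    rw [h, Nat.card_coe_set_eq, Set.ncard_sdiff (Set.singleton_subset_iff.2 (Set.mem_univ _)),
      Set.ncard_univ, Set.ncard_singleton, hn]
  obtain ⟨v₀, hv₀⟩ := exists_ne (1 : V)
  have hdvd : 2 ^ n - 1 ∣ Nat.card M := by
    rw [← horbit v₀ hv₀, Nat.card_congr (MulAction.orbitEquivQuotientStabilizer M v₀)]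
    exact Subgroup.index_dvd_card _
  by_cases h6 : n = 6
  · subst h6
    haveI : Fact (Nat.Prime 3) := ⟨Nat.prime_three⟩
    obtain ⟨R⟩ := (inferInstance : Nonempty (Sylow 3 M))
    refine ⟨3, inferInstance, R, solvable_normalizer_six hexp hn _ (R.2.map _) fun v hv => ?_⟩
    set R' := (R : Subgroup M).map M.subtype with hR'
    have hle : R' ≤ M := map_subtype_le _
    have hR'p : IsPGroup 3 R' := R.2.map _
    set St := MulAction.stabilizer (MulAut V) v
    have h63 : 63 * Nat.card ↥(R' ⊓ St : Subgroup (MulAut V)) ∣ Nat.card M := by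
      have h1 : (MulAction.stabilizer M v).index = 63 := by
        rw [index, ← Nat.card_congr (MulAction.orbitEquivQuotientStabilizer M v), horbit v hv]
        norm_num
      have h2 : Nat.card ↥(R' ⊓ St : Subgroup (MulAut V)) ∣ Nat.card (MulAction.stabilizer M v) := by
        rw [← card_map_of_injective (K := MulAction.stabilizer M v) M.subtype_injective]
        refine card_dvd_of_le fun a ha => ?_
        exact ⟨⟨a, hle ha.1⟩, ha.2, rfl⟩
      rw [← (MulAction.stabilizer M v).index_mul_card, h1]
      exact mul_dvd_mul_left _ h2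
    have hcR : Nat.card R' = 3 ^ (Nat.card M).factorization 3 := by
      rw [hR', card_map_of_injective M.subtype_injective, R.card_eq_multiplicity]
    obtain ⟨c, hc⟩ := IsPGroup.iff_card.1 (hR'p.to_le (inf_le_left : R' ⊓ St ≤ R'))
    have h9c : 9 * Nat.card ↥(R' ⊓ St : Subgroup (MulAut V)) ∣ Nat.card R' := by
      rw [hc, hcR, show 9 * 3 ^ c = 3 ^ (c + 2) by rw [pow_add]; ring]
      rw [hc] at h63
      exact (Nat.prime_three.pow_dvd_iff_dvd_ordProj Nat.card_pos.ne').1
        ((show 3 ^ (c + 2) ∣ 63 * 3 ^ c from ⟨7, by rw [pow_add]; ring⟩).trans h63)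
    have h3 : Nat.card (MulAction.stabilizer R' v) = Nat.card ↥(R' ⊓ St : Subgroup (MulAut V)) := by
      rw [← card_map_of_injective (K := MulAction.stabilizer R' v) R'.subtype_injective]
      refine congrArg (fun H : Subgroup (MulAut V) => Nat.card H) ?_
      ext a
      exact ⟨fun ⟨b, hb, e⟩ => e ▸ ⟨b.2, hb⟩, fun ha => ⟨⟨a, ha.1⟩, ha.2, rfl⟩⟩
    rw [Nat.card_congr (MulAction.orbitEquivQuotientStabilizer R' v), ← index]
    rw [← (MulAction.stabilizer R' v).index_mul_card, h3] at h9c
    exact Nat.dvd_of_mul_dvd_mul_right Nat.card_pos h9c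
  obtain ⟨r, hr⟩ := NumberTheory.exists_isPrimitivePrimeDivisor (a := 2) (n := n) (by norm_num) hn1
    (fun h => h6 h.2) (by
      rintro ⟨-, m, hm⟩
      rcases m with _ | m
      · norm_num at hm
      · rw [pow_succ] at hm; omega)
  haveI : Fact r.Prime := ⟨hr.1⟩
  obtain ⟨R⟩ := (inferInstance : Nonempty (Sylow r M))
  refine ⟨r, inferInstance, R, ?_⟩
  haveI : Nontrivial (R : Subgroup M) := (Subgroup.nontrivial_iff_ne_bot _).2
    (R.ne_bot_of_dvd_card (hr.2.1.trans hdvd))
  haveI := R.2.center_nontrivial
  obtain ⟨x, hx⟩ := exists_prime_orderOf_dvd_card' (G := center (R : Subgroup M)) r (by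
    obtain ⟨k, hk⟩ := IsPGroup.iff_card.1 (R.2.to_subgroup (center (R : Subgroup M)))
    rw [hk]
    refine dvd_pow_self r ?_
    rintro rfl
    exact Finite.one_lt_card.ne' (hk.trans (pow_zero r)))
  have hxo : orderOf ((x : (R : Subgroup M)) : MulAut V) = r := by
    rw [show ((x : (R : Subgroup M)) : MulAut V) = (M.subtype.comp (R : Subgroup M).subtype).comp
      (center (R : Subgroup M)).subtype x from rfl]
    rw [orderOf_injective _ (fun a b h => Subtype.ext (Subtype.ext (Subtype.ext h))), hx]
  refine solvable_normalizer_of_central (x := ((x : (R : Subgroup M)) : MulAut V))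
    ⟨_, (x : (R : Subgroup M)).2, rfl⟩ ?_ (irr_of_primitive hn hr hxo)
  rintro _ ⟨a, ha, rfl⟩
  refine mem_centralizer_iff.2 fun b hb => ?_
  rw [Set.mem_singleton_iff.1 hb]
  exact congrArg (fun t : (R : Subgroup M) => ((t : M) : MulAut V))
    (mem_center_iff.1 x.2 ⟨a, ha⟩).symm

/-- A group with a normal `2`-subgroup of odd index is solvable. -/
theorem solvable_of_two_normal (hFT : OddOrderGlue.FeitThompson.{u}) {K : Type u} [Group K]
    [Finite K] (N : Subgroup K) [N.Normal] (hN : IsPGroup 2 N) (hi : Odd N.index) :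
    Group.IsSolvable K := by
  haveI : Fact (Nat.Prime 2) := ⟨Nat.prime_two⟩
  haveI : Group.IsNilpotent N := hN.isNilpotent
  haveI : Group.IsSolvable (K ⧸ N) := hFT _ (by rwa [← index])
  exact Group.isSolvable_of_ker_le_range N.subtype (QuotientGroup.mk' N)
    (by rw [QuotientGroup.ker_mk', range_subtype])

/-- A group normalising a transitive group and a Sylow `2`-subgroup of it is solvable. -/
theorem solvable_stabiliser (hFT : OddOrderGlue.FeitThompson.{u}) (hexp : ∀ v : V, v ^ 2 = 1)
    (M : Subgroup (MulAut V)) (htrans : ∀ v w : V, v ≠ 1 → w ≠ 1 → ∃ m ∈ M, m v = w)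
    (T : Subgroup (MulAut V)) (hT : T ≤ M) (hT2 : IsPGroup 2 T) (hTi : Odd (T.relIndex M))
    (X : Subgroup (MulAut V)) (hXM : X ≤ normalizer (M : Set (MulAut V)))
    (hXT : X ≤ normalizer (T : Set (MulAut V))) : Group.IsSolvable X := by
  classical
  haveI := finite_mulAut (V := V)
  haveI : Fact (Nat.Prime 2) := ⟨Nat.prime_two⟩
  obtain ⟨n, hn⟩ := IsPGroup.iff_card.1 (fun v => ⟨1, by rw [pow_one]; exact hexp v⟩ : IsPGroup 2 V)
  rcases Nat.lt_or_ge 1 n with hn1 | hn1
  swap
  · haveI : Subsingleton (MulAut V) := ⟨fun a b => MulEquiv.ext fun v => by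
      have h2 : Nat.card V ≤ 2 := by
        rw [hn]
        exact (Nat.pow_le_pow_right (by norm_num) hn1).trans (by norm_num)
      rcases eq_or_ne v 1 with rfl | hv
      · simp
      · by_contra hne
        have h3 : ({1, a v, b v} : Finset V).card = 3 := Finset.card_eq_three.2
          ⟨1, a v, b v, fun h => hv ((map_eq_one_iff a a.injective).1 h.symm),
            fun h => hv ((map_eq_one_iff b b.injective).1 h.symm), hne, rfl⟩
        haveI := Fintype.ofFinite V
        have := Finset.card_le_univ ({1, a v, b v} : Finset V)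
        rw [h3, ← Nat.card_eq_fintype_card] at this
        omega⟩
    infer_instance
  obtain ⟨r, hr, R, hR⟩ := exists_sylow hexp hn hn1 M htrans
  set R' := (R : Subgroup M).map M.subtype with hR'
  set N := normalizer (M : Set (MulAut V))
  let π : N →* N ⧸ M.subgroupOf N := QuotientGroup.mk' _
  let f : X →* N ⧸ M.subgroupOf N := π.comp (inclusion hXM)
  haveI := hR
  -- the image
  haveI : Group.IsSolvable f.range := by
    haveI : Group.IsSolvable ↥((normalizer (R' : Set (MulAut V))).subgroupOf N) :=
      Group.isSolvable_of_isSolvable_injective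
        (f := (N.subtype.comp (Subgroup.subtype _)).codRestrict
          (normalizer (R' : Set (MulAut V))) fun a => a.2)
        (fun a b h => Subtype.ext (Subtype.ext
          (congrArg (fun t : ↥(normalizer (R' : Set (MulAut V))) => (t : MulAut V)) h)))
    let g := π.comp ((normalizer (R' : Set (MulAut V))).subgroupOf N).subtype
    haveI : Group.IsSolvable g.range := Group.isSolvable_of_surjective g.rangeRestrict_surjective
    have hle : f.range ≤ g.range := by
      rintro _ ⟨x, rfl⟩
      have hxM : ∀ a, a ∈ M ↔ (x : MulAut V) * a * (x : MulAut V)⁻¹ ∈ M :=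
        mem_normalizer_iff.1 (hXM x.2)
      set Q := R'.map (MulAut.conj (x : MulAut V)).toMonoidHom with hQ
      have hQM : Q ≤ M := by
        rintro _ ⟨a, ha, rfl⟩
        exact (hxM a).1 (map_subtype_le _ ha)
      have hQp : IsPGroup r (Q.subgroupOf M) :=
        ((R.2.map _).map _).of_equiv (subgroupOfEquivOfLe hQM).symm
      obtain ⟨S, hS⟩ := hQp.exists_le_sylow
      have hSe : Q.subgroupOf M = S := eq_of_le_of_card_ge hS (by
        rw [Nat.card_congr (subgroupOfEquivOfLe hQM).toEquiv, hQ,
          card_map_of_injective (MulAut.conj (x : MulAut V)).injective, hR',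
          card_map_of_injective M.subtype_injective, S.card_eq_multiplicity,
          R.card_eq_multiplicity])
      obtain ⟨m, hm⟩ := MulAction.exists_smul_eq M S R
      have hmx : (m : MulAut V) * x ∈ normalizer (R' : Set (MulAut V)) := by
        rw [mem_normalizer_iff_map_conj_eq]
        refine eq_of_le_of_card_ge ?_
          (le_of_eq (card_map_of_injective (MulAut.conj _).injective).symm)
        rintro _ ⟨a, ha, rfl⟩
        have haQ : (⟨(x : MulAut V) * a * (x : MulAut V)⁻¹, (hxM a).1 (map_subtype_le _ ha)⟩ : M) ∈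
            Q.subgroupOf M := ⟨a, ha, rfl⟩
        rw [hSe] at haQ
        refine ⟨m * ⟨_, (hxM a).1 (map_subtype_le _ ha)⟩ * m⁻¹, ?_, ?_⟩
        · have hmem := smul_mem_pointwise_smul _ (MulAut.conj m) (S : Subgroup M) haQ
          rw [← Sylow.pointwise_smul_def, ← Sylow.smul_def, hm] at hmem
          exact hmem
        · show (m : MulAut V) * ((x : MulAut V) * a * (x : MulAut V)⁻¹) * (m : MulAut V)⁻¹ =
            MulAut.conj ((m : MulAut V) * x) a
          rw [MulAut.conj_apply, _root_.mul_inv_rev]
          group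
      refine ⟨⟨⟨(m : MulAut V) * x, mul_mem (le_normalizer m.2) (hXM x.2)⟩, hmx⟩, ?_⟩
      show π (⟨(m : MulAut V), le_normalizer m.2⟩ * inclusion hXM x) = π (inclusion hXM x)
      rw [map_mul, show π ⟨(m : MulAut V), le_normalizer m.2⟩ = 1 from
        (QuotientGroup.eq_one_iff _).2 m.2, one_mul]
    exact Group.isSolvable_of_isSolvable_injective (f := inclusion hle) (inclusion_injective hle)
  -- the kernel
  haveI : Group.IsSolvable f.ker := by
    set K := M ⊓ normalizer (T : Set (MulAut V))
    have hTK : T ≤ K := le_inf hT le_normalizer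
    haveI : (T.subgroupOf K).Normal := normal_subgroupOf_iff_le_normalizer hTK |>.2 inf_le_right
    haveI : Group.IsSolvable K := solvable_of_two_normal hFT (T.subgroupOf K)
      (hT2.of_equiv (subgroupOfEquivOfLe hTK).symm)
      (hTi.of_dvd_nat (Dvd.intro _ (relIndex_mul_relIndex T K M hTK inf_le_left)))
    refine Group.isSolvable_of_isSolvable_injective
      (f := (X.subtype.comp f.ker.subtype).codRestrict K fun x => ⟨?_, hXT x.1.2⟩) ?_
    · exact (QuotientGroup.eq_one_iff (N := M.subgroupOf N) (inclusion hXM x.1)).1 x.2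
    · intro a b h
      refine Subtype.ext (Subtype.ext ?_)
      exact congrArg (fun t : K => (t : MulAut V)) h
  exact Group.isSolvable_of_ker_le_range f.ker.subtype f.rangeRestrict
    (by rw [MonoidHom.ker_rangeRestrict, range_subtype])

end Cfsg.Agent.FG75.TransNormaliser
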