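import Mathlib
import Cfsg.Agent.Lib.NumberTheory.Zsigmondy
import Cfsg.Agent.Lib.OddOrderGlue.Basic
import Cfsg.Agent.S0144

/-!
The normaliser of a transitive linear group over two elements, and of a Sylow `2`-subgroup of it,
is solvable.
-/

set_option autoImplicit false
set_option linter.style.haveILetI false

namespace Cfsg.Agent.FG75.TransNormaliser

open Cfsg Subgroup

universe u

section general

variable {V : Type u} [CommGroup V]

/-- Fixed points of an automorphism. -/
def fix (σ : MulAut V) : Subgroup V := σ.toMonoidHom.eqLocus (MonoidHom.id V)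

theorem mem_fix {σ : MulAut V} {v : V} : v ∈ fix σ ↔ σ v = v := Iff.rfl

theorem fix_invariant {σ τ : MulAut V} (h : Commute σ τ) {v : V} (hv : v ∈ fix σ) :
    τ v ∈ fix σ := by
  rw [mem_fix] at hv ⊢
  rw [← MulAut.mul_apply, h.eq, MulAut.mul_apply, hv]

/-- Only the trivial subgroups are invariant. -/
def Irr (x : MulAut V) : Prop := ∀ W : Subgroup V, (∀ w ∈ W, x w ∈ W) → W = ⊥ ∨ W = ⊤

variable [Finite V]

omit [Finite V] in
theorem finite_mulAut [Finite V] : Finite (MulAut V) :=
  Finite.of_injective _ DFunLike.coe_injective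

theorem pow_invariant (W : Subgroup V) {x : MulAut V} (h : ∀ w ∈ W, x w ∈ W) :
    ∀ a ∈ zpowers x, ∀ w ∈ W, a w ∈ W := by
  haveI := finite_mulAut (V := V)
  classical
  intro a ha w hw
  obtain ⟨n, rfl⟩ : ∃ n : ℕ, x ^ n = a := by
    rw [mem_zpowers_iff_mem_range_orderOf, Finset.mem_image] at ha
    obtain ⟨n, -, h⟩ := ha
    exact ⟨n, h⟩
  clear ha
  induction n with
  | zero => simpa using hw
  | succ n ih => rw [pow_succ', MulAut.mul_apply]; exact h _ ih

/-- A group acting freely on `W \ F` has order dividing its size. -/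
theorem card_dvd_sub (A : Subgroup (MulAut V)) (W F : Subgroup V) (hFW : F ≤ W)
    (hW : ∀ a ∈ A, ∀ w ∈ W, a w ∈ W) (hF : ∀ a ∈ A, ∀ w ∈ F, a w ∈ F)
    (hfree : ∀ a ∈ A, ∀ w ∈ W, a w = w → a ≠ 1 → w ∈ F) :
    Nat.card A ∣ Nat.card W - Nat.card F := by
  classical
  letI : MulAction A {w : V // w ∈ (W : Set V) \ (F : Set V)} :=
    { smul := fun a w => ⟨(a : MulAut V) w.1, hW a a.2 _ w.2.1, fun h => w.2.2 (by
          have := hF _ (inv_mem a.2) _ h
          rwa [MulAut.inv_apply_self] at this)⟩
      one_smul := fun _ => rfl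
      mul_smul := fun _ _ _ => rfl }
  have hst : ∀ w : {w : V // w ∈ (W : Set V) \ (F : Set V)}, MulAction.stabilizer A w = ⊥ := by
    intro w
    rw [eq_bot_iff]
    intro a ha
    rw [mem_bot]
    by_contra hne
    have ha' : (a : MulAut V) w.1 = w.1 := congrArg Subtype.val ha
    exact w.2.2 (hfree a a.2 _ w.2.1 ha' fun h => hne (Subtype.ext h))
  have h1 := Nat.card_congr (MulAction.selfEquivOrbitsQuotientProd hst)
  rw [Nat.card_prod, Nat.card_coe_set_eq, Set.ncard_sdiff (show (F : Set V) ⊆ W from hFW)] at h1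
  rw [← Nat.card_coe_set_eq, ← Nat.card_coe_set_eq] at h1
  exact Dvd.intro_left _ h1.symm

variable {n : ℕ}

theorem exists_card (hn : Nat.card V = 2 ^ n) (W : Subgroup V) :
    ∃ k ≤ n, Nat.card W = 2 ^ k ∧ (k = n → W = ⊤) ∧ (k = 0 → W = ⊥) := by
  obtain ⟨k, hk, hk'⟩ := (Nat.dvd_prime_pow Nat.prime_two).1 (hn ▸ W.card_subgroup_dvd_card)
  refine ⟨k, hk, hk', fun h => Subgroup.eq_top_of_card_eq _ (by rw [hk', h, hn]),
    fun h => Subgroup.card_eq_one.1 (by rw [hk', h, pow_zero])⟩

/-- An element all of whose non-trivial powers are fixed-point-free is irreducible as soon as its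
order divides no smaller `2 ^ k - 1`. -/
theorem irr_of_free (hn : Nat.card V = 2 ^ n) {x : MulAut V}
    (hfree : ∀ a ∈ zpowers x, a ≠ 1 → fix a = ⊥)
    (hnd : ∀ k, 0 < k → k < n → ¬ orderOf x ∣ 2 ^ k - 1) : Irr x := by
  haveI := finite_mulAut (V := V)
  intro W hW
  obtain ⟨k, hkn, hk, hktop, hkbot⟩ := exists_card hn W
  rcases Nat.eq_zero_or_pos k with h0 | h0
  · exact Or.inl (hkbot h0)
  rcases hkn.lt_or_eq with hlt | heq
  · exfalso
    refine hnd k h0 hlt ?_
    have h := card_dvd_sub (zpowers x) W ⊥ bot_le (pow_invariant W hW)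
      (fun a _ w hw => by rw [mem_bot.1 hw, map_one]; exact one_mem _)
      (fun a ha w _ hw hne => hfree a ha hne ▸ hw)
    rwa [Nat.card_zpowers, hk, card_bot] at h
  · exact Or.inr (hktop heq)

/-- An element of primitive prime order is irreducible. -/
theorem irr_of_primitive (hn : Nat.card V = 2 ^ n) {r : ℕ}
    (hr : NumberTheory.IsPrimitivePrimeDivisor r 2 n) {x : MulAut V} (hx : orderOf x = r) :
    Irr x := by
  haveI := finite_mulAut (V := V)
  haveI : Fact r.Prime := ⟨hr.1⟩
  have hgen : ∀ a ∈ zpowers x, a ≠ 1 → zpowers a = zpowers x := fun a ha hne =>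
    eq_of_le_of_card_ge (zpowers_le.2 ha) (by
      rw [Nat.card_zpowers, Nat.card_zpowers, hx]
      have hd : orderOf a ∣ r := by
        rw [← hx, ← Nat.card_zpowers x, ← Subgroup.orderOf_mk a ha]
        exact orderOf_dvd_natCard _
      rcases (Nat.dvd_prime hr.1).1 hd with h | h
      · exact absurd (orderOf_eq_one_iff.1 h) hne
      · exact h.ge)
  have hfix : ∀ a ∈ zpowers x, a ≠ 1 → fix a = fix x := by
    intro a ha hne
    ext v
    have key : ∀ b c : MulAut V, c ∈ zpowers b → b v = v → c v = v := by
      intro b c hc hb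
      have : zpowers b ≤ MulAction.stabilizer (MulAut V) v := zpowers_le.2 hb
      exact this hc
    exact ⟨key a x (by rw [hgen a ha hne]; exact mem_zpowers x), key x a ha⟩
  have hF : fix x = ⊥ := by
    obtain ⟨k, hkn, hk, hktop, hkbot⟩ := exists_card hn (fix x)
    have h := card_dvd_sub (zpowers x) ⊤ (fix x) le_top (fun _ _ _ _ => mem_top _)
      (pow_invariant _ fun w hw => by rw [mem_fix.1 hw]; exact hw)
      (fun a ha w _ hw hne => hfix a ha hne ▸ hw)
    rw [Nat.card_zpowers, hx, card_top, hn, hk] at h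
    have h1 : r ∣ 2 ^ k - 1 := by
      have h2 := Nat.dvd_sub hr.2.1 h
      rwa [show 2 ^ n - 1 - (2 ^ n - 2 ^ k) = 2 ^ k - 1 by
        have := Nat.one_le_two_pow (n := k)
        have := Nat.pow_le_pow_right (show 0 < 2 by norm_num) hkn
        omega] at h2
    rcases Nat.eq_zero_or_pos k with h0 | h0
    · exact hkbot h0
    rcases hkn.lt_or_eq with hlt | heq
    · exact absurd h1 (hr.2.2 k h0 hlt)
    · exfalso
      have hx1 : x = 1 := MulEquiv.ext fun v => mem_fix.1 (hktop heq ▸ mem_top v)
      rw [hx1, orderOf_one] at hx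
      exact hr.1.one_lt.ne hx
  exact irr_of_free hn (fun a ha hne => (hfix a ha hne).trans hF) (hx ▸ hr.2.2)

/-- The endomorphism of `Additive V` of an automorphism. -/
def toEnd : MulAut V →* AddMonoid.End (Additive V) where
  toFun σ := MonoidHom.toAdditive σ.toMonoidHom
  map_one' := rfl
  map_mul' _ _ := rfl

omit [Finite V] in
theorem toEnd_apply (σ : MulAut V) (v : V) :
    toEnd σ (Additive.ofMul v) = Additive.ofMul (σ v) := rfl

/-- The centraliser of an irreducible automorphism is cyclic. -/
theorem isCyclic_centralizer [Nontrivial V] {x : MulAut V} (hx : Irr x) :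
    IsCyclic ↥(centralizer ({x} : Set (MulAut V))) := by
  haveI := finite_mulAut (V := V)
  let C := Subring.centralizer ({toEnd x} : Set (AddMonoid.End (Additive V)))
  haveI : Finite (AddMonoid.End (Additive V)) := Finite.of_injective _ DFunLike.coe_injective
  haveI : Finite C := inferInstance
  haveI : Nontrivial C := by
    obtain ⟨v, hv⟩ := exists_ne (1 : V)
    exact ⟨0, 1, fun h => hv (congrArg Additive.toMul
      (DFunLike.congr_fun (congrArg Subtype.val h) (Additive.ofMul v))).symm⟩
  haveI : NoZeroDivisors C := ⟨fun {f g} hfg => by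
    rcases eq_or_ne g 0 with hg | hg
    · exact Or.inr hg
    refine Or.inl (Subtype.ext (AddMonoidHom.ext fun w => ?_))
    let W : Subgroup V := AddSubgroup.toSubgroup' (AddMonoidHom.range (g : AddMonoid.End (Additive V)))
    have hW : ∀ w ∈ W, x w ∈ W := by
      rintro w ⟨u, hu⟩
      refine ⟨toEnd x u, ?_⟩
      have hc : toEnd x * (g : AddMonoid.End (Additive V)) = g * toEnd x :=
        Subring.mem_centralizer_iff.1 g.2 _ rfl
      exact (DFunLike.congr_fun hc u).symm.trans (congrArg (toEnd x) hu)
    have hWt : W = ⊤ := (hx W hW).resolve_left fun hb => hg (Subtype.ext (AddMonoidHom.ext fun u => by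
      have : Additive.toMul ((g : AddMonoid.End (Additive V)) u) ∈ W := ⟨u, rfl⟩
      rw [hb, mem_bot] at this
      exact Additive.toMul.injective this))
    have hw : Additive.toMul w ∈ W := hWt ▸ mem_top _
    obtain ⟨u, hu⟩ := hw
    exact (congrArg _ hu.symm).trans (DFunLike.congr_fun (congrArg Subtype.val hfg) u)⟩
  haveI : IsDomain C := NoZeroDivisors.to_isDomain C
  letI := (Finite.isDomain_to_isField C).toField
  let e : ↥(centralizer ({x} : Set (MulAut V))) →* C :=
    { toFun := fun σ => ⟨toEnd (σ : MulAut V), Subring.mem_centralizer_iff.2 fun a ha => by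
        rw [Set.mem_singleton_iff.1 ha, ← map_mul, ← map_mul,
          mem_centralizer_iff.1 σ.2 x rfl]⟩
      map_one' := rfl
      map_mul' := fun _ _ => rfl }
  refine isCyclic_of_subgroup_isDomain e fun a b h => Subtype.ext (MulEquiv.ext fun v => ?_)
  exact congrArg Additive.toMul (DFunLike.congr_fun (congrArg Subtype.val h) (Additive.ofMul v))

/-- The normaliser of an irreducible cyclic group is solvable. -/
theorem solvable_normalizer_zpowers [Nontrivial V] {x : MulAut V} (hx : Irr x) :
    Group.IsSolvable ↥(normalizer (zpowers x : Set (MulAut V))) := by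
  haveI := finite_mulAut (V := V)
  haveI := isCyclic_centralizer hx
  letI : CommGroup ↥(centralizer ({x} : Set (MulAut V))) := IsCyclic.commGroup
  haveI : IsCyclic ↥(zpowers x) := isCyclic_zpowers x
  haveI : Group.IsSolvable (MulAut ↥(zpowers x)) :=
    Group.isSolvable_of_surjective (f := (IsCyclic.mulAutMulEquiv ↥(zpowers x)).symm.toMonoidHom)
      (IsCyclic.mulAutMulEquiv ↥(zpowers x)).symm.surjective
  haveI : Group.IsSolvable ↥(zpowers x).normalizerMonoidHom.ker := by
    refine Group.isSolvable_of_isSolvable_injective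
      (f := ((normalizer (zpowers x : Set (MulAut V))).subtype.comp
        (zpowers x).normalizerMonoidHom.ker.subtype).codRestrict
          (centralizer ({x} : Set (MulAut V))) ?_) ?_
    · rintro ⟨⟨a, ha⟩, hk⟩
      rw [normalizerMonoidHom_ker, mem_subgroupOf] at hk
      exact mem_centralizer_iff.2 fun b hb => by
        rw [Set.mem_singleton_iff.1 hb]
        exact mem_centralizer_iff.1 hk x (mem_zpowers x)
    · intro a b h
      refine Subtype.ext (Subtype.ext ?_)
      exact congrArg (fun t : ↥(centralizer ({x} : Set (MulAut V))) => (t : MulAut V)) h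
  exact Group.isSolvable_of_ker_le_range (zpowers x).normalizerMonoidHom.ker.subtype
    (zpowers x).normalizerMonoidHom (by rw [range_subtype])

/-- A group centralising an irreducible element of its own has solvable normaliser. -/
theorem solvable_normalizer_of_central [Nontrivial V] {R : Subgroup (MulAut V)} {x : MulAut V}
    (hxR : x ∈ R) (hc : R ≤ centralizer ({x} : Set (MulAut V))) (hx : Irr x) :
    Group.IsSolvable ↥(normalizer (R : Set (MulAut V))) := by
  classical
  haveI := finite_mulAut (V := V)
  haveI := isCyclic_centralizer hx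
  haveI := solvable_normalizer_zpowers hx
  have hmem : ∀ y ∈ R, y ^ orderOf x = 1 → y ∈ zpowers x := by
    intro y hy hy1
    set C := centralizer ({x} : Set (MulAut V))
    haveI := Fintype.ofFinite C
    let x' : C := ⟨x, hc hxR⟩
    have hsub : (Finset.univ.filter fun c : C => c ∈ zpowers x') ⊆
        Finset.univ.filter fun c : C => c ^ orderOf x = 1 := by
      intro c hc'
      simp only [Finset.mem_filter, Finset.mem_univ, true_and] at hc' ⊢
      obtain ⟨i, rfl⟩ := hc'
      have : x' ^ orderOf x = 1 := Subtype.ext (pow_orderOf_eq_one x)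
      rw [← zpow_natCast, ← zpow_mul, mul_comm, zpow_mul, zpow_natCast, this, one_zpow]
    have heq := Finset.eq_of_subset_of_card_le hsub (by
      refine (IsCyclic.card_pow_eq_one_le (orderOf_pos x)).trans ?_
      rw [← Fintype.card_subtype, ← Nat.card_eq_fintype_card]
      change orderOf x ≤ Nat.card (zpowers x')
      rw [Nat.card_zpowers, Subgroup.orderOf_mk])
    have : (⟨y, hc hy⟩ : C) ∈ Finset.univ.filter fun c : C => c ∈ zpowers x' := by
      rw [heq]
      simp only [Finset.mem_filter, Finset.mem_univ, true_and]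
      exact Subtype.ext hy1
    simp only [Finset.mem_filter, Finset.mem_univ, true_and] at this
    obtain ⟨i, hi⟩ := this
    exact ⟨i, congrArg Subtype.val hi⟩
  have hle : normalizer (R : Set (MulAut V)) ≤ normalizer (zpowers x : Set (MulAut V)) := by
    intro g hg
    rw [mem_normalizer_iff_map_conj_eq]
    refine eq_of_le_of_card_ge ?_ (le_of_eq (card_map_of_injective (MulAut.conj g).injective).symm)
    rw [MonoidHom.map_zpowers, zpowers_le]
    refine hmem _ ((mem_normalizer_iff.1 hg x).1 hxR) ?_
    rw [← map_pow, pow_orderOf_eq_one, map_one]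
  exact Group.isSolvable_of_isSolvable_injective (f := inclusion hle) (inclusion_injective hle)

end general

end Cfsg.Agent.FG75.TransNormaliser
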