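import Cfsg.Agent.FG75.TransNormaliser
import Cfsg.Agent.TwoLenInv.Anisotropic

/-!
The exceptional dimension six: the normaliser of a `3`-group all of whose orbits on the non-trivial
vectors have length divisible by `9` is solvable.
-/

set_option autoImplicit false
set_option linter.style.haveILetI false

namespace Cfsg.Agent.FG75.TransNormaliser

open Cfsg Subgroup

universe u

variable {V : Type u} [CommGroup V] [Finite V]

/-- The number of points is divisible by a common divisor of all orbit lengths. -/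
theorem dvd_card_of_orbits {A α : Type*} [Group A] [Finite α] [MulAction A α] {d : ℕ}
    (h : ∀ a : α, d ∣ Nat.card (MulAction.orbit A a)) : d ∣ Nat.card α := by
  classical
  rw [Nat.card_congr (MulAction.selfEquivSigmaOrbits A α)]
  haveI := Fintype.ofFinite (Quotient (MulAction.orbitRel A α))
  rw [Nat.card_sigma]
  exact Finset.dvd_sum fun ω _ => h ω.out

/-- `MulAut V` embeds into the matrix group. -/
theorem card_mulAut_dvd (hexp : ∀ v : V, v ^ 2 = 1) {n : ℕ} (hn : Nat.card V = 2 ^ n) :
    Nat.card (MulAut V) ∣ ∏ i : Fin n, (2 ^ n - 2 ^ (i : ℕ)) := by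
  classical
  letI : Module (ZMod 2) (Additive V) := AddCommGroup.zmodModule fun w => by
    rw [← ofMul_toMul w, ← ofMul_pow, hexp, ofMul_one]
  have hfr : Module.finrank (ZMod 2) (Additive V) = n := by
    have h := Module.natCard_eq_pow_finrank (K := ZMod 2) (V := Additive V)
    rw [Nat.card_zmod, show Nat.card (Additive V) = Nat.card V from rfl, hn] at h
    exact (Nat.pow_right_injective le_rfl h).symm
  let b := Module.finBasisOfFinrankEq (ZMod 2) (Additive V) hfr
  let g : MulAut V →* Module.End (ZMod 2) (Additive V) :=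
    { toFun := fun σ => AddMonoidHom.toZModLinearMap 2 (toEnd σ)
      map_one' := LinearMap.ext fun _ => rfl
      map_mul' := fun σ τ => LinearMap.ext fun _ => rfl }
  let f : MulAut V →* Matrix (Fin n) (Fin n) (ZMod 2) :=
    (LinearMap.toMatrixAlgEquiv b).toAlgHom.toMonoidHom.comp g
  have hinj : Function.Injective f.toHomUnits := fun σ τ h => MulEquiv.ext fun v => by
    have h1 := (LinearMap.toMatrixAlgEquiv b).injective (congrArg Units.val h)
    exact congrArg Additive.toMul (DFunLike.congr_fun h1 (Additive.ofMul v))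
  have h := card_dvd_of_injective f.toHomUnits hinj
  rw [Matrix.card_GL_field] at h
  simpa [ZMod.card] using h

omit [Finite V] in
theorem prime_list {q : ℕ} (hq : q.Prime) (h : q ∣ 20158709760) (h2 : q ≠ 2) (h3 : q ≠ 3) :
    q = 5 ∨ q = 7 ∨ q = 31 := by
  rw [show (20158709760 : ℕ) = 2 ^ 15 * 3 ^ 4 * 5 * 7 ^ 2 * 31 by norm_num] at h
  have e : ∀ {p : ℕ}, p.Prime → ∀ {k : ℕ}, q ∣ p ^ k → q = p := fun hp _ hd =>
    (Nat.prime_dvd_prime_iff_eq hq hp).1 (hq.dvd_of_dvd_pow hd)
  rcases hq.dvd_mul.1 h with h | h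
  · rcases hq.dvd_mul.1 h with h | h
    · rcases hq.dvd_mul.1 h with h | h
      · rcases hq.dvd_mul.1 h with h | h
        · exact absurd (e Nat.prime_two h) h2
        · exact absurd (e Nat.prime_three h) h3
      · exact Or.inl ((Nat.prime_dvd_prime_iff_eq hq (by norm_num)).1 h)
    · exact Or.inr (Or.inl (e (by norm_num) h))
  · exact Or.inr (Or.inr ((Nat.prime_dvd_prime_iff_eq hq (by norm_num)).1 h))

omit [Finite V] in
/-- Fixed points of a `q`-automorphism in an invariant subgroup. -/
theorem modEq_fix {P : Type*} [Group P] [Finite P] {q : ℕ} [Fact q.Prime] {σ : MulAut P} {a : ℕ}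
    (hσ : σ ^ q ^ a = 1) (W : Subgroup P) (hW : ∀ w, σ w ∈ W ↔ w ∈ W) :
    Nat.card W ≡ Nat.card ↥(W ⊓ σ.toMonoidHom.eqLocus (MonoidHom.id P)) [MOD q] := by
  classical
  haveI : Finite (MulAut P) := Finite.of_injective _ DFunLike.coe_injective
  have hinv : ∀ t ∈ zpowers σ, ∀ w ∈ W, t w ∈ W := by
    intro t ht
    obtain ⟨i, rfl⟩ : ∃ i : ℕ, σ ^ i = t := by
      rw [mem_zpowers_iff_mem_range_orderOf, Finset.mem_image] at ht
      obtain ⟨i, -, h⟩ := ht
      exact ⟨i, h⟩
    clear ht
    intro w hw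
    induction i with
    | zero => simpa using hw
    | succ i ih => rw [pow_succ', MulAut.mul_apply]; exact (hW _).2 ih
  letI : MulAction (zpowers σ) W :=
    { smul := fun t w => ⟨(t : MulAut P) w.1, hinv t t.2 _ w.2⟩
      one_smul := fun _ => rfl
      mul_smul := fun _ _ _ => rfl }
  have hp : IsPGroup q (zpowers σ) := by
    obtain ⟨b, -, hb⟩ := (Nat.dvd_prime_pow (Fact.out (p := q.Prime))).1
      (orderOf_dvd_of_pow_eq_one hσ)
    exact IsPGroup.of_card (n := b) (by rw [Nat.card_zpowers, hb])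
  refine (hp.card_modEq_card_fixedPoints W).trans (congrArg (· % q) (Nat.card_congr ?_))
  refine
    { toFun := fun w => ⟨(w.1 : P), w.1.2, ?_⟩
      invFun := fun w => ⟨⟨(w : P), w.2.1⟩, fun t => Subtype.ext ?_⟩
      left_inv := fun w => rfl
      right_inv := fun w => rfl }
  · exact congrArg Subtype.val (w.2 ⟨σ, mem_zpowers σ⟩)
  · have : zpowers σ ≤ MulAction.stabilizer (MulAut P) (w : P) := zpowers_le.2 w.2.2
    exact this t.2

omit [Finite V] in
/-- A `q`-automorphism of a small `3`-group is trivial. -/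
theorem aut_three_eq_one {P : Type*} [Group P] [Finite P] (hP : IsPGroup 3 P)
    (h81 : Nat.card P ∣ 81)
    (hel : ¬ (Nat.card P = 81 ∧ (∀ a b : P, a * b = b * a) ∧ ∀ a : P, a ^ 3 = 1))
    {q : ℕ} [Fact q.Prime] (hq : q = 5 ∨ q = 7 ∨ q = 31) {σ : MulAut P} {a : ℕ}
    (hσ : σ ^ q ^ a = 1) : σ = 1 := by
  classical
  haveI : Fact (Nat.Prime 3) := ⟨Nat.prime_three⟩
  have hexists : ∀ W : Subgroup P, ∃ i ≤ 4, Nat.card W = 3 ^ i := fun W =>
    (Nat.dvd_prime_pow Nat.prime_three).1
      ((W.card_subgroup_dvd_card.trans h81).trans (dvd_of_eq (by norm_num)))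
  have htab : ∀ i ≤ 4, ∀ j ≤ i, (3 ^ i) % q = (3 ^ j) % q → i = j ∨ (i = 4 ∧ j = 0) := by
    intro i hi j hj
    rcases hq with rfl | rfl | rfl <;> interval_cases i <;> interval_cases j <;> norm_num
  set F := σ.toMonoidHom.eqLocus (MonoidHom.id P) with hFdef
  have hcase : ∀ W : Subgroup P, (∀ w, σ w ∈ W ↔ w ∈ W) → W ≤ F ∨ (Nat.card W = 81 ∧ W ⊓ F = ⊥) := by
    intro W hW
    obtain ⟨i, hi, hWi⟩ := hexists W
    obtain ⟨j, -, hFj⟩ := hexists (W ⊓ F)
    have hji : j ≤ i := by
      have := card_le_of_le (inf_le_left : W ⊓ F ≤ W)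
      rw [hFj, hWi] at this
      exact (Nat.pow_le_pow_iff_right (by norm_num)).1 this
    have h := modEq_fix hσ W hW
    rw [hWi, ← hFdef, hFj] at h
    rcases htab i hi j hji h with rfl | ⟨rfl, rfl⟩
    · left
      have := eq_of_le_of_card_ge (inf_le_left : W ⊓ F ≤ W) (by rw [hFj, hWi])
      exact this ▸ inf_le_right
    · exact Or.inr ⟨hWi.trans (by norm_num), card_eq_one.1 (hFj.trans (pow_zero 3))⟩
  by_contra hne
  obtain ⟨h4, hbot⟩ := (hcase ⊤ fun w => iff_of_true (mem_top _) (mem_top _)).resolve_left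
    fun h => hne (MulEquiv.ext fun w => h (mem_top w))
  rw [card_top] at h4
  rw [top_inf_eq] at hbot
  haveI : Nontrivial P := Finite.one_lt_card_iff_nontrivial.1 (by omega)
  have hbig : ∀ W : Subgroup P, W ≠ ⊥ → (∀ w, σ w ∈ W ↔ w ∈ W) → W = ⊤ := by
    intro W hW hWi
    rcases hcase W hWi with h | ⟨h, -⟩
    · exact absurd (le_bot_iff.1 (h.trans hbot.le)) hW
    · exact eq_top_of_card_eq _ (by rw [h, h4])
  have hc : ∀ a b : P, a * b = b * a := by
    have hZ := hbig (center P) (fun h => by
      have := hP.center_nontrivial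
      exact (Subgroup.nontrivial_iff_ne_bot _).1 this h) fun w => by
      have h := Subgroup.characteristic_iff_comap_eq.1 (inferInstance : (center P).Characteristic) σ
      exact Iff.trans (Iff.rfl) (SetLike.ext_iff.1 h w)
    intro a b
    exact (mem_center_iff.1 (hZ ▸ mem_top a : a ∈ center P) b).symm
  let K : Subgroup P :=
    { carrier := {w | w ^ 3 = 1}
      one_mem' := one_pow _
      mul_mem' := fun {a b} ha hb => by
        show (a * b) ^ 3 = 1
        rw [(show Commute a b from hc a b).mul_pow, ha, hb, one_mul]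
      inv_mem' := fun {a} ha => by
        show a⁻¹ ^ 3 = 1
        rw [inv_pow, ha, inv_one] }
  have hK : K = ⊤ := hbig K (fun h => by
    obtain ⟨w, hw⟩ := exists_prime_orderOf_dvd_card' (G := P) 3 (by omega)
    have h1 : w ∈ K := by show w ^ 3 = 1; rw [← hw, pow_orderOf_eq_one]
    rw [h, mem_bot] at h1
    rw [h1, orderOf_one] at hw
    omega) fun w => by
      show (σ w) ^ 3 = 1 ↔ w ^ 3 = 1
      rw [← map_pow, map_eq_one_iff σ σ.injective]
  exact hel ⟨h4, hc, fun a => (hK ▸ mem_top a : a ∈ K)⟩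

omit [Finite V] in
/-- A fixed-point-free element of order three sums orbits to one. -/
theorem tri {a : MulAut V} (ha3 : a ^ 3 = 1) (hfree : fix a = ⊥) (u : V) :
    u * a u * a (a u) = 1 := by
  have h : u * a u * a (a u) ∈ fix a := by
    rw [mem_fix, map_mul, map_mul,
      show a (a (a u)) = u from DFunLike.congr_fun ((pow_three a).symm.trans ha3) u]
    ac_rfl
  rwa [hfree, mem_bot] at h

/-- The exceptional case. -/
theorem solvable_normalizer_six (hexp : ∀ v : V, v ^ 2 = 1) (hn : Nat.card V = 2 ^ 6)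
    (R : Subgroup (MulAut V)) (hR : IsPGroup 3 R)
    (horb : ∀ v : V, v ≠ 1 → 9 ∣ Nat.card (MulAction.orbit R v)) :
    Group.IsSolvable ↥(normalizer (R : Set (MulAut V))) := by
  classical
  haveI := finite_mulAut (V := V)
  haveI : Fact (Nat.Prime 3) := ⟨Nat.prime_three⟩
  haveI : Nontrivial V := Finite.one_lt_card_iff_nontrivial.1 (by rw [hn]; norm_num)
  have hGL : Nat.card (MulAut V) ∣ 20158709760 := by
    have h := card_mulAut_dvd hexp hn
    simp only [Fin.prod_univ_six] at h
    norm_num at h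
    exact h
  have h81 : Nat.card R ∣ 81 := by
    obtain ⟨i, hi⟩ := IsPGroup.iff_card.1 hR
    rw [hi]
    have hd : 3 ^ i ∣ 20158709760 := hi ▸ R.card_subgroup_dvd_card.trans hGL
    rw [show (81 : ℕ) = 3 ^ 4 by norm_num]
    refine Nat.pow_dvd_pow 3 ?_
    by_contra hlt
    have := (Nat.pow_dvd_pow 3 (show 5 ≤ i by omega)).trans hd
    norm_num at this
  obtain ⟨v₀, hv₀⟩ := exists_ne (1 : V)
  have h9 : 9 ∣ Nat.card R := (horb v₀ hv₀).trans (by
    rw [Nat.card_congr (MulAction.orbitEquivQuotientStabilizer R v₀)]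
    exact Subgroup.index_dvd_card _)
  have hel : ¬ (Nat.card R = 81 ∧ (∀ a b : R, a * b = b * a) ∧ ∀ a : R, a ^ 3 = 1) := by
    rintro ⟨hc, hab, h3⟩
    letI : CommGroup R := { (inferInstance : Group R) with mul_comm := hab }
    have h := TwoLenInv.four_pow_le Nat.prime_three (by norm_num) 4 hexp h3
      (hc.trans (by norm_num)) R.subtype R.subtype_injective
    rw [hn] at h
    norm_num at h
  -- `q`-elements centralise `R`
  have hA : ∀ (q : ℕ), q.Prime → q ≠ 2 → q ≠ 3 → ∀ (h : ↥(normalizer (R : Set (MulAut V)))) (a : ℕ),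
      h ^ q ^ a = 1 → a ≠ 0 → (q = 5 ∨ q = 7 ∨ q = 31 ∨ h = 1) ∧ R.normalizerMonoidHom h = 1 := by
    intro q hq h2 h3 h a ha ha0
    haveI := Fact.mk hq
    rcases eq_or_ne h 1 with rfl | hne
    · exact ⟨Or.inr (Or.inr (Or.inr rfl)), map_one _⟩
    have hl := prime_list hq ((show q ∣ Nat.card (MulAut V) by
      obtain ⟨b, -, hb⟩ := (Nat.dvd_prime_pow hq).1 (orderOf_dvd_of_pow_eq_one ha)
      have hb0 : b ≠ 0 := by
        rintro rfl
        exact hne (orderOf_eq_one_iff.1 (hb.trans (pow_zero q)))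
      refine ((dvd_pow_self q hb0).trans (hb.symm.dvd.trans ?_))
      rw [← Subgroup.orderOf_coe]
      exact orderOf_dvd_natCard _).trans hGL) h2 h3
    refine ⟨by tauto, aut_three_eq_one hR h81 hel hl (a := a) ?_⟩
    rw [← map_pow, ha, map_one]
  by_cases hz : ∃ z ∈ R, orderOf z = 9
  · obtain ⟨z, hzR, hz⟩ := hz
    have hz3 : z ^ 3 ≠ 1 := fun h => by
      have := orderOf_dvd_of_pow_eq_one h
      rw [hz] at this
      norm_num at this
    have hfix : ∀ b ∈ zpowers z, b ≠ 1 → fix b ≤ fix (z ^ 3) := by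
      intro b hb hb1
      rw [mem_zpowers_iff_mem_range_orderOf, Finset.mem_image, hz] at hb
      obtain ⟨i, hi, rfl⟩ := hb
      rw [Finset.mem_range] at hi
      have hi0 : i ≠ 0 := fun h => hb1 (by rw [h, pow_zero])
      obtain ⟨j, hj⟩ : ∃ j : Fin 9, i * (j : ℕ) % 9 = 3 := by
        interval_cases i
        all_goals first
          | exact absurd rfl hi0
          | decide
      intro v hv
      have hs : zpowers (z ^ i) ≤ MulAction.stabilizer (MulAut V) v := zpowers_le.2 hv
      have he : (z ^ i) ^ (j : ℕ) = z ^ 3 := by rw [← pow_mul, ← pow_mod_orderOf, hz, hj]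
      exact hs (he ▸ pow_mem (mem_zpowers _) _)
    have hF : fix (z ^ 3) = ⊥ := by
      obtain ⟨k, hkn, hk, hktop, hkbot⟩ := exists_card hn (fix (z ^ 3))
      have h := card_dvd_sub (zpowers z) ⊤ (fix (z ^ 3)) le_top (fun _ _ _ _ => mem_top _)
        (pow_invariant _ fun w hw => fix_invariant (Commute.pow_self z 3) hw)
        (fun b hb w _ hw hne => hfix b hb hne hw)
      rw [Nat.card_zpowers, hz, card_top, hn, hk] at h
      refine hkbot ?_
      by_contra hk0
      interval_cases k
      all_goals first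
        | (norm_num at h; done)
        | exact hk0 rfl
        | exact hz3 (MulEquiv.ext fun v => mem_fix.1 (hktop rfl ▸ mem_top v))
    have hirr : Irr z := irr_of_free hn (fun b hb hne => le_bot_iff.1 ((hfix b hb hne).trans hF.le))
      fun k hk hk6 h => by rw [hz] at h; interval_cases k <;> norm_num at h
    haveI := isCyclic_centralizer hirr
    letI : CommGroup ↥(centralizer ({z} : Set (MulAut V))) := IsCyclic.commGroup
    haveI : Group.IsSolvable ↥R.normalizerMonoidHom.ker := by
      refine Group.isSolvable_of_isSolvable_injective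
        (f := ((normalizer (R : Set (MulAut V))).subtype.comp
          R.normalizerMonoidHom.ker.subtype).codRestrict
            (centralizer ({z} : Set (MulAut V))) ?_) ?_
      · rintro ⟨⟨b, hb⟩, hk⟩
        rw [normalizerMonoidHom_ker, mem_subgroupOf] at hk
        exact mem_centralizer_iff.2 fun c hc => by
          rw [Set.mem_singleton_iff.1 hc]
          exact mem_centralizer_iff.1 hk z hzR
      · intro b c h
        refine Subtype.ext (Subtype.ext ?_)
        exact congrArg (fun t : ↥(centralizer ({z} : Set (MulAut V))) => (t : MulAut V)) h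
    have hprimes : ∀ q : ℕ, q.Prime → q ∣ Nat.card ↥R.normalizerMonoidHom.range → q = 2 ∨ q = 3 := by
      intro q hq hqd
      by_contra hcon
      push Not at hcon
      haveI := Fact.mk hq
      obtain ⟨⟨_, g, rfl⟩, hg⟩ := exists_prime_orderOf_dvd_card' _ hqd
      rw [← Subgroup.orderOf_coe] at hg
      obtain ⟨a, m, hm, ho⟩ := Nat.exists_eq_pow_mul_and_not_dvd (orderOf_pos g).ne' q hq.ne_one
      have ha0 : a ≠ 0 := by
        rintro rfl
        rw [pow_zero, one_mul] at ho
        exact hm (ho ▸ hg ▸ orderOf_map_dvd R.normalizerMonoidHom g)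
      have h1 := (hA q hq hcon.1 hcon.2 (g ^ m) a (by
        rw [← pow_mul, mul_comm, ← ho, pow_orderOf_eq_one]) ha0).2
      rw [map_pow] at h1
      exact hm (hg ▸ orderOf_dvd_of_pow_eq_one h1)
    haveI : Group.IsSolvable ↥R.normalizerMonoidHom.range := by
      obtain ⟨a, m, hm, ho⟩ := Nat.exists_eq_pow_mul_and_not_dvd
        (Nat.card_pos (α := ↥R.normalizerMonoidHom.range)).ne' 2 (by norm_num)
      have hm0 : m ≠ 0 := by rintro rfl; exact hm (dvd_zero 2)
      have hmp := Nat.eq_prime_pow_of_unique_prime_dvd hm0 (p := 3) fun {q} hq hqd =>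
        (hprimes q hq (ho ▸ dvd_mul_of_dvd_right hqd _)).resolve_left fun e => hm (e ▸ hqd)
      exact S0144.result 2 3 a _ Nat.prime_two Nat.prime_three (ho.trans (congrArg _ hmp))
    exact Group.isSolvable_of_ker_le_range R.normalizerMonoidHom.ker.subtype
      R.normalizerMonoidHom.rangeRestrict (by rw [MonoidHom.ker_rangeRestrict, range_subtype])
  push Not at hz
  have hexp3 : ∀ y ∈ R, y ^ 3 = 1 := by
    intro y hy
    have hd : orderOf y ∣ 81 := ((Subgroup.orderOf_mk y hy).symm.dvd.trans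
      (orderOf_dvd_natCard _)).trans h81
    obtain ⟨i, hi, hi'⟩ := (Nat.dvd_prime_pow Nat.prime_three).1
      (hd.trans (dvd_of_eq (show (81 : ℕ) = 3 ^ 4 by norm_num)))
    rcases Nat.lt_or_ge i 2 with hlt | hge
    · exact orderOf_dvd_iff_pow_eq_one.1 (hi' ▸ (Nat.pow_dvd_pow 3 (show i ≤ 1 by omega)).trans
        (dvd_of_eq (pow_one 3)))
    · exfalso
      refine hz (y ^ 3 ^ (i - 2)) (pow_mem hy _) ?_
      rw [orderOf_pow, hi', Nat.gcd_eq_right (Nat.pow_dvd_pow 3 (Nat.sub_le i 2)),
        Nat.pow_div (Nat.sub_le i 2) (by norm_num)]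
      rw [show i - (i - 2) = 2 by omega]
  -- an element with fixed points
  have hy : ∃ y ∈ R, y ≠ 1 ∧ fix y ≠ ⊥ := by
    by_contra hall
    push Not at hall
    haveI : Nontrivial R := Finite.one_lt_card_iff_nontrivial.1
      (by have := Nat.le_of_dvd Nat.card_pos h9; omega)
    obtain ⟨⟨z, hzc⟩, hz1⟩ := (hR.center_nontrivial).exists_pair_ne.elim fun a h =>
      h.elim fun b hne => show ∃ t : center R, t ≠ 1 from
        if ha : a = 1 then ⟨b, fun hb => hne (ha.trans hb.symm)⟩ else ⟨a, ha⟩
    have hz1' : (z : MulAut V) ≠ 1 := fun h => hz1 (Subtype.ext (Subtype.ext h))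
    obtain ⟨y, hyR, hyn⟩ : ∃ y ∈ R, y ∉ zpowers (z : MulAut V) := by
      by_contra h
      push Not at h
      have h2 := card_le_of_le (show R ≤ zpowers (z : MulAut V) from h)
      rw [Nat.card_zpowers, orderOf_eq_prime (hexp3 _ z.2) hz1'] at h2
      have := Nat.le_of_dvd Nat.card_pos h9
      omega
    set x : MulAut V := (z : MulAut V)
    have hxy : ∀ v, x (y v) = y (x v) := fun v => by
      have := congrArg Subtype.val (mem_center_iff.1 hzc ⟨y, hyR⟩)
      exact (DFunLike.congr_fun this v).symm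
    have hne : ∀ i : ℕ, x ^ i * y ≠ 1 := fun i h => hyn (by
      rw [eq_inv_of_mul_eq_one_right h]
      exact inv_mem (pow_mem (mem_zpowers x) i))
    have t : ∀ a ∈ R, a ≠ 1 → ∀ u, u * a u * a (a u) = 1 := fun a ha hne u =>
      tri (hexp3 a ha) (hall a ha hne) u
    apply hv₀
    have e1 := t y hyR (by simpa using hne 0) v₀
    have e2 := t (x * y) (mul_mem z.2 hyR) (by simpa using hne 1) v₀
    have e3 := t (x ^ 2 * y) (mul_mem (pow_mem z.2 2) hyR) (hne 2) v₀
    have e4 := t x z.2 hz1' (y v₀)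
    have e5 := t x z.2 hz1' (y (y v₀))
    have x3 : ∀ u, x (x (x u)) = u := fun u =>
      DFunLike.congr_fun ((pow_three x).symm.trans (hexp3 x z.2)) u
    simp only [pow_two, MulAut.mul_apply, ← hxy, x3] at e1 e2 e3 e4 e5
    have h3 : v₀ ^ 3 * (y v₀ * x (y v₀) * x (x (y v₀))) *
        (y (y v₀) * x (y (y v₀)) * x (x (y (y v₀)))) =
        (v₀ * y v₀ * y (y v₀)) * (v₀ * x (y v₀) * x (x (y (y v₀)))) *
          (v₀ * x (x (y v₀)) * x (y (y v₀))) := by
      rw [pow_three]
      ac_rfl
    rw [e4, e5, e1, e2, e3] at h3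
    simpa [pow_succ, hexp] using h3
  have hprimes : ∀ q : ℕ, q.Prime → q ∣ Nat.card ↥(normalizer (R : Set (MulAut V))) →
      q = 2 ∨ q = 3 := by
    intro q hq hqd
    by_contra hcon
    push Not at hcon
    haveI := Fact.mk hq
    obtain ⟨g, hg⟩ := exists_prime_orderOf_dvd_card' _ hqd
    obtain ⟨hl, hcen⟩ := hA q hq hcon.1 hcon.2 g 1 (by rw [pow_one, ← hg, pow_orderOf_eq_one])
      one_ne_zero
    have hg1 : (g : MulAut V) ≠ 1 := fun h => by
      rw [(Subtype.ext h : g = 1), orderOf_one] at hg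
      exact hq.one_lt.ne hg
    have hg' : orderOf (g : MulAut V) = q := by rw [Subgroup.orderOf_coe, hg]
    have hcomm : ∀ b ∈ R, Commute (g : MulAut V) b := fun b hb => by
      have := congrArg Subtype.val (DFunLike.congr_fun hcen ⟨b, hb⟩)
      exact mul_inv_eq_iff_eq_mul.1 this
    -- fixed points of `g`
    obtain ⟨k, hkn, hk, hktop, hkbot⟩ := exists_card hn (fix (g : MulAut V))
    have hF : fix (g : MulAut V) = ⊥ := by
      letI : MulAction R {w : V // w ∈ (fix (g : MulAut V) : Set V) \ {1}} :=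
        { smul := fun b w => ⟨(b : MulAut V) w.1, fix_invariant (hcomm b b.2) w.2.1, fun h => w.2.2
            ((map_eq_one_iff _ (b : MulAut V).injective).1 h)⟩
          one_smul := fun _ => rfl
          mul_smul := fun _ _ _ => rfl }
      have h := dvd_card_of_orbits (A := R)
        (α := {w : V // w ∈ (fix (g : MulAut V) : Set V) \ {1}}) fun w => by
        refine (horb w.1 w.2.2).trans (dvd_of_eq ?_)
        rw [← Nat.card_image_of_injective Subtype.val_injective (MulAction.orbit R w)]
        refine congrArg (fun s : Set V => Nat.card ↥s) (Set.ext fun u => ⟨?_, ?_⟩)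
        · rintro ⟨b, rfl⟩
          exact ⟨b • w, ⟨b, rfl⟩, rfl⟩
        · rintro ⟨_, ⟨b, rfl⟩, rfl⟩
          exact ⟨b, rfl⟩
      rw [Nat.card_coe_set_eq, Set.ncard_sdiff (Set.singleton_subset_iff.2 (one_mem _)),
        Set.ncard_singleton, ← Nat.card_coe_set_eq] at h
      change 9 ∣ Nat.card (fix (g : MulAut V)) - 1 at h
      rw [hk] at h
      refine hkbot ?_
      by_contra hk0
      interval_cases k
      all_goals first
        | (norm_num at h; done)
        | exact hk0 rfl
        | exact hg1 (MulEquiv.ext fun v => mem_fix.1 (hktop rfl ▸ mem_top v))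
    have hgfree : ∀ b ∈ zpowers (g : MulAut V), ∀ w : V, b w = w → b ≠ 1 → w = 1 := by
      intro b hb w hw hb1
      have he : zpowers b = zpowers (g : MulAut V) := by
        refine eq_of_le_of_card_ge (zpowers_le.2 hb) ?_
        rw [Nat.card_zpowers, Nat.card_zpowers, hg']
        have hd : orderOf b ∣ q := hg' ▸ orderOf_dvd_of_mem_zpowers hb
        rcases (Nat.dvd_prime hq).1 hd with h | h
        · exact absurd (orderOf_eq_one_iff.1 h) hb1
        · exact h.ge
      have hs : zpowers b ≤ MulAction.stabilizer (MulAut V) w := zpowers_le.2 hw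
      have : w ∈ fix (g : MulAut V) := hs (he ▸ mem_zpowers _)
      rwa [hF, mem_bot] at this
    have hdiv : ∀ W : Subgroup V, (∀ w ∈ W, (g : MulAut V) w ∈ W) → q ∣ Nat.card W - 1 := by
      intro W hW
      have h := card_dvd_sub (zpowers (g : MulAut V)) W ⊥ bot_le (pow_invariant W hW)
        (fun b _ w hw => by rw [mem_bot.1 hw, map_one]; exact one_mem _)
        (fun b hb w _ hw hne => hgfree b hb w hw hne)
      rwa [Nat.card_zpowers, hg', card_bot] at h
    have h63 : q ∣ 2 ^ 6 - 1 := by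
      have h := hdiv ⊤ fun _ _ => mem_top _
      rwa [card_top, hn] at h
    have hq7 : q = 7 := by
      rcases hl with rfl | rfl | rfl | h
      · norm_num at h63
      · rfl
      · norm_num at h63
      · exact absurd (by rw [h]; rfl) hg1
    obtain ⟨y, hyR, hy1, hyf⟩ := hy
    obtain ⟨j, hjn, hj, hjtop, hjbot⟩ := exists_card hn (fix y)
    have h7 := hdiv (fix y) fun w hw => fix_invariant (hcomm y hyR).symm hw
    rw [hj, hq7] at h7
    have h3 := card_dvd_sub (zpowers y) ⊤ (fix y) le_top (fun _ _ _ _ => mem_top _)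
      (pow_invariant _ fun w hw => by rw [mem_fix.1 hw]; exact hw)
      (fun b hb w _ hw hne => by
        have he : zpowers b = zpowers y := by
          refine eq_of_le_of_card_ge (zpowers_le.2 hb) ?_
          have hy3 : orderOf y = 3 := orderOf_eq_prime (hexp3 y hyR) hy1
          rw [Nat.card_zpowers, Nat.card_zpowers, hy3, orderOf_eq_prime
            (orderOf_dvd_iff_pow_eq_one.1 (hy3 ▸ orderOf_dvd_of_mem_zpowers hb)) hne]
        have hs : zpowers b ≤ MulAction.stabilizer (MulAut V) w := zpowers_le.2 hw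
        exact hs (he ▸ mem_zpowers y))
    rw [Nat.card_zpowers, orderOf_eq_prime (hexp3 y hyR) hy1, card_top, hn, hj] at h3
    interval_cases j
    all_goals first
      | (norm_num at h7; done)
      | (norm_num at h3; done)
      | exact hyf (hjbot rfl)
      | exact hy1 (MulEquiv.ext fun v => mem_fix.1 (hjtop rfl ▸ mem_top v))
  obtain ⟨a, m, hm, ho⟩ := Nat.exists_eq_pow_mul_and_not_dvd
    (Nat.card_pos (α := ↥(normalizer (R : Set (MulAut V))))).ne' 2 (by norm_num)
  have hm0 : m ≠ 0 := by rintro rfl; exact hm (dvd_zero 2)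
  have hmp := Nat.eq_prime_pow_of_unique_prime_dvd hm0 (p := 3) fun {q} hq hqd =>
    (hprimes q hq (ho ▸ dvd_mul_of_dvd_right hqd _)).resolve_left fun e => hm (e ▸ hqd)
  exact S0144.result 2 3 a _ Nat.prime_two Nat.prime_three (ho.trans (congrArg _ hmp))

end Cfsg.Agent.FG75.TransNormaliser
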